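import Cfsg.Agent.OddHalf.D7TwF4.Growth.Tools

/-!
# Growth for `²F₄(q)`: changing the position (helper702)
-/

set_option autoImplicit false
set_option linter.unusedVariables false

namespace Cfsg.Agent.OddHalf.D7TwF4.Growth.Frame

open Cfsg.Agent.OddHalf.D7TwF4.Growth.Defs Cfsg.Agent.OddHalf.D7TwF4.Growth.Tools

variable {G : Type*} [Group G]

/-- the family in the position `k ↦ 2 c + e k` -/
def F (c e : ℤ) (X : ℤ → Subgroup G) : ℤ → Subgroup G := fun k => X (2 * c + e * k)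

theorem F_F (c e c' e' : ℤ) (X : ℤ → Subgroup G) : F c' e' (F c e X) = F (c + e * c') (e * e') X := by
  funext k
  show X (2 * c + e * (2 * c' + e' * k)) = X (2 * (c + e * c') + e * e' * k)
  congr 1; ring

theorem F_id (X : ℤ → Subgroup G) : F 0 1 X = X := by
  funext k
  show X (2 * 0 + 1 * k) = X k
  congr 1; ring

theorem gen {τ : G →* G} {X Y W T : ℤ → Subgroup G} (h : Gen τ X Y W T) {c e : ℤ} (he : e = 1 ∨ e = -1) :
    Gen τ (F c e X) (F c e Y) (F c e W) (F c e T) where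
  tt := h.tt
  tX i := h.tX _
  tT i := h.tT _
  YX i := h.YX _
  Yo i := by
    show Y (2 * c + e * (2 * i + 1)) = X (2 * c + e * (2 * i + 1))
    rcases he with rfl | rfl
    · have : 2 * c + 1 * (2 * i + 1) = 2 * (c + i) + 1 := by ring
      rw [this]; exact h.Yo _
    · have : 2 * c + (-1) * (2 * i + 1) = 2 * (c - i - 1) + 1 := by ring
      rw [this]; exact h.Yo _
  YW i := h.YW _
  Wab i := h.Wab _
  Wsq i := h.Wsq _
  Wt i := h.Wt _
  Wf i := h.Wf _
  Ws i := h.Ws _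
  TX i j := h.TX _ _
  TY i j := h.TY _ _
  TW i j := h.TW _ _
  TT i j := h.TT _ _
  TXc i := h.TXc _
  TWc i := h.TWc _
  Todd i := h.Todd _
  hf i j hij := h.hf _ _ (by
    rcases he with rfl | rfl
    · have e1 : 2 * c + 1 * j - (2 * c + 1 * i) = j - i := by ring
      rw [e1]; exact hij
    · have e1 : 2 * c + (-1) * j - (2 * c + (-1) * i) = -(j - i) := by ring
      rw [e1, dvd_neg]; exact hij)

theorem inp {τ : G →* G} {X Y W T : ℤ → Subgroup G} (h : Inp τ X Y W T) (c : ℤ) {e : ℤ} (he : e = 1 ∨ e = -1) :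
    Inp τ (F c e X) (F c e Y) (F c e W) (F c e T) where
  toGen := gen h.toGen he
  fr c' e' he' := by
    have h1 := h.fr (c + e * c') (e * e') (by
      rcases he with rfl | rfl <;> rcases he' with rfl | rfl <;> norm_num)
    have e1 : ∀ X : ℤ → Subgroup G, (fun k => F c e X (2 * c' + e' * k)) =
        fun k => X (2 * (c + e * c') + e * e' * k) := fun X => F_F c e c' e' X
    rw [e1, e1, e1, e1]
    exact h1

theorem base {τ : G →* G} {X Y W T : ℤ → Subgroup G} (h : Inp τ X Y W T) : Base τ X Y W T := by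
  have h1 := h.fr 0 1 (Or.inl rfl)
  have e1 : ∀ X : ℤ → Subgroup G, (fun k => X (2 * 0 + 1 * k)) = X := F_id
  rwa [e1, e1, e1, e1] at h1

/-- the reflection `k ↦ -k` -/
theorem neg {τ : G →* G} {X Y W T : ℤ → Subgroup G} (h : Inp τ X Y W T) :
    Inp τ (F 0 (-1) X) (F 0 (-1) Y) (F 0 (-1) W) (F 0 (-1) T) := inp h 0 (Or.inr rfl)

/-- the reflection `k ↦ 2 - k` -/
theorem ref {τ : G →* G} {X Y W T : ℤ → Subgroup G} (h : Inp τ X Y W T) :
    Inp τ (F 1 (-1) X) (F 1 (-1) Y) (F 1 (-1) W) (F 1 (-1) T) := inp h 1 (Or.inr rfl)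

/-- the shift `k ↦ 2 c + k` -/
theorem sh {τ : G →* G} {X Y W T : ℤ → Subgroup G} (h : Inp τ X Y W T) (c : ℤ) :
    Inp τ (F c 1 X) (F c 1 Y) (F c 1 W) (F c 1 T) := inp h c (Or.inl rfl)

/-- the reflection `k ↦ 2 c - k` -/
theorem rf {τ : G →* G} {X Y W T : ℤ → Subgroup G} (h : Inp τ X Y W T) (c : ℤ) :
    Inp τ (F c (-1) X) (F c (-1) Y) (F c (-1) W) (F c (-1) T) := inp h c (Or.inr rfl)

end Cfsg.Agent.OddHalf.D7TwF4.Growth.Frame
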