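import Cfsg.Agent.OddHalf.D7TwF4.Growth.KDefs
import Cfsg.Agent.KFacts.TwF4.TorFix

/-!
# Growth of the doubled root groups of `²F₄(q)`: the subgroups of `U` and the relations (helper517)

`YZ S k = Z(X_k)` for `k` even and `X_k` for `k` odd, `S.Tk k = C_T(X_k)`. Standard frame `k ↦ 4 + k`:

* `EK = Z_4 X_5 Z_6`, `RK = X_3 EK`, `Q2 = Z_2 RK`, `Q1 = X_4 Q2`, `PK = Q1 X_6`, `MK = PK X_7`, `NK = MK Z_8 = NO`,
  `QpK = ⟨X_2, …, X_7⟩`, `Q0 = ⟨X_1, …, X_7⟩`;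
* the relations and independence.
-/

set_option autoImplicit false
set_option linter.unusedSectionVars false

namespace Cfsg.Agent.OddHalf.D7TwF4.Growth.KInst

open Cfsg.Agent.KFacts.TwF4 Cfsg.Agent.SplitTwo.ZS Cfsg.Agent.OddHalf.D7TwF4.Growth.Defs
open scoped commutatorElement

universe u

variable {F : Type*} [Field F] {σ : F →+* F} {G : Type u} [Group G] (S : Full σ G)

/-- `Z(X_k)` for `k` even, `X_k` for `k` odd -/
noncomputable def YZ (k : ℤ) : Subgroup G := if Even k then S.Zc ((k / 2 : ℤ) : ZMod 8) else S.XZ k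

theorem YZ_even (a : ℤ) : YZ S (2 * a) = S.Zc (a : ZMod 8) := by
  unfold YZ
  rw [if_pos (even_two_mul a), Int.mul_ediv_cancel_left a (by norm_num)]

theorem YZ_odd (a : ℤ) : YZ S (2 * a + 1) = S.XZ (2 * a + 1) := by
  unfold YZ
  rw [if_neg (by rw [Int.not_even_iff_odd]; exact ⟨a, rfl⟩)]

theorem YZ1 : YZ S 1 = S.XZ 1 := YZ_odd S 0
theorem YZ2 : YZ S 2 = S.Zc 1 := by
  have := YZ_even S 1
  push_cast at this
  exact this
theorem YZ3 : YZ S 3 = S.XZ 3 := YZ_odd S 1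
theorem YZ4 : YZ S 4 = S.Zc 2 := YZ_even S 2
theorem YZ5 : YZ S 5 = S.XZ 5 := YZ_odd S 2
theorem YZ6 : YZ S 6 = S.Zc 3 := YZ_even S 3
theorem YZ7 : YZ S 7 = S.XZ 7 := YZ_odd S 3
theorem YZ8 : YZ S 8 = S.Zc 4 := YZ_even S 4

/-! ### the subgroups -/

/-- the root groups in the standard frame -/
abbrev Xf (k : ℤ) : Subgroup G := S.XZ (4 + k)
/-- their centres in the standard frame -/
noncomputable abbrev Yf (k : ℤ) : Subgroup G := YZ S (4 + k)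
/-- the torus in the standard frame -/
abbrev Tf (k : ℤ) : Subgroup G := S.Tk (4 + k)

theorem EK_eq : EK (Yf S) = S.Zc 2 ⊔ S.XZ 5 ⊔ S.Zc 3 := by
  show YZ S 4 ⊔ YZ S 5 ⊔ YZ S 6 = _
  rw [YZ4, YZ5, YZ6]

theorem RK_eq : RK (Yf S) = S.Zc 2 ⊔ S.XZ 5 ⊔ S.Zc 3 ⊔ S.XZ 3 := by
  show EK (Yf S) ⊔ YZ S 3 = _
  rw [EK_eq, YZ3]

theorem Q2_eq : Q2 (Yf S) = S.Q2 := by
  show RK (Yf S) ⊔ YZ S 2 = _
  rw [RK_eq, YZ2]
  show _ = S.Zc 1 ⊔ S.XZ 3 ⊔ S.Zc 2 ⊔ S.XZ 5 ⊔ S.Zc 3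
  ac_rfl

theorem Q1_eq : Q1 (Xf S) (Yf S) = S.Q1 := by
  show Q2 (Yf S) ⊔ S.XZ 4 = S.XZ 4 ⊔ S.Q2
  rw [Q2_eq, sup_comm]

theorem PK_eq : PK (Xf S) (Yf S) = S.Q1 ⊔ S.XZ 6 := by
  show Q1 (Xf S) (Yf S) ⊔ S.XZ 6 = _
  rw [Q1_eq]

theorem Zc_le4 : S.Zc 2 ≤ S.XZ 4 := by
  rintro _ ⟨u, rfl⟩; exact S.mX4 0 u
theorem Zc_le6 : S.Zc 3 ≤ S.XZ 6 := by
  rintro _ ⟨u, rfl⟩; exact S.mX6 0 u
theorem Zc_le2 : S.Zc 1 ≤ S.XZ 2 := by
  rintro _ ⟨u, rfl⟩; exact S.mX2 0 u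
theorem Zc_le8 : S.Zc 4 ≤ S.XZ 8 := by
  rintro _ ⟨u, rfl⟩; exact S.mX8 0 u

theorem MK_eq : MK (Xf S) (Yf S) = S.Zc 1 ⊔ J S.XZ 3 7 := by
  show PK (Xf S) (Yf S) ⊔ YZ S 7 = _
  rw [PK_eq, YZ7]
  have hj : ∀ k : ℤ, 3 ≤ k → k ≤ 7 → S.XZ k ≤ S.Zc 1 ⊔ J S.XZ 3 7 := fun k h1 h2 => (X_le_J h1 h2).trans le_sup_right
  apply le_antisymm
  · refine sup_le (sup_le (sup_le (hj 4 (by norm_num) (by norm_num)) ?_) (hj 6 (by norm_num) (by norm_num)))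
      (hj 7 (by norm_num) (by norm_num))
    exact S.Q2_le (fun u => Subgroup.mem_sup_left ⟨u, rfl⟩) (fun t => hj 3 (by norm_num) (by norm_num) (S.mX3 t))
      (fun u => hj 4 (by norm_num) (by norm_num) (S.mX4 0 u)) (fun t => hj 5 (by norm_num) (by norm_num) (S.mX5 t))
      (fun u => hj 6 (by norm_num) (by norm_num) (S.mX6 0 u))
  · refine sup_le ?_ (J_le fun k h1 h2 x hx => ?_)
    · rintro _ ⟨u, rfl⟩
      exact Subgroup.mem_sup_left (Subgroup.mem_sup_left (Subgroup.mem_sup_right (S.q2_1 u)))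
    · interval_cases k
      · obtain ⟨t, rfl⟩ := S.X3 hx
        exact Subgroup.mem_sup_left (Subgroup.mem_sup_left (Subgroup.mem_sup_right (S.q2_2 t)))
      · exact Subgroup.mem_sup_left (Subgroup.mem_sup_left (Subgroup.mem_sup_left hx))
      · obtain ⟨t, rfl⟩ := S.X5 hx
        exact Subgroup.mem_sup_left (Subgroup.mem_sup_left (Subgroup.mem_sup_right (S.q2_4 t)))
      · exact Subgroup.mem_sup_left (Subgroup.mem_sup_right hx)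
      · exact Subgroup.mem_sup_right hx

theorem NK_eq : NK (Xf S) (Yf S) = S.NO := by
  show MK (Xf S) (Yf S) ⊔ YZ S 8 = _
  rw [MK_eq, YZ8]
  apply le_antisymm
  · refine sup_le (sup_le ?_ S.J37_le) ?_
    · rintro _ ⟨u, rfl⟩; exact S.Z2_NO u
    · rintro _ ⟨u, rfl⟩; exact S.Z8_NO u
  · intro q hq
    obtain ⟨u, v, r, hr, rfl⟩ := S.mem_NO_iff.1 hq
    exact mul_mem (mul_mem (Subgroup.mem_sup_left (Subgroup.mem_sup_left ⟨u, rfl⟩))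
      (Subgroup.mem_sup_left (Subgroup.mem_sup_right hr))) (Subgroup.mem_sup_right ⟨v, rfl⟩)

theorem QpK_eq : QpK (Xf S) (Yf S) = J S.XZ 2 7 := by
  show MK (Xf S) (Yf S) ⊔ S.XZ 2 = _
  rw [MK_eq]
  apply le_antisymm
  · exact sup_le (sup_le ((Zc_le2 S).trans (X_le_J (by norm_num) (by norm_num))) (J_mono (by norm_num) (by norm_num)))
      (X_le_J (by norm_num) (by norm_num))
  · refine J_le fun k h1 h2 => ?_
    rcases eq_or_lt_of_le h1 with h3 | h3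
    · rw [← h3]; exact le_sup_right
    · exact (X_le_J (by omega) h2).trans (le_sup_right.trans le_sup_left)

theorem Q0_eq : Q0 (Xf S) (Yf S) = J S.XZ 1 7 := by
  show QpK (Xf S) (Yf S) ⊔ YZ S 1 = _
  rw [QpK_eq, YZ1]
  apply le_antisymm
  · exact sup_le (J_mono (by norm_num) (by norm_num)) (X_le_J (by norm_num) (by norm_num))
  · refine J_le fun k h1 h2 => ?_
    rcases eq_or_lt_of_le h1 with h3 | h3
    · rw [← h3]; exact le_sup_right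
    · exact (X_le_J (by omega) h2).trans le_sup_left

/-! ### membership -/

theorem EK_four (u : F) : S.e 2 0 u ∈ EK (Yf S) := by
  rw [EK_eq]; exact Subgroup.mem_sup_left (Subgroup.mem_sup_left ⟨u, rfl⟩)
theorem EK_five (t : F) : S.o 2 t ∈ EK (Yf S) := by
  rw [EK_eq]; exact Subgroup.mem_sup_left (Subgroup.mem_sup_right (S.mX5 t))
theorem EK_six (u : F) : S.e 3 0 u ∈ EK (Yf S) := by
  rw [EK_eq]; exact Subgroup.mem_sup_right ⟨u, rfl⟩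

theorem EK_eq_V5 : EK (Yf S) = S.V5 := by
  rw [EK_eq]
  apply le_antisymm
  · refine sup_le (sup_le ?_ le_sup_right) ?_
    · rintro _ ⟨u, rfl⟩; exact Subgroup.mem_sup_left (S.Z4_W46 u)
    · rintro _ ⟨u, rfl⟩; exact Subgroup.mem_sup_left (S.Z6_W46 u)
  · refine sup_le ?_ (le_sup_right.trans le_sup_left)
    rintro _ ⟨u, v, rfl⟩
    exact mul_mem (Subgroup.mem_sup_left (Subgroup.mem_sup_left ⟨u, rfl⟩)) (Subgroup.mem_sup_right ⟨v, rfl⟩)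

theorem EK_le : EK (Yf S) ≤ J S.XZ 4 6 := by
  rw [EK_eq]
  exact sup_le (sup_le ((Zc_le4 S).trans (X_le_J (by norm_num) (by norm_num))) (X_le_J (by norm_num) (by norm_num)))
    ((Zc_le6 S).trans (X_le_J (by norm_num) (by norm_num)))

theorem RK_le : RK (Yf S) ≤ J S.XZ 3 6 := by
  show EK (Yf S) ⊔ YZ S 3 ≤ _
  rw [YZ3]
  exact sup_le ((EK_le S).trans (J_mono (by norm_num) (by norm_num))) (X_le_J (by norm_num) (by norm_num))

theorem RK_three (t : F) : S.o 1 t ∈ RK (Yf S) := by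
  rw [RK_eq]; exact Subgroup.mem_sup_right (S.mX3 t)

theorem EK_le_RK : EK (Yf S) ≤ RK (Yf S) := le_sup_left
theorem RK_le_Q2 : RK (Yf S) ≤ Q2 (Yf S) := le_sup_left

theorem J37_le_MK : J S.XZ 3 7 ≤ MK (Xf S) (Yf S) := by
  rw [MK_eq]; exact le_sup_right

theorem MK_two (u : F) : S.e 1 0 u ∈ MK (Xf S) (Yf S) := by
  rw [MK_eq]; exact Subgroup.mem_sup_left ⟨u, rfl⟩

/-! ### relations -/

/-- commutators from the relations `x y = y x c` -/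
theorem comm_mem {A B : Subgroup G} {C : Subgroup G} (h : ∀ a ∈ A, ∀ b ∈ B, (b * a)⁻¹ * (a * b) ∈ C) : Cl A B C := by
  intro a ha b hb
  have e := h a⁻¹ (inv_mem ha) b⁻¹ (inv_mem hb)
  have e1 : (b⁻¹ * a⁻¹)⁻¹ * (a⁻¹ * b⁻¹) = a * b * a⁻¹ * b⁻¹ := by group
  rwa [e1] at e

theorem base {C : Subgroup G} {y : G} : y⁻¹ * y ∈ C := by
  rw [inv_mul_cancel]; exact one_mem _

theorem step {C : Subgroup G} {y z c : G} (h : y⁻¹ * z ∈ C) (hc : c ∈ C) : y⁻¹ * (z * c) ∈ C := by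
  rw [← mul_assoc]; exact mul_mem h hc

theorem Cl.swap {A B C : Subgroup G} (h : Cl A B C) : Cl B A C := by
  intro b hb a ha
  have h1 := inv_mem (h a ha b hb)
  have e : (a * b * a⁻¹ * b⁻¹)⁻¹ = b * a * b⁻¹ * a⁻¹ := by group
  rwa [e] at h1

theorem x13 : Cm (Xf S (-1)) (Xf S 3) := by
  intro a ha b hb
  obtain ⟨t, rfl⟩ := S.X3 (x := a) ha
  obtain ⟨s, rfl⟩ := S.X7 (x := b) hb
  exact S.o_o2 1 t s

theorem x04 : Cm (Xf S 0) (Xf S 4) := by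
  intro a ha b hb
  obtain ⟨p, u, rfl⟩ := S.X4 (x := a) ha
  obtain ⟨q, v, rfl⟩ := S.X8 (x := b) hb
  exact S.e_e2 2 p u q v

theorem r14 : Cl (Xf S (-1)) (Xf S 4) (EK (Yf S)) := by
  refine comm_mem fun a ha b hb => ?_
  obtain ⟨t, rfl⟩ := S.X3 (x := a) ha
  obtain ⟨q, v, rfl⟩ := S.X8 (x := b) hb
  have e : S.o 1 t * S.e 4 q v = _ := S.o_e3 1 t q v
  rw [e]
  exact step (step (step base (EK_four S _)) (EK_five S _)) (EK_six S _)

theorem r24z : Cl (Yf S (-2)) (Xf S 4) (RK (Yf S)) := by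
  refine comm_mem fun a ha b hb => ?_
  have ha' : a ∈ S.Zc 1 := by rw [← YZ2]; exact ha
  obtain ⟨u, rfl⟩ := ha'
  obtain ⟨q, v, rfl⟩ := S.X8 (x := b) hb
  have e : S.e 1 0 u * S.e 4 q v = _ := S.e_e3 1 0 u q v
  simp only [zero_mul, map_zero, zero_add] at e
  rw [S.o_zero, mul_one] at e
  rw [e]
  exact step (step (step (step base (RK_three S _)) (EK_le_RK S (EK_four S _))) (EK_le_RK S (EK_five S _)))
    (EK_le_RK S (EK_six S _))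

theorem j37 {k : ℤ} (h1 : 3 ≤ k) (h2 : k ≤ 7) {x : G} (hx : x ∈ S.XZ k) : x ∈ MK (Xf S) (Yf S) :=
  J37_le_MK S (mem_J hx h1 h2)

theorem r24 : Cl (Xf S (-2)) (Xf S 4) (MK (Xf S) (Yf S)) := by
  refine comm_mem fun a ha b hb => ?_
  obtain ⟨p, u, rfl⟩ := S.X2 (x := a) ha
  obtain ⟨q, v, rfl⟩ := S.X8 (x := b) hb
  have e : S.e 1 p u * S.e 4 q v = _ := S.e_e3 1 p u q v
  rw [e]
  exact step (step (step (step (step base (j37 S (by norm_num) (by norm_num) (S.mX3 _)))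
    (j37 S (by norm_num) (by norm_num) (S.mX4 _ _))) (j37 S (by norm_num) (by norm_num) (S.mX5 _)))
    (j37 S (by norm_num) (by norm_num) (S.mX6 _ _))) (j37 S (by norm_num) (by norm_num) (S.mX7 _))

theorem r33 : Cl (Xf S 3) (Xf S (-3)) (Yf S (-1) ⊔ Yf S 1) := by
  refine Cl.swap (comm_mem fun a ha b hb => ?_)
  obtain ⟨t, rfl⟩ := S.X1 (x := a) ha
  obtain ⟨s, rfl⟩ := S.X7 (x := b) hb
  have e : S.o 0 t * S.o 3 s = _ := S.o_o3 0 t s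
  rw [e]
  refine step (step base (Subgroup.mem_sup_left ?_)) (Subgroup.mem_sup_right ?_)
  · show _ ∈ YZ S 3
    rw [YZ3]; exact S.mX3 _
  · show _ ∈ YZ S 5
    rw [YZ5]; exact S.mX5 _

theorem r34z : Cl (Xf S (-3)) (Yf S 4) (MK (Xf S) (Yf S)) := by
  refine comm_mem fun a ha b hb => ?_
  obtain ⟨t, rfl⟩ := S.X1 (x := a) ha
  have hb' : b ∈ S.Zc 4 := by rw [← YZ8]; exact hb
  obtain ⟨v, rfl⟩ := hb'
  have e : S.o 0 t * S.e 4 0 v = _ := S.o_e4 0 t 0 v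
  rw [e, mul_zero]
  exact step (step (step (step (step (step base (MK_two S _)) (j37 S (by norm_num) (by norm_num) (S.mX3 _)))
    (j37 S (by norm_num) (by norm_num) (S.mX4 _ _))) (j37 S (by norm_num) (by norm_num) (S.mX5 _)))
    (j37 S (by norm_num) (by norm_num) (S.mX6 _ _))) (j37 S (by norm_num) (by norm_num) (S.mX7 _))

theorem r34 : Cl (Xf S (-3)) (Xf S 4) (QpK (Xf S) (Yf S)) := by
  rw [QpK_eq]
  refine comm_mem fun a ha b hb => ?_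
  obtain ⟨t, rfl⟩ := S.X1 (x := a) ha
  obtain ⟨q, v, rfl⟩ := S.X8 (x := b) hb
  have e : S.o 0 t * S.e 4 q v = _ := S.o_e4 0 t q v
  rw [e]
  exact step (step (step (step (step (step base (mem_J (S.mX2 _ _) (by norm_num) (by norm_num)))
    (mem_J (S.mX3 _) (by norm_num) (by norm_num))) (mem_J (S.mX4 _ _) (by norm_num) (by norm_num)))
    (mem_J (S.mX5 _) (by norm_num) (by norm_num))) (mem_J (S.mX6 _ _) (by norm_num) (by norm_num)))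
    (mem_J (S.mX7 _) (by norm_num) (by norm_num))

/-! ### `X₅`, `X₄` normalise `NK` -/

theorem nk5 : Nz (Xf S 5) (NK (Xf S) (Yf S)) := by
  rw [NK_eq]
  intro x hx q hq
  have hx' : x ∈ S.XZ 9 := hx
  refine ⟨S.zsys8.conj_J (a := 2) (b := 8) (c := 9) (d := 9) (by norm_num) (by norm_num) (by norm_num)
    (mem_J hx' le_rfl le_rfl) hq.1, ?_⟩
  have h1 : x ∈ Subgroup.centralizer (S.XZ 5 : Set G) := S.LO_le_cent (Subgroup.mem_sup_right hx')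
  have h2 : x * q * x⁻¹ ∈ Subgroup.centralizer (S.XZ 5 : Set G) := mul_mem (mul_mem h1 hq.2) (inv_mem h1)
  exact h2

theorem nk4 : Nz (Xf S 4) (NK (Xf S) (Yf S)) := by
  intro x hx q hq
  have hN : ∀ k : ℤ, 3 ≤ k → k ≤ 7 → S.XZ k ≤ S.NO := fun k h1 h2 => (X_le_J h1 h2).trans S.J37_le
  have hN' := NK_eq S
  rw [hN'] at hq ⊢
  have hJ : ∀ q ∈ J S.XZ 3 7, x * q * x⁻¹ ∈ S.NO := fun q hq => S.J37_le
    (S.zsys8.conj_J (a := 3) (b := 7) (c := 8) (d := 8) (by norm_num) (by norm_num) (by norm_num)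
      (mem_J (show x ∈ S.XZ 8 from hx) le_rfl le_rfl) hq)
  have hZ : ∀ u, x * S.e 1 0 u * x⁻¹ ∈ S.NO := by
    intro u
    have h1 : S.e 1 0 u ∈ Yf S (-2) := by show _ ∈ YZ S 2; rw [YZ2]; exact ⟨u, rfl⟩
    have h2 := Cl.swap (r24z S) x hx _ h1
    have h3 : x * S.e 1 0 u * x⁻¹ * (S.e 1 0 u)⁻¹ ∈ S.NO :=
      S.J37_le (J_mono (by norm_num) (by norm_num) (RK_le S h2))
    have e : x * S.e 1 0 u * x⁻¹ = x * S.e 1 0 u * x⁻¹ * (S.e 1 0 u)⁻¹ * S.e 1 0 u := by group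
    rw [e]
    exact mul_mem h3 (S.Z2_NO u)
  have h8 : ∀ v, x * S.e 4 0 v * x⁻¹ ∈ S.NO := by
    intro v
    obtain ⟨q, w, rfl⟩ := S.X8 (x := x) hx
    have e : S.e 4 q w * S.e 4 0 v = S.e 4 0 v * S.e 4 q w := by
      rw [S.e_mul, S.e_mul, map_zero, mul_zero, zero_mul, add_zero, zero_add, add_zero, add_zero, add_comm]
    rw [e, mul_inv_cancel_right]
    exact S.Z8_NO v
  obtain ⟨u, v, r, hr, rfl⟩ := S.mem_NO_iff.1 hq
  have e : x * (S.e 1 0 u * r * S.e 4 0 v) * x⁻¹ = (x * S.e 1 0 u * x⁻¹) * (x * r * x⁻¹) * (x * S.e 4 0 v * x⁻¹) := by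
    group
  rw [e]
  exact mul_mem (mul_mem (hZ u) (hJ r hr)) (h8 v)

/-! ### commuting with a root group -/

theorem ka : ∀ c ∈ EK (Yf S), (∀ x ∈ Xf S (-2), c * x = x * c) → c ∈ Yf S 0 ⊔ Yf S 2 := by
  intro c hc h
  rw [EK_eq_V5] at hc
  obtain ⟨u, s, v, rfl⟩ := S.mem_V5.1 hc
  have h1 := h (S.e 1 1 0) (S.mX2 1 0)
  have hz := fun u => S.comm_Z4 (k := 2) (by norm_num) (by norm_num) (S.mX2 1 0) u
  have hz' := fun v => S.comm_Z6 (k := 2) (by norm_num) (by norm_num) (S.mX2 1 0) v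
  have h2 : S.e 1 1 0 * S.o 2 s = S.o 2 s * S.e 1 1 0 * S.e 2 0 (1 * s) := S.e_o1 1 1 0 s
  have h3 : S.e 2 0 u * S.o 2 s * S.e 3 0 v * S.e 1 1 0 = S.e 2 0 u * (S.o 2 s * S.e 1 1 0) * S.e 3 0 v := by
    calc S.e 2 0 u * S.o 2 s * S.e 3 0 v * S.e 1 1 0 = S.e 2 0 u * S.o 2 s * (S.e 3 0 v * S.e 1 1 0) := by group
      _ = _ := by rw [← hz']; group
  have h4 : S.e 1 1 0 * (S.e 2 0 u * S.o 2 s * S.e 3 0 v) =
      S.e 2 0 u * (S.o 2 s * S.e 1 1 0 * S.e 2 0 (1 * s)) * S.e 3 0 v := by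
    calc S.e 1 1 0 * (S.e 2 0 u * S.o 2 s * S.e 3 0 v) = (S.e 1 1 0 * S.e 2 0 u) * S.o 2 s * S.e 3 0 v := by group
      _ = S.e 2 0 u * (S.e 1 1 0 * S.o 2 s) * S.e 3 0 v := by rw [hz]; group
      _ = _ := by rw [h2]
  rw [h3, h4] at h1
  have h5 := mul_left_cancel (mul_right_cancel h1)
  have h6 := (S.e_eq_one (left_eq_mul.1 h5)).2
  rw [one_mul] at h6
  rw [h6, S.o_zero, mul_one]
  refine mul_mem (Subgroup.mem_sup_left ?_) (Subgroup.mem_sup_right ?_)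
  · show _ ∈ YZ S 4
    rw [YZ4]; exact ⟨u, rfl⟩
  · show _ ∈ YZ S 6
    rw [YZ6]; exact ⟨v, rfl⟩

theorem kc : ∀ c ∈ Xf S (-3), (∀ y ∈ Yf S 2, c * y = y * c) → c = 1 := by
  intro c hc h
  obtain ⟨t, rfl⟩ := S.X1 (x := c) hc
  have h1 := h (S.e 3 0 1) (by show _ ∈ YZ S 6; rw [YZ6]; exact ⟨1, rfl⟩)
  have r1 : S.o 0 t * S.e 3 0 1 = S.e 3 0 1 * S.o 0 t * S.e 1 0 (σ t * 0) * S.o 1 (t * σ 0) *
      S.e 2 0 (t * 0 * σ 0 + t * 1) := S.o_e3 0 t 0 1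
  rw [map_zero, mul_zero, mul_zero, mul_zero, zero_add, S.o_zero, S.e_zero, mul_one, mul_one, mul_one] at r1
  rw [r1] at h1
  have h2 := (S.e_eq_one (mul_eq_left.1 h1)).2
  rw [h2, S.o_zero]

/-! ### independence -/

theorem Yf0 : Yf S 0 = S.Zc 2 := YZ4 S
theorem Yf1 : Yf S 1 = S.XZ 5 := YZ5 S
theorem Yf2 : Yf S 2 = S.Zc 3 := YZ6 S
theorem Yf3 : Yf S 3 = S.XZ 7 := YZ7 S
theorem Yf4 : Yf S 4 = S.Zc 4 := YZ8 S
theorem Yfm1 : Yf S (-1) = S.XZ 3 := YZ3 S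
theorem Yfm2 : Yf S (-2) = S.Zc 1 := YZ2 S
theorem Yfm3 : Yf S (-3) = S.XZ 1 := YZ1 S

theorem i01 : Yf S 0 ⊓ Yf S 1 = ⊥ := by
  rw [Yf0, Yf1, eq_bot_iff]
  rintro x ⟨h1, h2⟩
  exact S.X_inf_near (i := 4) (j := 5) (by norm_num) (by norm_num) (Zc_le4 S h1) h2

theorem bot_of {A B : Subgroup G} {a b c d : ℤ} (hA : A ≤ J S.XZ a b) (hB : B ≤ J S.XZ c d) (h1 : 1 ≤ a) (h2 : b < 9)
    (h3 : 1 ≤ c) (h4 : d < 9) (h : b < c ∨ d < a) : A ⊓ B = ⊥ := by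
  rw [eq_bot_iff]
  rintro x ⟨h5, h6⟩
  exact S.zsys8.inter_one 1 (hA h5) (hB h6) h1 (by omega) h3 (by omega) h

theorem i012 : (Yf S 0 ⊔ Yf S 1) ⊓ Yf S 2 = ⊥ := by
  rw [Yf0, Yf1, Yf2]
  exact bot_of S (a := 4) (b := 5) (c := 6) (d := 6) (sup_le ((Zc_le4 S).trans (X_le_J (by norm_num) (by norm_num)))
    (X_le_J (by norm_num) (by norm_num))) ((Zc_le6 S).trans (X_le_J (by norm_num) (by norm_num))) (by norm_num)
    (by norm_num) (by norm_num) (by norm_num) (Or.inl (by norm_num))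

theorem i1 : EK (Yf S) ⊓ Yf S (-1) = ⊥ := by
  rw [Yfm1]
  exact bot_of S (EK_le S) (c := 3) (d := 3) (X_le_J (by norm_num) (by norm_num)) (by norm_num) (by norm_num)
    (by norm_num) (by norm_num) (Or.inr (by norm_num))

theorem i2 : RK (Yf S) ⊓ Yf S (-2) = ⊥ := by
  rw [Yfm2]
  exact bot_of S (RK_le S) (c := 2) (d := 2) ((Zc_le2 S).trans (X_le_J (by norm_num) (by norm_num))) (by norm_num)
    (by norm_num) (by norm_num) (by norm_num) (Or.inr (by norm_num))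

theorem PK_le : PK (Xf S) (Yf S) ≤ J S.XZ 2 6 := by
  rw [PK_eq]
  exact sup_le S.Q1_le_J (X_le_J (by norm_num) (by norm_num))

theorem i5 : PK (Xf S) (Yf S) ⊓ Yf S 3 = ⊥ := by
  rw [Yf3]
  exact bot_of S (PK_le S) (c := 7) (d := 7) (X_le_J (by norm_num) (by norm_num)) (by norm_num) (by norm_num)
    (by norm_num) (by norm_num) (Or.inl (by norm_num))

theorem i6 : MK (Xf S) (Yf S) ⊓ Xf S (-2) ≤ Yf S (-2) := by
  rw [MK_eq, Yfm2]
  rintro x ⟨h1, h2⟩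
  have h2' : x ∈ S.XZ 2 := h2
  obtain ⟨z, hz, j, hj, rfl⟩ := mem_sup_of_norm (A := S.Zc 1) (B := J S.XZ 3 7) (fun z hz q hq =>
    S.zsys8.conj_J (a := 3) (b := 7) (c := 2) (d := 2) (by norm_num) (by norm_num) (by norm_num)
      (mem_J (Zc_le2 S hz) le_rfl le_rfl) hq) h1
  have h3 : j ∈ S.XZ 2 := by
    have := mul_mem (inv_mem (Zc_le2 S hz)) h2'
    rwa [inv_mul_cancel_left] at this
  have h4 : j = 1 := S.zsys8.inter 2 j h3 (J_mono (by norm_num) (by norm_num) hj)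
  rw [h4, mul_one]
  exact hz

theorem i7 : QpK (Xf S) (Yf S) ⊓ Yf S (-3) = ⊥ := by
  rw [Yfm3]
  exact bot_of S (QpK_eq S).le (c := 1) (d := 1) (X_le_J (by norm_num) (by norm_num)) (by norm_num) (by norm_num)
    (by norm_num) (by norm_num) (Or.inr (by norm_num))

theorem i8 : Q0 (Xf S) (Yf S) ⊓ Yf S 4 = ⊥ := by
  rw [Yf4]
  exact bot_of S (Q0_eq S).le (c := 8) (d := 8) ((Zc_le8 S).trans (X_le_J (by norm_num) (by norm_num))) (by norm_num)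
    (by norm_num) (by norm_num) (by norm_num) (Or.inl (by norm_num))

theorem i9 : (Q0 (Xf S) (Yf S) ⊔ Yf S 4) ⊓ Xf S 4 ≤ Yf S 4 := by
  rw [Q0_eq, Yf4, sup_comm]
  rintro x ⟨h1, h2⟩
  have h2' : x ∈ S.XZ 8 := h2
  obtain ⟨z, hz, j, hj, rfl⟩ := mem_sup_of_norm (A := S.Zc 4) (B := J S.XZ 1 7) (fun z hz q hq =>
    S.zsys8.conj_X (a := 1) (b := 7) (k := 8) (by norm_num) (by norm_num) (by norm_num) (Zc_le8 S hz) hq) h1
  have h3 : j ∈ S.XZ 8 := by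
    have := mul_mem (inv_mem (Zc_le8 S hz)) h2'
    rwa [inv_mul_cancel_left] at this
  have h4 : j = 1 := S.zsys8.inter' h3 (J_mono (by norm_num) (by norm_num) hj)
  rw [h4, mul_one]
  exact hz

end Cfsg.Agent.OddHalf.D7TwF4.Growth.KInst
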