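import Mathlib

/-!
# Growth of the doubled root groups of `²F₄(q)`: the input (helper702; text bb ODD 13178)

`τ` = conjugation by the involution `t`; `X i` (`i : ℤ`, `X (i + 16) = X i`) the root groups of `K = ²F₄(q)`, `Y i = Z(X i)` for `i`
even and `Y i = X i` for `i` odd, `W i` the doubled groups of `Y i`, `T i = C_T(X i)`.

* `Gen` : the facts for all `i`;
* `Base` : the facts in the standard position; `Inp` : the facts in all positions `k ↦ 2 c + ε k`, `ε = ± 1`;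
* `Base.conj` : transport of `Base` by an element of `K`.
-/

set_option autoImplicit false
set_option linter.unusedVariables false

namespace Cfsg.Agent.OddHalf.D7TwF4.Growth.Defs

variable {G : Type*} [Group G]

/-- elementwise commuting subgroups -/
def Cm (A B : Subgroup G) : Prop := ∀ a ∈ A, ∀ b ∈ B, a * b = b * a

/-- all commutators lie in `C` -/
def Cl (A B C : Subgroup G) : Prop := ∀ a ∈ A, ∀ b ∈ B, a * b * a⁻¹ * b⁻¹ ∈ C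

/-- `A` normalises `R` -/
def Nz (A R : Subgroup G) : Prop := ∀ a ∈ A, ∀ r ∈ R, a * r * a⁻¹ ∈ R

/-! ### `Cm`, `Cl`, `Nz` -/

theorem Cm.symm {A B : Subgroup G} (h : Cm A B) : Cm B A := fun a ha b hb => (h b hb a ha).symm

theorem Cm.mono {A A' B B' : Subgroup G} (h : Cm A B) (hA : A' ≤ A) (hB : B' ≤ B) : Cm A' B' :=
  fun a ha b hb => h a (hA ha) b (hB hb)

theorem Cm.le {A B : Subgroup G} (h : Cm A B) : A ≤ Subgroup.centralizer (B : Set G) := fun a ha =>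
  Subgroup.mem_centralizer_iff.2 fun b hb => (h a ha b hb).symm

theorem cm_of_le {A B : Subgroup G} (h : A ≤ Subgroup.centralizer (B : Set G)) : Cm A B := fun a ha b hb =>
  (Subgroup.mem_centralizer_iff.1 (h ha) b hb).symm

theorem Cm.sup {A B C : Subgroup G} (h : Cm A C) (h' : Cm B C) : Cm (A ⊔ B) C :=
  cm_of_le (sup_le h.le h'.le)

theorem Cm.sup' {A B C : Subgroup G} (h : Cm C A) (h' : Cm C B) : Cm C (A ⊔ B) := (h.symm.sup h'.symm).symm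

theorem Nz.le {A R : Subgroup G} (h : Nz A R) : A ≤ Subgroup.normalizer (R : Set G) := fun a ha =>
  Subgroup.mem_normalizer_iff.2 fun r => ⟨fun hr => h a ha r hr, fun hr => by
    have := h a⁻¹ (inv_mem ha) _ hr
    have e : a⁻¹ * (a * r * a⁻¹) * a⁻¹⁻¹ = r := by group
    rwa [e] at this⟩

theorem nz_of_le {A R : Subgroup G} (h : A ≤ Subgroup.normalizer (R : Set G)) : Nz A R := fun a ha r hr =>
  (Subgroup.mem_normalizer_iff.1 (h ha) r).1 hr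

theorem Nz.sup {A B R : Subgroup G} (h : Nz A R) (h' : Nz B R) : Nz (A ⊔ B) R := nz_of_le (sup_le h.le h'.le)

theorem Nz.mono {A A' R : Subgroup G} (h : Nz A R) (hA : A' ≤ A) : Nz A' R := fun a ha r hr => h a (hA ha) r hr

theorem Nz.inv {A R : Subgroup G} (h : Nz A R) {a r : G} (ha : a ∈ A) (hr : r ∈ R) : a⁻¹ * r * a ∈ R := by
  have := h a⁻¹ (inv_mem ha) r hr
  rwa [inv_inv] at this

theorem Nz.sup' {A R S : Subgroup G} (h : Nz A R) (h' : Nz A S) : Nz A (R ⊔ S) := by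
  intro a ha r hr
  have : R ⊔ S ≤ (R ⊔ S).comap (MulAut.conj a).toMonoidHom :=
    sup_le (fun x hx => Subgroup.mem_sup_left (h a ha x hx)) (fun x hx => Subgroup.mem_sup_right (h' a ha x hx))
  exact this hr

theorem nz_self (A : Subgroup G) : Nz A A := fun a ha r hr => mul_mem (mul_mem ha hr) (inv_mem ha)

theorem Cm.nz {A B : Subgroup G} (h : Cm A B) : Nz A B := fun a ha b hb => by
  rw [h a ha b hb, mul_inv_cancel_right]; exact hb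

theorem Cl.nz {A B C : Subgroup G} (h : Cl A B C) (hC : C ≤ B) : Nz A B := fun a ha b hb => by
  have e : a * b * a⁻¹ = (a * b * a⁻¹ * b⁻¹) * b := by group
  rw [e]; exact mul_mem (hC (h a ha b hb)) hb

/-- `A` normalises `B S` if `⁅A, B⁆ ≤ B S` and `A` normalises `S` -/
theorem Cl.nz' {A B S : Subgroup G} (h : Cl A B (B ⊔ S)) (hS : Nz A S) : Nz A (B ⊔ S) := by
  intro a ha r hr
  have : B ⊔ S ≤ (B ⊔ S).comap (MulAut.conj a).toMonoidHom := by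
    refine sup_le (fun x hx => ?_) (fun x hx => Subgroup.mem_sup_right (hS a ha x hx))
    have e : a * x * a⁻¹ = (a * x * a⁻¹ * x⁻¹) * x := by group
    show a * x * a⁻¹ ∈ B ⊔ S
    rw [e]
    exact mul_mem (h a ha x hx) (Subgroup.mem_sup_left hx)
  exact this hr

theorem Cl.symm {A B C : Subgroup G} (h : Cl A B C) : Cl B A C := fun b hb a ha => by
  have := inv_mem (h a ha b hb)
  have e : (a * b * a⁻¹ * b⁻¹)⁻¹ = b * a * b⁻¹ * a⁻¹ := by group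
  rwa [e] at this

theorem Cl.mono {A A' B B' C C' : Subgroup G} (h : Cl A B C) (hA : A' ≤ A) (hB : B' ≤ B) (hC : C ≤ C') :
    Cl A' B' C' := fun a ha b hb => hC (h _ (hA ha) _ (hB hb))

theorem Cl.mono3 {A B C C' : Subgroup G} (h : Cl A B C) (hC : C ≤ C') : Cl A B C' := h.mono le_rfl le_rfl hC

theorem Cm.cl {A B : Subgroup G} (h : Cm A B) (C : Subgroup G) : Cl A B C := fun a ha b hb => by
  rw [h a ha b hb, mul_inv_cancel_right, mul_inv_cancel]; exact one_mem _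

theorem cl_of_nz {A B : Subgroup G} (h : Nz A B) : Cl A B B := fun a ha b hb => mul_mem (h a ha b hb) (inv_mem hb)

theorem cl_mul {C : Subgroup G} {a b c : G} (h1 : b * c * b⁻¹ * c⁻¹ ∈ C) (h2 : a * c * a⁻¹ * c⁻¹ ∈ C)
    (hn : ∀ r ∈ C, a * r * a⁻¹ ∈ C) : (a * b) * c * (a * b)⁻¹ * c⁻¹ ∈ C := by
  have e : (a * b) * c * (a * b)⁻¹ * c⁻¹ = (a * (b * c * b⁻¹ * c⁻¹) * a⁻¹) * (a * c * a⁻¹ * c⁻¹) := by group
  rw [e]; exact mul_mem (hn _ h1) h2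

/-- `⁅A B, D⁆ ≤ C` -/
theorem Cl.sup {A B D C : Subgroup G} (h : Cl A D C) (h' : Cl B D C) (hA : Nz A C) (hB : Nz B C) :
    Cl (A ⊔ B) D C := by
  intro x hx d hd
  let S : Subgroup G :=
    { carrier := {x | (∀ d ∈ D, x * d * x⁻¹ * d⁻¹ ∈ C) ∧ x ∈ Subgroup.normalizer (C : Set G)}
      one_mem' := ⟨fun d _ => by simp, one_mem _⟩
      mul_mem' := by
        rintro a b ⟨ha, ha'⟩ ⟨hb, hb'⟩
        exact ⟨fun d hd => cl_mul (hb d hd) (ha d hd) fun r hr => (Subgroup.mem_normalizer_iff.1 ha' r).1 hr,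
          mul_mem ha' hb'⟩
      inv_mem' := by
        rintro a ⟨ha, ha'⟩
        refine ⟨fun d hd => ?_, inv_mem ha'⟩
        have h1 := inv_mem (ha d hd)
        have h2 := (Subgroup.mem_normalizer_iff.1 (inv_mem ha') _).1 h1
        have e : a⁻¹ * (a * d * a⁻¹ * d⁻¹)⁻¹ * a⁻¹⁻¹ = a⁻¹ * d * a⁻¹⁻¹ * d⁻¹ := by group
        rwa [e] at h2 }
  have hle : A ⊔ B ≤ S := sup_le (fun a ha => ⟨h a ha, hA.le ha⟩) (fun b hb => ⟨h' b hb, hB.le hb⟩)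
  exact (hle hx).1 d hd

theorem Cl.sup' {A B D C : Subgroup G} (h : Cl D A C) (h' : Cl D B C) (hA : Nz A C) (hB : Nz B C) :
    Cl D (A ⊔ B) C := (h.symm.sup h'.symm hA hB).symm

/-- product decomposition -/
theorem mem_sup {A B : Subgroup G} (h : Nz B A) {x : G} (hx : x ∈ A ⊔ B) : ∃ a ∈ A, ∃ b ∈ B, x = a * b := by
  let S : Subgroup G :=
    { carrier := {x | ∃ a ∈ A, ∃ b ∈ B, x = a * b}
      one_mem' := ⟨1, one_mem _, 1, one_mem _, (mul_one 1).symm⟩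
      mul_mem' := by
        rintro _ _ ⟨u, hu, v, hv, rfl⟩ ⟨u', hu', v', hv', rfl⟩
        exact ⟨u * (v * u' * v⁻¹), mul_mem hu (h v hv u' hu'), v * v', mul_mem hv hv', by group⟩
      inv_mem' := by
        rintro _ ⟨u, hu, v, hv, rfl⟩
        exact ⟨v⁻¹ * u⁻¹ * v⁻¹⁻¹, h v⁻¹ (inv_mem hv) _ (inv_mem hu), v⁻¹, inv_mem hv, by group⟩ }
  have hS : A ⊔ B ≤ S := sup_le (fun u hu => ⟨u, hu, 1, one_mem _, (mul_one u).symm⟩)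
    (fun v hv => ⟨1, one_mem _, v, hv, (one_mul v).symm⟩)
  exact hS hx

theorem mem_sup' {A B : Subgroup G} (h : Nz B A) {x : G} (hx : x ∈ A ⊔ B) : ∃ a ∈ A, ∃ b ∈ B, x = b * a := by
  obtain ⟨a, ha, b, hb, rfl⟩ := mem_sup h hx
  exact ⟨b⁻¹ * a * b⁻¹⁻¹, h b⁻¹ (inv_mem hb) a ha, b, hb, by group⟩

/-! ### subgroups of `U = X_{-3} ⋯ X_4` -/

/-- `Z₀ X₁ Z₂` (and `W₀ W₁ W₂`) -/
def EK (Y : ℤ → Subgroup G) : Subgroup G := Y 0 ⊔ Y 1 ⊔ Y 2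
/-- `X₋₁ Z₀ X₁ Z₂` -/
def RK (Y : ℤ → Subgroup G) : Subgroup G := EK Y ⊔ Y (-1)
/-- `Z₋₂ X₋₁ Z₀ X₁ Z₂` (and `A₀ = W₋₂ ⋯ W₂`) -/
def Q2 (Y : ℤ → Subgroup G) : Subgroup G := RK Y ⊔ Y (-2)
/-- `Z₋₂ X₋₁ X₀ X₁ Z₂` -/
def Q1 (X Y : ℤ → Subgroup G) : Subgroup G := Q2 Y ⊔ X 0
/-- `Z₋₂ X₋₁ X₀ X₁ X₂` -/
def PK (X Y : ℤ → Subgroup G) : Subgroup G := Q1 X Y ⊔ X 2
/-- `Z₋₂ X₋₁ X₀ X₁ X₂ X₃` -/
def MK (X Y : ℤ → Subgroup G) : Subgroup G := PK X Y ⊔ Y 3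
/-- `Z₋₂ X₋₁ X₀ X₁ X₂ X₃ Z₄` -/
def NK (X Y : ℤ → Subgroup G) : Subgroup G := MK X Y ⊔ Y 4
/-- `X₋₂ X₋₁ X₀ X₁ X₂ X₃` -/
def QpK (X Y : ℤ → Subgroup G) : Subgroup G := MK X Y ⊔ X (-2)
/-- `X₋₃ ⋯ X₃` -/
def Q0 (X Y : ℤ → Subgroup G) : Subgroup G := QpK X Y ⊔ Y (-3)

/-- The facts for all `i`. -/
structure Gen (τ : G →* G) (X Y W T : ℤ → Subgroup G) : Prop where
  tt : ∀ x, τ (τ x) = x
  tX : ∀ i, ∀ x ∈ X i, τ x = x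
  tT : ∀ i, ∀ h ∈ T i, τ h = h
  YX : ∀ i, Y i ≤ X i
  Yo : ∀ c, Y (2 * c + 1) = X (2 * c + 1)
  YW : ∀ i, Y i ≤ W i
  Wab : ∀ i, Cm (W i) (W i)
  Wsq : ∀ i, ∀ w ∈ W i, w * w = 1
  Wt : ∀ i, ∀ w ∈ W i, τ w ∈ W i
  Wf : ∀ i, ∀ w ∈ W i, τ w = w → w ∈ Y i
  Ws : ∀ i, ∀ y ∈ Y i, ∃ w ∈ W i, w⁻¹ * τ w = y
  /-- the torus -/
  TX : ∀ i j, Nz (T i) (X j)
  TY : ∀ i j, Nz (T i) (Y j)
  TW : ∀ i j, Nz (T i) (W j)
  TT : ∀ i j, Cm (T i) (T j)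
  TXc : ∀ i, Cm (T i) (X i)
  TWc : ∀ i, Cm (T i) (W i)
  Todd : ∀ i, Odd (Nat.card (T i))
  /-- some element of `T i` is fixed point free on `X j` for `j ≢ i mod 8` -/
  hf : ∀ i j : ℤ, ¬ (8 : ℤ) ∣ j - i → ∃ h ∈ T i, ∀ x ∈ X j, h * x * h⁻¹ = x → x = 1

/-- The facts in the standard position. `c ∈ C(t)` centralising `W 0` lies in `Q₀ L₀` (`(K2)`), this gives `k1`, …, `k8`. -/
structure Base (τ : G →* G) (X Y W T : ℤ → Subgroup G) : Prop where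
  -- doubled groups: `A₀ = W₋₂ ⋯ W₂` abelian, centralised by `X₀`
  w01 : Cm (W 0) (W 1)
  w02 : Cm (W 0) (W 2)
  w11 : Cm (W (-1)) (W 1)
  w12 : Cm (W (-1)) (W 2)
  w22 : Cm (W (-2)) (W 2)
  x0w0 : Cm (X 0) (W 0)
  x0w1 : Cm (X 0) (W 1)
  x0w2 : Cm (X 0) (W 2)
  x3w0 : Cm (X 3) (W 0)
  x4w0 : Cm (X 4) (W 0)
  -- `[A₀, Q₀] ≤ W₀`, `X₄` normalises `A₀`
  c12 : Cl (W (-1)) (X 2) (W 0)
  c13 : Cl (W (-1)) (X 3) (W 0)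
  c23 : Cl (W (-2)) (X 3) (W 0)
  a14 : Cl (W (-1)) (X 4) (Q2 W)
  a24 : Cl (W (-2)) (X 4) (Q2 W)
  /-- 135 degrees -/
  w24 : Cl (W (-2)) (W 4) (EK W)
  /-- `M = ⟨X₋₃, X₅⟩` on the conjugates of `W₄` -/
  tri : ∀ g ∈ X (-3), g ≠ 1 → ∃ h ∈ X 5, ∀ w, w ∈ W 4 ↔ h⁻¹ * (g * w * g⁻¹) * h ∈ W (-2)
  -- relations in `K`
  x13 : Cm (X (-1)) (X 3)
  x04 : Cm (X 0) (X 4)
  r14 : Cl (X (-1)) (X 4) (EK Y)
  r24z : Cl (Y (-2)) (X 4) (RK Y)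
  r24 : Cl (X (-2)) (X 4) (MK X Y)
  r33 : Cl (X 3) (X (-3)) (Y (-1) ⊔ Y 1)
  r34z : Cl (X (-3)) (Y 4) (MK X Y)
  r34 : Cl (X (-3)) (X 4) (QpK X Y)
  /-- `X₅`, `X₄` normalise `N = NK` (and so do `X₋₃`, `X₋₂`, by symmetry) -/
  nk5 : Nz (X 5) (NK X Y)
  nk4 : Nz (X 4) (NK X Y)
  -- commuting with a root group, inside `U`
  /-- `[X₁, X₋₂] ≠ 1` -/
  ka : ∀ c ∈ EK Y, (∀ x ∈ X (-2), c * x = x * c) → c ∈ Y 0 ⊔ Y 2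
  /-- `[Z₋₂, X₃] ≠ 1` -/
  kb : ∀ c ∈ Q2 Y, (∀ x ∈ X 3, c * x = x * c) → c ∈ RK Y
  /-- `[X₋₃, Z₂] ≠ 1` -/
  kc : ∀ c ∈ X (-3), (∀ y ∈ Y 2, c * y = y * c) → c = 1
  /-- `C_{NK}(X₀) = Z₋₂ X₋₁ Z₀ X₁ Z₂ Z₄` -/
  kJ : ∀ c ∈ NK X Y, (∀ x ∈ X 0, c * x = x * c) → c ∈ Q2 Y ⊔ Y 4
  /-- `C_{NK}(T₀) = X₀` -/
  kT : ∀ c ∈ NK X Y, (∀ h ∈ T 0, c * h = h * c) → c ∈ X 0
  /-- `T₀` (of odd order) is faithful on `X₋₁` -/
  tf : ∀ h ∈ T 0, (∀ y ∈ X (-1), h * y = y * h) → h = 1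
  -- generation
  k2 : NK X Y ≤ Subgroup.closure {g | g ∈ Y 4 ∨ ∃ x ∈ X 5, ∃ y ∈ Y (-2), g = x * y * x⁻¹} ⊔ EK Y
  -- centralisers in `C(t)`
  k1 : ∀ c, τ c = c → (∀ w ∈ W 0, c * w = w * c) → (∀ x ∈ X 1, c * x = x * c) → (∀ y ∈ Y 2, c * y = y * c) →
    c ∈ NK X Y
  k4 : ∀ c, τ c = c → (∀ w ∈ W 0, c * w = w * c) → (∀ h ∈ T 0, c * h = h * c) → ∃ x ∈ X 0, ∃ h ∈ T 0, c = x * h
  k5 : ∀ c, τ c = c → (∀ w ∈ W 0, c * w = w * c) → (∀ x ∈ X (-1), c * x = x * c) → (∀ x ∈ X 1, c * x = x * c) →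
    c ∈ Q1 X Y ⊔ Y 3 ⊔ Y (-3)
  k6a : ∀ c, τ c = c → (∀ w ∈ W 0, c * w = w * c) → (∀ x ∈ X 0, c * x = x * c) → (∀ y ∈ Y 2, c * y = y * c) →
    c ∈ Q2 Y ⊔ X 4
  k6b : ∀ c, τ c = c → (∀ w ∈ W 0, c * w = w * c) → (∀ x ∈ X 0, c * x = x * c) → (∀ x ∈ X 4, c * x = x * c) →
    c ∈ Y 0 ⊔ Y 2 ⊔ Y 4
  k7 : ∀ c, τ c = c → (∀ w ∈ W 0, c * w = w * c) → (∀ y ∈ Y 2, c * y = y * c) → c ∈ QpK X Y ⊔ X 4
  k8 : ∀ c, τ c = c → (∀ w ∈ W 0, c * w = w * c) → (∀ y ∈ Q2 Y, c * y * c⁻¹ * y⁻¹ ∈ Y 0) → c ∈ Q0 X Y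
  -- independence of the root groups
  i01 : Y 0 ⊓ Y 1 = ⊥
  i012 : (Y 0 ⊔ Y 1) ⊓ Y 2 = ⊥
  i1 : EK Y ⊓ Y (-1) = ⊥
  i2 : RK Y ⊓ Y (-2) = ⊥
  i3 : Q2 Y ⊓ X 0 ≤ Y 0
  i4 : Q1 X Y ⊓ X 2 ≤ Y 2
  i5 : PK X Y ⊓ Y 3 = ⊥
  i6 : MK X Y ⊓ X (-2) ≤ Y (-2)
  i7 : QpK X Y ⊓ Y (-3) = ⊥
  i8 : Q0 X Y ⊓ Y 4 = ⊥
  i9 : (Q0 X Y ⊔ Y 4) ⊓ X 4 ≤ Y 4
  -- weights
  /-- `T₋₁ : X₃ → Z₂` -/
  nh1 : ∀ f : G → G, (∀ a ∈ X 3, f a ∈ Y 2) → (∀ a ∈ X 3, ∀ b ∈ X 3, f (a * b) = f a * f b) →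
    (∀ h ∈ T (-1), ∀ a ∈ X 3, f (h * a * h⁻¹) = h * f a * h⁻¹) → ∀ a ∈ X 3, f a = 1
  /-- `T₄ : X₀ / Z₀ → Z₋₂ X₋₁ Z₀ X₁ Z₂` -/
  nh2 : ∀ f : G → G, (∀ a ∈ X 0, f a ∈ Q2 Y) → (∀ a ∈ X 0, ∀ b ∈ X 0, f (a * b) = f a * f b) →
    (∀ a ∈ Y 0, f a = 1) →
    (∀ h ∈ T 4, ∀ a ∈ X 0, f (h * a * h⁻¹) = h * f a * h⁻¹) → ∀ a ∈ X 0, f a = 1

/-- The input. -/
structure Inp (τ : G →* G) (X Y W T : ℤ → Subgroup G) : Prop extends Gen τ X Y W T where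
  fr : ∀ c e : ℤ, e = 1 ∨ e = -1 → Base τ (fun k => X (2 * c + e * k)) (fun k => Y (2 * c + e * k))
    (fun k => W (2 * c + e * k)) (fun k => T (2 * c + e * k))

end Cfsg.Agent.OddHalf.D7TwF4.Growth.Defs
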