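import Mathlib
import Cfsg.Agent.OddHalf.D7TwF4.Growth.Defs

/-!
# Growth for `²F₄(q)`: transport of `Base` by an automorphism which commutes with `τ` (helper570)

* `Base.equiv` : by `φ : G ≃* G` with `φ τ = τ φ`;
* `Base.conj` : by an element `g` with `τ g = g`;
* `Base.frame` : `g X_i g⁻¹ = X_{2c+ei}`, ... gives the facts in the position `k ↦ 2 c + e k`.
-/

set_option autoImplicit false

namespace Cfsg.Agent.OddHalf.D7TwF4.Growth.Conj

open Cfsg.Agent.OddHalf.D7TwF4.Growth.Defs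

variable {G : Type*} [Group G]

/-- the image of a subgroup under an automorphism -/
def im (φ : G ≃* G) (A : Subgroup G) : Subgroup G := A.map φ.toMonoidHom

section im

variable (φ : G ≃* G)

theorem mem_im {A : Subgroup G} {x : G} : x ∈ im φ A ↔ φ.symm x ∈ A := by
  constructor
  · rintro ⟨a, ha, rfl⟩
    simpa using ha
  · intro h
    exact ⟨φ.symm x, h, by simp⟩

theorem im_mem {A : Subgroup G} {x : G} (h : x ∈ A) : φ x ∈ im φ A := ⟨x, h, rfl⟩

theorem im_mem_iff {A : Subgroup G} {x : G} : φ x ∈ im φ A ↔ x ∈ A := by rw [mem_im]; simp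

theorem im_sup (A B : Subgroup G) : im φ (A ⊔ B) = im φ A ⊔ im φ B := Subgroup.map_sup _ _ _

theorem im_inf (A B : Subgroup G) : im φ (A ⊓ B) = im φ A ⊓ im φ B := by
  ext x; simp only [Subgroup.mem_inf, mem_im]

theorem im_bot : im φ (⊥ : Subgroup G) = ⊥ := Subgroup.map_bot _

theorem im_mono {A B : Subgroup G} (h : A ≤ B) : im φ A ≤ im φ B := Subgroup.map_mono h

theorem im_cm {A B : Subgroup G} (h : Cm A B) : Cm (im φ A) (im φ B) := by
  rintro _ ⟨a, ha, rfl⟩ _ ⟨b, hb, rfl⟩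
  simpa using congrArg φ (h a ha b hb)

theorem im_cl {A B C : Subgroup G} (h : Cl A B C) : Cl (im φ A) (im φ B) (im φ C) := by
  rintro _ ⟨a, ha, rfl⟩ _ ⟨b, hb, rfl⟩
  simpa using im_mem φ (h a ha b hb)

theorem im_nz {A B : Subgroup G} (h : Nz A B) : Nz (im φ A) (im φ B) := by
  rintro _ ⟨a, ha, rfl⟩ _ ⟨b, hb, rfl⟩
  simpa using im_mem φ (h a ha b hb)

/-- commuting with the image of `A` -/
theorem com {A : Subgroup G} {c : G} (h : ∀ w ∈ im φ A, c * w = w * c) : ∀ w ∈ A, φ.symm c * w = w * φ.symm c := by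
  intro w hw
  have := congrArg φ.symm (h _ (im_mem φ hw))
  simpa using this

variable {φ}

theorem fix {τ : G →* G} (hφ : ∀ x, φ (τ x) = τ (φ x)) {c : G} (h : τ c = c) : τ (φ.symm c) = φ.symm c := by
  apply φ.injective
  rw [hφ]; simpa using h

variable (φ)

theorem im_EK (Y : ℤ → Subgroup G) : EK (fun i => im φ (Y i)) = im φ (EK Y) := by simp only [EK, im_sup]
theorem im_RK (Y : ℤ → Subgroup G) : RK (fun i => im φ (Y i)) = im φ (RK Y) := by simp only [RK, im_EK, im_sup]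
theorem im_Q2 (Y : ℤ → Subgroup G) : Q2 (fun i => im φ (Y i)) = im φ (Q2 Y) := by simp only [Q2, im_RK, im_sup]
theorem im_Q1 (X Y : ℤ → Subgroup G) : Q1 (fun i => im φ (X i)) (fun i => im φ (Y i)) = im φ (Q1 X Y) := by
  simp only [Q1, im_Q2, im_sup]
theorem im_PK (X Y : ℤ → Subgroup G) : PK (fun i => im φ (X i)) (fun i => im φ (Y i)) = im φ (PK X Y) := by
  simp only [PK, im_Q1, im_sup]
theorem im_MK (X Y : ℤ → Subgroup G) : MK (fun i => im φ (X i)) (fun i => im φ (Y i)) = im φ (MK X Y) := by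
  simp only [MK, im_PK, im_sup]
theorem im_NK (X Y : ℤ → Subgroup G) : NK (fun i => im φ (X i)) (fun i => im φ (Y i)) = im φ (NK X Y) := by
  simp only [NK, im_MK, im_sup]
theorem im_QpK (X Y : ℤ → Subgroup G) : QpK (fun i => im φ (X i)) (fun i => im φ (Y i)) = im φ (QpK X Y) := by
  simp only [QpK, im_MK, im_sup]
theorem im_Q0 (X Y : ℤ → Subgroup G) : Q0 (fun i => im φ (X i)) (fun i => im φ (Y i)) = im φ (Q0 X Y) := by
  simp only [Q0, im_QpK, im_sup]

/-- the weight condition is transported -/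
theorem im_nh {A B T Z : Subgroup G}
    (h : ∀ f : G → G, (∀ a ∈ A, f a ∈ B) → (∀ a ∈ A, ∀ b ∈ A, f (a * b) = f a * f b) → (∀ a ∈ Z, f a = 1) →
      (∀ h ∈ T, ∀ a ∈ A, f (h * a * h⁻¹) = h * f a * h⁻¹) → ∀ a ∈ A, f a = 1)
    (f : G → G) (h1 : ∀ a ∈ im φ A, f a ∈ im φ B) (h2 : ∀ a ∈ im φ A, ∀ b ∈ im φ A, f (a * b) = f a * f b)
    (h3 : ∀ a ∈ im φ Z, f a = 1)
    (h4 : ∀ h ∈ im φ T, ∀ a ∈ im φ A, f (h * a * h⁻¹) = h * f a * h⁻¹) : ∀ a ∈ im φ A, f a = 1 := by
  have key := h (fun a => φ.symm (f (φ a))) (fun a ha => (mem_im φ).1 (h1 _ (im_mem φ ha)))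
    (fun a ha b hb => by
      show φ.symm (f (φ (a * b))) = _
      rw [map_mul, h2 _ (im_mem φ ha) _ (im_mem φ hb), map_mul])
    (fun a ha => by
      show φ.symm (f (φ a)) = 1
      rw [h3 _ (im_mem φ ha), map_one])
    (fun t ht a ha => by
      show φ.symm (f (φ (t * a * t⁻¹))) = _
      have := h4 _ (im_mem φ ht) _ (im_mem φ ha)
      rw [map_mul, map_mul, map_inv, this, map_mul, map_mul, map_inv]
      simp)
  rintro _ ⟨a, ha, rfl⟩
  have := congrArg φ (key a ha)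
  simpa using this

end im

/-- **Transport by an automorphism which commutes with `τ`.** -/
theorem _root_.Cfsg.Agent.OddHalf.D7TwF4.Growth.Defs.Base.equiv {τ : G →* G} {X Y W T : ℤ → Subgroup G} (h : Base τ X Y W T) (φ : G ≃* G)
    (hφ : ∀ x, φ (τ x) = τ (φ x)) :
    Base τ (fun i => im φ (X i)) (fun i => im φ (Y i)) (fun i => im φ (W i)) (fun i => im φ (T i)) where
  w01 := im_cm φ h.w01
  w02 := im_cm φ h.w02
  w11 := im_cm φ h.w11
  w12 := im_cm φ h.w12
  w22 := im_cm φ h.w22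
  x0w0 := im_cm φ h.x0w0
  x0w1 := im_cm φ h.x0w1
  x0w2 := im_cm φ h.x0w2
  x3w0 := im_cm φ h.x3w0
  x4w0 := im_cm φ h.x4w0
  c12 := im_cl φ h.c12
  c13 := im_cl φ h.c13
  c23 := im_cl φ h.c23
  a14 := by rw [im_Q2]; exact im_cl φ h.a14
  a24 := by rw [im_Q2]; exact im_cl φ h.a24
  w24 := by rw [im_EK]; exact im_cl φ h.w24
  tri := by
    rintro _ ⟨g, hg, rfl⟩ hg1
    obtain ⟨k, hk, hkk⟩ := h.tri g hg (fun e => hg1 (by rw [e]; simp))
    refine ⟨φ k, im_mem φ hk, fun w => ?_⟩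
    rw [mem_im, hkk, mem_im]
    simp
  x13 := im_cm φ h.x13
  x04 := im_cm φ h.x04
  r14 := by rw [im_EK]; exact im_cl φ h.r14
  r24z := by rw [im_RK]; exact im_cl φ h.r24z
  r24 := by rw [im_MK]; exact im_cl φ h.r24
  r33 := by
    have := im_cl φ h.r33
    rwa [im_sup] at this
  r34z := by rw [im_MK]; exact im_cl φ h.r34z
  r34 := by rw [im_QpK]; exact im_cl φ h.r34
  nk5 := by rw [im_NK]; exact im_nz φ h.nk5
  nk4 := by rw [im_NK]; exact im_nz φ h.nk4
  ka c hc h1 := by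
    rw [im_EK, mem_im] at hc
    have := h.ka _ hc (com φ h1)
    rw [← im_sup, mem_im]; exact this
  kb c hc h1 := by
    rw [im_Q2, mem_im] at hc
    have := h.kb _ hc (com φ h1)
    rw [im_RK, mem_im]; exact this
  kc c hc h1 := by
    rw [mem_im] at hc
    have := h.kc _ hc (com φ h1)
    simpa using this
  kJ c hc h1 := by
    rw [im_NK, mem_im] at hc
    have := h.kJ _ hc (com φ h1)
    rw [im_Q2, ← im_sup, mem_im]; exact this
  kT c hc h1 := by
    rw [im_NK, mem_im] at hc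
    have := h.kT _ hc (com φ h1)
    rw [mem_im]; exact this
  tf c hc h1 := by
    rw [mem_im] at hc
    have := h.tf _ hc (com φ h1)
    simpa using this
  k2 := by
    rw [im_NK, im_EK]
    refine (im_mono φ h.k2).trans ?_
    rw [im_sup]
    refine sup_le_sup ?_ le_rfl
    show (Subgroup.closure _).map _ ≤ _
    rw [MonoidHom.map_closure]
    refine Subgroup.closure_mono ?_
    rintro _ ⟨g, hg, rfl⟩
    rcases hg with hg | ⟨x, hx, y, hy, rfl⟩
    · exact Or.inl (im_mem φ hg)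
    · exact Or.inr ⟨φ x, im_mem φ hx, φ y, im_mem φ hy, by simp⟩
  k1 c h0 h1 h2 h3 := by
    rw [im_NK, mem_im]
    exact h.k1 _ (fix hφ h0) (com φ h1) (com φ h2) (com φ h3)
  k4 c h0 h1 h2 := by
    obtain ⟨x, hx, t, ht, e⟩ := h.k4 _ (fix hφ h0) (com φ h1) (com φ h2)
    exact ⟨φ x, im_mem φ hx, φ t, im_mem φ ht, by rw [← map_mul, ← e]; simp⟩
  k5 c h0 h1 h2 h3 := by
    rw [im_Q1, ← im_sup, ← im_sup, mem_im]
    exact h.k5 _ (fix hφ h0) (com φ h1) (com φ h2) (com φ h3)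
  k6a c h0 h1 h2 h3 := by
    rw [im_Q2, ← im_sup, mem_im]
    exact h.k6a _ (fix hφ h0) (com φ h1) (com φ h2) (com φ h3)
  k6b c h0 h1 h2 h3 := by
    rw [← im_sup, ← im_sup, mem_im]
    exact h.k6b _ (fix hφ h0) (com φ h1) (com φ h2) (com φ h3)
  k7 c h0 h1 h2 := by
    rw [im_QpK, ← im_sup, mem_im]
    exact h.k7 _ (fix hφ h0) (com φ h1) (com φ h2)
  k8 c h0 h1 h2 := by
    rw [im_Q0, mem_im]
    refine h.k8 _ (fix hφ h0) (com φ h1) fun y hy => ?_
    have := h2 (φ y) (by rw [im_Q2]; exact im_mem φ hy)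
    rw [mem_im] at this
    simpa using this
  i01 := by rw [← im_inf, h.i01, im_bot]
  i012 := by rw [← im_sup, ← im_inf, h.i012, im_bot]
  i1 := by rw [im_EK, ← im_inf, h.i1, im_bot]
  i2 := by rw [im_RK, ← im_inf, h.i2, im_bot]
  i3 := by rw [im_Q2, ← im_inf]; exact im_mono φ h.i3
  i4 := by rw [im_Q1, ← im_inf]; exact im_mono φ h.i4
  i5 := by rw [im_PK, ← im_inf, h.i5, im_bot]
  i6 := by rw [im_MK, ← im_inf]; exact im_mono φ h.i6
  i7 := by rw [im_QpK, ← im_inf, h.i7, im_bot]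
  i8 := by rw [im_Q0, ← im_inf, h.i8, im_bot]
  i9 := by rw [im_Q0, ← im_sup, ← im_inf]; exact im_mono φ h.i9
  nh1 := by
    intro f h1 h2 h3
    have key := im_nh φ (Z := ⊥) (A := X 3) (B := Y 2) (T := T (-1))
      (fun f g1 g2 _ g4 => h.nh1 f g1 g2 g4) f h1 h2 ?_ h3
    · exact key
    · intro a ha
      rw [im_bot, Subgroup.mem_bot] at ha
      have := h2 1 (one_mem _) 1 (one_mem _)
      rw [mul_one] at this
      rw [ha]
      exact (mul_eq_left.1 this.symm)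
  nh2 := by
    intro f h1 h2 h3 h4
    have key := im_nh φ (Z := Y 0) (A := X 0) (B := Q2 Y) (T := T 4) h.nh2 f
      (fun a ha => by rw [← im_Q2]; exact h1 a ha) h2 h3 h4
    exact key

/-- **Transport by an element fixed by `τ`.** -/
theorem _root_.Cfsg.Agent.OddHalf.D7TwF4.Growth.Defs.Base.conj {τ : G →* G} {X Y W T : ℤ → Subgroup G} (h : Base τ X Y W T) {g : G} (hg : τ g = g) :
    Base τ (fun i => im (MulAut.conj g) (X i)) (fun i => im (MulAut.conj g) (Y i))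
      (fun i => im (MulAut.conj g) (W i)) (fun i => im (MulAut.conj g) (T i)) :=
  h.equiv _ fun x => by simp [MulAut.conj_apply, hg]

theorem im_eq_of {g : G} {A B : Subgroup G} (h : ∀ x, x ∈ A ↔ g * x * g⁻¹ ∈ B) : im (MulAut.conj g) A = B := by
  ext x
  rw [mem_im, h]
  simp [MulAut.conj_symm_apply, mul_assoc]

/-- **The other positions**: `g X_k g⁻¹ = X_{2c+ek}`, `g Y_k g⁻¹ = Y_{2c+ek}`, ... -/
theorem _root_.Cfsg.Agent.OddHalf.D7TwF4.Growth.Defs.Base.frame {τ : G →* G} {X Y W T : ℤ → Subgroup G} (h : Base τ X Y W T) {g : G} (hg : τ g = g) {c e : ℤ}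
    (hX : ∀ k x, x ∈ X k ↔ g * x * g⁻¹ ∈ X (2 * c + e * k)) (hY : ∀ k x, x ∈ Y k ↔ g * x * g⁻¹ ∈ Y (2 * c + e * k))
    (hW : ∀ k x, x ∈ W k ↔ g * x * g⁻¹ ∈ W (2 * c + e * k)) (hT : ∀ k x, x ∈ T k ↔ g * x * g⁻¹ ∈ T (2 * c + e * k)) :
    Base τ (fun k => X (2 * c + e * k)) (fun k => Y (2 * c + e * k)) (fun k => W (2 * c + e * k))
      (fun k => T (2 * c + e * k)) := by
  have e1 : (fun k => X (2 * c + e * k)) = fun k => im (MulAut.conj g) (X k) := by
    funext k; exact (im_eq_of (hX k)).symm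
  have e2 : (fun k => Y (2 * c + e * k)) = fun k => im (MulAut.conj g) (Y k) := by
    funext k; exact (im_eq_of (hY k)).symm
  have e3 : (fun k => W (2 * c + e * k)) = fun k => im (MulAut.conj g) (W k) := by
    funext k; exact (im_eq_of (hW k)).symm
  have e4 : (fun k => T (2 * c + e * k)) = fun k => im (MulAut.conj g) (T k) := by
    funext k; exact (im_eq_of (hT k)).symm
  rw [e1, e2, e3, e4]
  exact h.conj hg

/-- `w` reflects the family `X` : `w X_k w⁻¹ = X_{2c-k}` -/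
def Rfl (w : G) (c : ℤ) (X : ℤ → Subgroup G) : Prop := ∀ k x, x ∈ X k ↔ w * x * w⁻¹ ∈ X (2 * c - k)

theorem Rfl.comp {w v : G} {c d : ℤ} {X : ℤ → Subgroup G} (h : Rfl w c X) (h' : Rfl v d X) (k : ℤ) (x : G) :
    x ∈ X k ↔ (w * v) * x * (w * v)⁻¹ ∈ X (2 * (c - d) + 1 * k) := by
  rw [h' k x, h _ (v * x * v⁻¹)]
  have e1 : w * (v * x * v⁻¹) * w⁻¹ = (w * v) * x * (w * v)⁻¹ := by group
  have e2 : 2 * c - (2 * d - k) = 2 * (c - d) + 1 * k := by ring
  rw [e1, e2]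

/-- **The input in all positions** from the standard one and elements `w c` of `C(t)` which induce the reflections
`k ↦ 2 c - k` (`w c ∈ ⟨X_{c-4}, X_{c+4}⟩`). -/
theorem inp_of_refl {τ : G →* G} {X Y W T : ℤ → Subgroup G} (h : Gen τ X Y W T) (hb : Base τ X Y W T)
    (hw : ∀ c : ℤ, ∃ w : G, τ w = w ∧ Rfl w c X ∧ Rfl w c Y ∧ Rfl w c W ∧ Rfl w c T) : Inp τ X Y W T where
  toGen := h
  fr c e he := by
    obtain ⟨w, w0, wX, wY, wW, wT⟩ := hw c
    rcases he with rfl | rfl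
    · obtain ⟨v, v0, vX, vY, vW, vT⟩ := hw 0
      have e0 : 2 * (c - 0) = 2 * c := by ring
      refine hb.frame (g := w * v) (by rw [map_mul, w0, v0]) ?_ ?_ ?_ ?_
      · intro k x; rw [← e0]; exact wX.comp vX k x
      · intro k x; rw [← e0]; exact wY.comp vY k x
      · intro k x; rw [← e0]; exact wW.comp vW k x
      · intro k x; rw [← e0]; exact wT.comp vT k x
    · have e0 : ∀ k : ℤ, 2 * c + -1 * k = 2 * c - k := fun k => by ring
      refine hb.frame (g := w) w0 ?_ ?_ ?_ ?_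
      · intro k x; rw [e0]; exact wX k x
      · intro k x; rw [e0]; exact wY k x
      · intro k x; rw [e0]; exact wW k x
      · intro k x; rw [e0]; exact wT k x

end Cfsg.Agent.OddHalf.D7TwF4.Growth.Conj
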