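import Cfsg.Agent.OddHalf.D7TwF4.Growth.KDefs
import Cfsg.Agent.OddHalf.D7TwF4.Growth.Conj

/-!
# Growth of the doubled root groups of `²F₄(q)`: the parts of the input (helper401)

* `WGen τ Y W T` : the fields of `Gen` which mention `W`;
* `WBase X Y W` : the fields of `Base` which mention `W`, without `w24`, `tri`;
* `WTri X W` : `w24`, `tri`;
* `KCen τ X Y W T` : the centralisers in `C(t)` (`k1`, …, `k8`);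
* `Base.of` : `KBase`, `WBase`, `WTri`, `KCen` give `Base`.
-/

set_option autoImplicit false

namespace Cfsg.Agent.OddHalf.D7TwF4.Growth.Defs

variable {G : Type*} [Group G]

/-- The fields of `Gen` which mention `W`. -/
structure WGen (τ : G →* G) (Y W T : ℤ → Subgroup G) : Prop where
  YW : ∀ i, Y i ≤ W i
  Wab : ∀ i, Cm (W i) (W i)
  Wsq : ∀ i, ∀ w ∈ W i, w * w = 1
  Wt : ∀ i, ∀ w ∈ W i, τ w ∈ W i
  Wf : ∀ i, ∀ w ∈ W i, τ w = w → w ∈ Y i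
  Ws : ∀ i, ∀ y ∈ Y i, ∃ w ∈ W i, w⁻¹ * τ w = y
  TW : ∀ i j, Nz (T i) (W j)
  TWc : ∀ i, Cm (T i) (W i)

/-- The fields of `Base` which mention `W`, without `w24` and `tri`. -/
structure WBase (X W : ℤ → Subgroup G) : Prop where
  w01 : Cm (W 0) (W 1)
  w02 : Cm (W 0) (W 2)
  w11 : Cm (W (-1)) (W 1)
  w12 : Cm (W (-1)) (W 2)
  w22 : Cm (W (-2)) (W 2)
  x0w0 : Cm (X 0) (W 0)
  x0w1 : Cm (X 0) (W 1)
  x0w2 : Cm (X 0) (W 2)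
  x3w0 : Cm (X 3) (W 0)
  x4w0 : Cm (X 4) (W 0)
  c12 : Cl (W (-1)) (X 2) (W 0)
  c13 : Cl (W (-1)) (X 3) (W 0)
  c23 : Cl (W (-2)) (X 3) (W 0)
  a14 : Cl (W (-1)) (X 4) (Q2 W)
  a24 : Cl (W (-2)) (X 4) (Q2 W)

/-- Section 3. -/
structure WTri (X W : ℤ → Subgroup G) : Prop where
  /-- 135 degrees -/
  w24 : Cl (W (-2)) (W 4) (EK W)
  /-- `M = ⟨X₋₃, X₅⟩` on the conjugates of `W₄` -/
  tri : ∀ g ∈ X (-3), g ≠ 1 → ∃ h ∈ X 5, ∀ w, w ∈ W 4 ↔ h⁻¹ * (g * w * g⁻¹) * h ∈ W (-2)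

/-- Centralisers in `C(t)`. -/
structure KCen (τ : G →* G) (X Y W T : ℤ → Subgroup G) : Prop where
  k1 : ∀ c, τ c = c → (∀ w ∈ W 0, c * w = w * c) → (∀ x ∈ X 1, c * x = x * c) → (∀ y ∈ Y 2, c * y = y * c) →
    c ∈ NK X Y
  k4 : ∀ c, τ c = c → (∀ w ∈ W 0, c * w = w * c) → (∀ h ∈ T 0, c * h = h * c) → ∃ x ∈ X 0, ∃ h ∈ T 0, c = x * h
  k5 : ∀ c, τ c = c → (∀ w ∈ W 0, c * w = w * c) → (∀ x ∈ X (-1), c * x = x * c) → (∀ x ∈ X 1, c * x = x * c) →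
    c ∈ Q1 X Y ⊔ Y 3 ⊔ Y (-3)
  k6a : ∀ c, τ c = c → (∀ w ∈ W 0, c * w = w * c) → (∀ x ∈ X 0, c * x = x * c) → (∀ y ∈ Y 2, c * y = y * c) →
    c ∈ Q2 Y ⊔ X 4
  k6b : ∀ c, τ c = c → (∀ w ∈ W 0, c * w = w * c) → (∀ x ∈ X 0, c * x = x * c) → (∀ x ∈ X 4, c * x = x * c) →
    c ∈ Y 0 ⊔ Y 2 ⊔ Y 4
  k7 : ∀ c, τ c = c → (∀ w ∈ W 0, c * w = w * c) → (∀ y ∈ Y 2, c * y = y * c) → c ∈ QpK X Y ⊔ X 4
  k8 : ∀ c, τ c = c → (∀ w ∈ W 0, c * w = w * c) → (∀ y ∈ Q2 Y, c * y * c⁻¹ * y⁻¹ ∈ Y 0) → c ∈ Q0 X Y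

/-- **`Base` from its parts.** -/
theorem Base.of {τ : G →* G} {X Y W T : ℤ → Subgroup G} (K : KBase X Y T) (V : WBase X W) (R : WTri X W)
    (C : KCen τ X Y W T) : Base τ X Y W T where
  w01 := V.w01
  w02 := V.w02
  w11 := V.w11
  w12 := V.w12
  w22 := V.w22
  x0w0 := V.x0w0
  x0w1 := V.x0w1
  x0w2 := V.x0w2
  x3w0 := V.x3w0
  x4w0 := V.x4w0
  c12 := V.c12
  c13 := V.c13
  c23 := V.c23
  a14 := V.a14
  a24 := V.a24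
  w24 := R.w24
  tri := R.tri
  x13 := K.x13
  x04 := K.x04
  r14 := K.r14
  r24z := K.r24z
  r24 := K.r24
  r33 := K.r33
  r34z := K.r34z
  r34 := K.r34
  nk5 := K.nk5
  nk4 := K.nk4
  ka := K.ka
  kb := K.kb
  kc := K.kc
  kJ := K.kJ
  kT := K.kT
  tf := K.tf
  k2 := K.k2
  k1 := C.k1
  k4 := C.k4
  k5 := C.k5
  k6a := C.k6a
  k6b := C.k6b
  k7 := C.k7
  k8 := C.k8
  i01 := K.i01
  i012 := K.i012
  i1 := K.i1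
  i2 := K.i2
  i3 := K.i3
  i4 := K.i4
  i5 := K.i5
  i6 := K.i6
  i7 := K.i7
  i8 := K.i8
  i9 := K.i9
  nh1 := K.nh1
  nh2 := K.nh2

end Cfsg.Agent.OddHalf.D7TwF4.Growth.Defs
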