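import Cfsg.Agent.OddHalf.D7TwF4.Fab2V
import Cfsg.Agent.OddHalf.D7TwF4.Growth.WDefs
import Cfsg.Agent.OddHalf.D7TwF4.Growth.KRel

/-!
# Growth for `²F₄(q)`: the fields of `Gen`, `Base` about the doubled groups (helper297)

* `wgen`, `wbase` : `WGen`, `WBase` of the doubles `Vd S i W k`, from `Cx S i t W`;
* `mvs_refl`, `mem_XG_iff`, `mem_YG_iff`, `mem_TG_iff`, `mem_WG_iff` : the action of the elements moving the root groups.
-/

set_option autoImplicit false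
set_option linter.unusedSectionVars false

namespace Cfsg.Agent.OddHalf.D7TwF4.Growth.WOf

open Cfsg.Agent.KFacts.TwF4 Cfsg.Agent.SplitTwo.ZS Cfsg.Agent.OddHalf.D7TwF4.Defs
open Cfsg.Agent.OddHalf.D7TwF4.Fab2 Cfsg.Agent.OddHalf.D7TwF4.Growth.Defs
open Cfsg.Agent.OddHalf.D7TwF4.Growth.KInst

universe u v w

variable {F : Type w} [Field F] {σ : F →+* F} {Y : Type u} [Group Y] {G : Type v} [Group G]
variable {S : Full σ Y} {i : Y →* G} {t : G} {W : ℤ → Subgroup G}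

theorem Zk_eq (S : Full σ Y) (k : ℤ) : Zk S k = YZ S k := by
  obtain ⟨a, ha | ha⟩ := Int.even_or_odd' k
  · subst ha; rw [Zk_even, YZ_even]
  · subst ha; rw [Zk_odd, YZ_odd]

/-! ### the elements of `Y` moving the root groups -/

theorem _root_.Cfsg.Agent.OddHalf.D7TwF4.Fab2.Mvs.mul {g g' : Y} {e c e' c' : ℤ} (h : Mvs S g e c) (h' : Mvs S g' e' c') :
    Mvs S (g * g') (e * e') (e * c' + c) where
  he := by rcases h.he with rfl | rfl <;> rcases h'.he with rfl | rfl <;> norm_num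
  X j x hx := by
    have h1 := h.X _ _ (h'.X j x hx)
    rw [show e * (e' * j + 2 * c') + 2 * c = e * e' * j + 2 * (e * c' + c) by ring] at h1
    have e1 : g * (g' * x * g'⁻¹) * g⁻¹ = g * g' * x * (g * g')⁻¹ := by group
    rwa [e1] at h1
  X' j x hx := by
    rw [show e * e' * j + 2 * (e * c' + c) = e * (e' * j + 2 * c') + 2 * c by ring] at hx
    have h1 := h'.X' j _ (h.X' _ x hx)
    have e1 : g'⁻¹ * (g⁻¹ * x * g) * g' = (g * g')⁻¹ * x * (g * g') := by group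
    rwa [e1] at h1
  Z a x hx := by
    have h1 := h.Z _ _ (h'.Z a x hx)
    rw [show e * (e' * a + c') + c = e * e' * a + (e * c' + c) by ring] at h1
    have e1 : g * (g' * x * g'⁻¹) * g⁻¹ = g * g' * x * (g * g')⁻¹ := by group
    rwa [e1] at h1
  Z' a x hx := by
    rw [show e * e' * a + (e * c' + c) = e * (e' * a + c') + c by ring] at hx
    have h1 := h'.Z' a _ (h.Z' _ x hx)
    have e1 : g'⁻¹ * (g⁻¹ * x * g) * g' = (g * g')⁻¹ * x * (g * g') := by group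
    rwa [e1] at h1

/-- the reflection `k ↦ 2 c - k` -/
theorem mvs_refl (S : Full σ Y) (c : ℤ) : Mvs S (S.rot ^ (c - 4) * S.n2) (-1) c := by
  have h := (mvs_rot S (c - 4)).mul (mvs_n2 S)
  rwa [show (1 : ℤ) * -1 = -1 by norm_num, show 1 * 4 + (c - 4) = c by ring] at h

theorem iff_map {g : Y} {A B : Subgroup Y} (h1 : ∀ x ∈ A, g * x * g⁻¹ ∈ B) (h2 : ∀ x ∈ B, g⁻¹ * x * g ∈ A) (x : G) :
    x ∈ A.map i ↔ i g * x * (i g)⁻¹ ∈ B.map i := by
  constructor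
  · rintro ⟨y, hy, rfl⟩
    exact ⟨_, h1 y hy, by rw [map_mul, map_mul, map_inv]⟩
  · rintro ⟨y, hy, h⟩
    refine ⟨_, h2 y hy, ?_⟩
    rw [map_mul, map_mul, map_inv, h]; group

theorem mem_XG_iff {g : Y} {e c : ℤ} (h : Mvs S g e c) (k : ℤ) (x : G) :
    x ∈ (S.XZ k).map i ↔ i g * x * (i g)⁻¹ ∈ (S.XZ (e * k + 2 * c)).map i := iff_map (h.X k) (h.X' k) x

theorem Zk_mvs {g : Y} {e c : ℤ} (h : Mvs S g e c) {k : ℤ} {x : Y} (hx : x ∈ Zk S k) :
    g * x * g⁻¹ ∈ Zk S (e * k + 2 * c) := by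
  obtain ⟨a, ha | ha⟩ := Int.even_or_odd' k
  · subst ha
    rw [Zk_even] at hx
    rw [show e * (2 * a) + 2 * c = 2 * (e * a + c) by ring, Zk_even]
    exact h.Z a x hx
  · subst ha
    rw [Zk_odd] at hx
    have h1 := h.X _ x hx
    rcases h.he with rfl | rfl
    · rw [show 1 * (2 * a + 1) + 2 * c = 2 * (a + c) + 1 by ring] at h1 ⊢
      rwa [Zk_odd]
    · rw [show -1 * (2 * a + 1) + 2 * c = 2 * (c - a - 1) + 1 by ring] at h1 ⊢
      rwa [Zk_odd]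

theorem Zk_mvs' {g : Y} {e c : ℤ} (h : Mvs S g e c) {k : ℤ} {x : Y} (hx : x ∈ Zk S (e * k + 2 * c)) :
    g⁻¹ * x * g ∈ Zk S k := by
  have h1 := Zk_mvs h.inv hx
  rwa [inv_inv, show e * (e * k + 2 * c) + 2 * -(e * c) = (e * e) * k by ring, h.ee, one_mul] at h1

theorem mem_YG_iff {g : Y} {e c : ℤ} (h : Mvs S g e c) (k : ℤ) (x : G) :
    x ∈ (YZ S k).map i ↔ i g * x * (i g)⁻¹ ∈ (YZ S (e * k + 2 * c)).map i := by
  rw [← Zk_eq, ← Zk_eq]
  exact iff_map (fun _ hx => Zk_mvs h hx) (fun _ hx => Zk_mvs' h hx) x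

theorem mem_TG_iff {g : Y} {e c : ℤ} (h : Mvs S g e c) (k : ℤ) (x : G) :
    x ∈ (S.Tk k).map i ↔ i g * x * (i g)⁻¹ ∈ (S.Tk (e * k + 2 * c)).map i := by
  refine iff_map (fun _ hx => h.Tk k hx) (fun x hx => ?_) x
  have h1 := h.inv.Tk _ hx
  rwa [inv_inv, show e * (e * k + 2 * c) + 2 * -(e * c) = (e * e) * k by ring, h.ee, one_mul] at h1

/-! ### `WGen`, `WBase` -/

section fields

variable (C : Cx S i t W)

include C

theorem mem_WG_iff {g : Y} {e c : ℤ} (h : Mvs S g e c) (k : ℤ) (x : G) :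
    x ∈ Vd S i W k ↔ i g * x * (i g)⁻¹ ∈ Vd S i W (e * k + 2 * c) := C.Vd_iff h k x

theorem tau_i (y : Y) : (MulAut.conj t).toMonoidHom (i y) = i y := by
  show t * i y * t⁻¹ = i y
  rw [C.P.ti, mul_inv_cancel_right]

theorem tau_eq (x : G) : (MulAut.conj t).toMonoidHom x = t * x * t := by
  show t * x * t⁻¹ = _
  rw [C.t_inv]

/-- **the fields of `Gen` about the doubles.** -/
theorem wgen : WGen (MulAut.conj t).toMonoidHom (fun k => (YZ S k).map i) (Vd S i W) (fun k => (S.Tk k).map i) where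
  YW k := by
    rintro _ ⟨y, hy, rfl⟩
    exact C.vdata.le k y (by rw [Zk_eq]; exact hy)
  Wab k v hv v' hv' := C.vdata.ab k v hv v' hv'
  Wsq k v hv := C.vdata.sq k v hv
  Wt k v hv := by rw [tau_eq C]; exact C.vdata.tinv k v hv
  Wf k v hv h := by
    rw [tau_eq C] at h
    obtain ⟨y, hy, rfl⟩ := C.vdata.fix k v hv h
    exact ⟨y, by rw [← Zk_eq]; exact hy, rfl⟩
  Ws k := by
    rintro _ ⟨y, hy, rfl⟩
    obtain ⟨v, hv, e⟩ := C.vdata.sur k y (by rw [Zk_eq]; exact hy)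
    exact ⟨v, hv, by rw [tau_eq C, e, inv_mul_cancel_left]⟩
  TW j k := by
    rintro _ ⟨h, hh, rfl⟩ v hv
    exact C.vdata.tor k h hh.1 v hv
  TWc k := by
    rintro _ ⟨h, hh, rfl⟩ v hv
    exact C.vdata.torc k h hh v hv

theorem mem_Q2 {v : G} : v ∈ Q2 (fun k => Vd S i W (4 + k)) ↔
    v ∈ Vd S i W 2 ⊔ Vd S i W 3 ⊔ Vd S i W 4 ⊔ Vd S i W 5 ⊔ Vd S i W 6 := by
  have e : Q2 (fun k => Vd S i W (4 + k)) =
      Vd S i W 4 ⊔ Vd S i W 5 ⊔ Vd S i W 6 ⊔ Vd S i W 3 ⊔ Vd S i W 2 := rfl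
  rw [e, show Vd S i W 4 ⊔ Vd S i W 5 ⊔ Vd S i W 6 ⊔ Vd S i W 3 ⊔ Vd S i W 2 =
    Vd S i W 2 ⊔ Vd S i W 3 ⊔ Vd S i W 4 ⊔ Vd S i W 5 ⊔ Vd S i W 6 by ac_rfl]

/-- **the fields of `Base` about the doubles, without `w24`, `tri`.** -/
theorem wbase : WBase (fun k => (S.XZ (4 + k)).map i) (fun k => Vd S i W (4 + k)) := by
  have D := C.vdata
  have hcl : ∀ j k : ℤ, 2 ≤ j → j ≤ 6 → 1 ≤ k → k ≤ 7 → Cl (Vd S i W j) ((S.XZ k).map i) (Vd S i W 4) := by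
    rintro j k h1 h2 h3 h4 v hv _ ⟨x, hx, rfl⟩
    exact D.cl j k h1 h2 h3 h4 v hv x hx
  have hx4 : ∀ j : ℤ, 2 ≤ j → j ≤ 6 → Cm ((S.XZ 4).map i) (Vd S i W j) := by
    rintro j h1 h2 _ ⟨x, hx, rfl⟩ v hv
    exact (D.x4 j h1 h2 v hv x hx).symm
  have hv4 : ∀ k : ℤ, 0 ≤ k → k ≤ 8 → Cm ((S.XZ k).map i) (Vd S i W 4) := by
    rintro k h1 h2 _ ⟨x, hx, rfl⟩ v hv
    exact (D.v4 v hv k h1 h2 x hx).symm
  have hcm : ∀ j k : ℤ, 2 ≤ j → j ≤ 6 → 2 ≤ k → k ≤ 6 → Cm (Vd S i W j) (Vd S i W k) :=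
    fun j k h1 h2 h3 h4 v hv v' hv' => D.cm j k h1 h2 h3 h4 v hv v' hv'
  have hin : ∀ j : ℤ, 2 ≤ j → j ≤ 3 → ∀ v ∈ Vd S i W j,
      v ∈ Vd S i W 2 ⊔ Vd S i W 3 ⊔ Vd S i W 4 ⊔ Vd S i W 5 ⊔ Vd S i W 6 := by
    intro j h1 h2 v hv
    interval_cases j
    · exact Subgroup.mem_sup_left (Subgroup.mem_sup_left (Subgroup.mem_sup_left (Subgroup.mem_sup_left hv)))
    · exact Subgroup.mem_sup_left (Subgroup.mem_sup_left (Subgroup.mem_sup_left (Subgroup.mem_sup_right hv)))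
  have ha : ∀ j : ℤ, 2 ≤ j → j ≤ 3 → Cl (Vd S i W j) ((S.XZ 8).map i) (Q2 (fun k => Vd S i W (4 + k))) := by
    rintro j h1 h2 v hv _ ⟨x, hx, rfl⟩
    rw [mem_Q2 C]
    have e1 : v * i x * v⁻¹ * (i x)⁻¹ = v * (i x * v⁻¹ * (i x)⁻¹) := by group
    rw [e1]
    exact mul_mem (hin j h1 h2 v hv) (D.x8 8 (by norm_num) le_rfl x hx _ (inv_mem (hin j h1 h2 v hv)))
  exact
    { w01 := hcm 4 5 (by norm_num) (by norm_num) (by norm_num) (by norm_num)
      w02 := hcm 4 6 (by norm_num) (by norm_num) (by norm_num) (by norm_num)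
      w11 := hcm 3 5 (by norm_num) (by norm_num) (by norm_num) (by norm_num)
      w12 := hcm 3 6 (by norm_num) (by norm_num) (by norm_num) (by norm_num)
      w22 := hcm 2 6 (by norm_num) (by norm_num) (by norm_num) (by norm_num)
      x0w0 := hx4 4 (by norm_num) (by norm_num)
      x0w1 := hx4 5 (by norm_num) (by norm_num)
      x0w2 := hx4 6 (by norm_num) (by norm_num)
      x3w0 := hv4 7 (by norm_num) (by norm_num)
      x4w0 := hv4 8 (by norm_num) (by norm_num)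
      c12 := hcl 3 6 (by norm_num) (by norm_num) (by norm_num) (by norm_num)
      c13 := hcl 3 7 (by norm_num) (by norm_num) (by norm_num) (by norm_num)
      c23 := hcl 2 7 (by norm_num) (by norm_num) (by norm_num) (by norm_num)
      a14 := ha 3 (by norm_num) (by norm_num)
      a24 := ha 2 (by norm_num) (by norm_num) }

end fields

end Cfsg.Agent.OddHalf.D7TwF4.Growth.WOf
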