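import Cfsg.Agent.OddHalf.D7TwF4.Growth.KCen
import Cfsg.Agent.OddHalf.D7TwF4.Growth.Frame
import Cfsg.Agent.OddHalf.D7TwF4.PairTri
import Cfsg.Agent.OddHalf.D7TwF4.Growth.WOf
import Cfsg.Agent.OddHalf.D7TwF4.Fab

/-!
# Growth for `²F₄(q)`: the input (helper401)

* `refl` : the elements `i (rot^c n2)` induce the reflections of the families `X`, `Y`, `V`, `T`;
* `inp` : the input of the growth, from its parts.
-/

set_option autoImplicit false
set_option linter.unusedSectionVars false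
set_option linter.unusedVariables false

namespace Cfsg.Agent.OddHalf.D7TwF4.Growth.Glue

open Cfsg.Agent.KFacts.TwF4 Cfsg.Agent.SplitTwo.ZS Cfsg.Agent.OddHalf.D7TwF4.Growth.Defs
open Cfsg.Agent.OddHalf.D7TwF4.Defs Cfsg.Agent.OddHalf.D7TwF4.Growth.KInst Cfsg.Agent.OddHalf.D7TwF4.Fab2
open Cfsg.Agent.OddHalf.D7TwF4.Growth.KCen Cfsg.Agent.OddHalf.D7TwF4.Growth.Conj Cfsg.Agent.OddHalf.D7TwF4.Growth.Frame

universe u v w

variable {F₀ : Type w} [Field F₀] {σ : F₀ →+* F₀} {Y : Type u} [Group Y] {G : Type v} [Group G]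
variable {S : Full σ Y} {i : Y →* G} {t : G} {W : ℤ → Subgroup G}

theorem mvs_ref (S : Full σ Y) (c : ℤ) : Mvs S (S.rot ^ c * S.n2) (-1) (4 + c) where
  he := Or.inr rfl
  X j x hx := by
    have h1 := (mvs_rot S c).X _ _ ((mvs_n2 S).X j x hx)
    have e : S.rot ^ c * (S.n2 * x * S.n2⁻¹) * (S.rot ^ c)⁻¹ = S.rot ^ c * S.n2 * x * (S.rot ^ c * S.n2)⁻¹ := by group
    rw [e] at h1
    rwa [show -1 * j + 2 * (4 + c) = 1 * (-1 * j + 2 * 4) + 2 * c by ring]
  X' j x hx := by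
    rw [show -1 * j + 2 * (4 + c) = 1 * (-1 * j + 2 * 4) + 2 * c by ring] at hx
    have h1 := (mvs_n2 S).X' _ _ ((mvs_rot S c).X' _ _ hx)
    have e : S.n2⁻¹ * ((S.rot ^ c)⁻¹ * x * S.rot ^ c) * S.n2 = (S.rot ^ c * S.n2)⁻¹ * x * (S.rot ^ c * S.n2) := by group
    rwa [e] at h1
  Z a x hx := by
    have h1 := (mvs_rot S c).Z _ _ ((mvs_n2 S).Z a x hx)
    have e : S.rot ^ c * (S.n2 * x * S.n2⁻¹) * (S.rot ^ c)⁻¹ = S.rot ^ c * S.n2 * x * (S.rot ^ c * S.n2)⁻¹ := by group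
    rw [e] at h1
    rwa [show -1 * a + (4 + c) = 1 * (-1 * a + 4) + c by ring]
  Z' a x hx := by
    rw [show -1 * a + (4 + c) = 1 * (-1 * a + 4) + c by ring] at hx
    have h1 := (mvs_n2 S).Z' _ _ ((mvs_rot S c).Z' _ _ hx)
    have e : S.n2⁻¹ * ((S.rot ^ c)⁻¹ * x * S.rot ^ c) * S.n2 = (S.rot ^ c * S.n2)⁻¹ * x * (S.rot ^ c * S.n2) := by group
    rwa [e] at h1

/-- the image of a family -/
theorem map_iff (P : Pos S i t) {g : Y} {A B : Subgroup Y} (h1 : ∀ x ∈ A, g * x * g⁻¹ ∈ B)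
    (h2 : ∀ x ∈ B, g⁻¹ * x * g ∈ A) (x : G) : x ∈ A.map i ↔ i g * x * (i g)⁻¹ ∈ B.map i := by
  constructor
  · rintro ⟨y, hy, rfl⟩
    exact ⟨_, h1 y hy, by rw [map_mul, map_mul, map_inv]⟩
  · rintro ⟨y, hy, e⟩
    refine ⟨_, h2 y hy, ?_⟩
    rw [map_mul, map_mul, map_inv, e]
    group

theorem YZ_mvs {g : Y} {e c : ℤ} (h : Mvs S g e c) (k : ℤ) {x : Y} (hx : x ∈ YZ S k) :
    g * x * g⁻¹ ∈ YZ S (e * k + 2 * c) := by
  obtain ⟨a, ha | ha⟩ := Int.even_or_odd' k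
  · subst ha
    rw [YZ_even] at hx
    rw [show e * (2 * a) + 2 * c = 2 * (e * a + c) by ring, YZ_even]
    exact h.Z a x hx
  · subst ha
    rw [YZ_odd] at hx
    have h1 := h.X _ x hx
    obtain ⟨b, hb⟩ : ∃ b, e * (2 * a + 1) + 2 * c = 2 * b + 1 := by
      rcases h.he with rfl | rfl
      · exact ⟨a + c, by ring⟩
      · exact ⟨-a - 1 + c, by ring⟩
    rw [hb] at h1 ⊢
    rw [YZ_odd]
    exact h1

/-- the inverse direction for a family -/
theorem inv_dir {A : ℤ → Subgroup Y} (hA : ∀ {g : Y} {e c : ℤ}, Mvs S g e c → ∀ (k : ℤ) (x : Y), x ∈ A k →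
    g * x * g⁻¹ ∈ A (e * k + 2 * c)) {g : Y} {e c : ℤ} (h : Mvs S g e c) (k : ℤ) (x : Y)
    (hx : x ∈ A (e * k + 2 * c)) : g⁻¹ * x * g ∈ A k := by
  have h1 := hA h.inv _ x hx
  rwa [inv_inv, show e * (e * k + 2 * c) + 2 * -(e * c) = (e * e) * k by ring, h.ee, one_mul] at h1

theorem rfl_map (P : Pos S i t) {A : ℤ → Subgroup Y} (hA : ∀ {g : Y} {e c : ℤ}, Mvs S g e c → ∀ (k : ℤ) (x : Y),
    x ∈ A k → g * x * g⁻¹ ∈ A (e * k + 2 * c)) (c : ℤ) :
    Rfl (i (S.rot ^ c * S.n2)) c (fun k => (A (4 + k)).map i) := by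
  intro k x
  have h := mvs_ref S c
  have h1 := map_iff P (g := S.rot ^ c * S.n2) (A := A (4 + k)) (B := A (-1 * (4 + k) + 2 * (4 + c)))
    (fun x hx => hA h _ x hx) (fun x hx => inv_dir hA h _ x hx) x
  have e : -1 * (4 + k) + 2 * (4 + c) = 4 + (2 * c - k) := by ring
  rw [e] at h1
  exact h1

theorem rfl_V (C : Cx S i t W) (c : ℤ) : Rfl (i (S.rot ^ c * S.n2)) c (fun k => Vd S i W (4 + k)) := by
  intro k x
  have h1 := C.Vd_iff (mvs_ref S c) (4 + k) x
  have e : -1 * (4 + k) + 2 * (4 + c) = 4 + (2 * c - k) := by ring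
  rw [e] at h1
  exact h1

/-- **The input**, from its parts. -/
theorem inp_of (C : Cx S i t W)
    (hg : Gen (tau t) (fun k => (S.XZ (4 + k)).map i) (fun k => (YZ S (4 + k)).map i) (fun k => Vd S i W (4 + k))
      (fun k => (S.Tk (4 + k)).map i))
    (hb : Base (tau t) (fun k => (S.XZ (4 + k)).map i) (fun k => (YZ S (4 + k)).map i) (fun k => Vd S i W (4 + k))
      (fun k => (S.Tk (4 + k)).map i)) :
    Inp (tau t) (fun k => (S.XZ (4 + k)).map i) (fun k => (YZ S (4 + k)).map i) (fun k => Vd S i W (4 + k))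
      (fun k => (S.Tk (4 + k)).map i) :=
  inp_of_refl hg hb fun c => ⟨i (S.rot ^ c * S.n2), tau_iff.2 (C.P.ti _).symm,
    rfl_map C.P (fun h k x hx => h.X k x hx) c, rfl_map C.P (fun h k x hx => YZ_mvs h k hx) c, rfl_V C c,
    rfl_map C.P (fun h k x hx => h.Tk k hx) c⟩

/-! ### `Gen` -/

theorem YZ_le (S : Full σ Y) (k : ℤ) : YZ S k ≤ S.XZ k := by
  rw [← WOf.Zk_eq]; exact Zk_le S k

theorem YZ_T (S : Full σ Y) (k : ℤ) {h : Y} (hh : h ∈ S.T) {x : Y} (hx : x ∈ YZ S k) : h * x * h⁻¹ ∈ YZ S k := by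
  have := YZ_mvs (mvs_T hh) k hx
  rwa [one_mul, mul_zero, add_zero] at this

/-- **The general facts.** -/
theorem gen (C : Cx S i t W) : Gen (tau t) (fun k => (S.XZ k).map i) (fun k => (YZ S k).map i) (Vd S i W)
    (fun k => (S.Tk k).map i) := by
  have V := WOf.wgen C
  have := finite_Y C.P
  exact
    { tt := fun x => by
        rw [tau_eq C.P, tau_eq C.P]
        calc t * (t * x * t) * t = (t * t) * x * (t * t) := by group
          _ = x := by rw [C.P.tt]; group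
      tX := by
        rintro k _ ⟨x, -, rfl⟩
        exact tau_iff.2 (C.P.ti _).symm
      tT := by
        rintro k _ ⟨x, -, rfl⟩
        exact tau_iff.2 (C.P.ti _).symm
      YX := fun k => Subgroup.map_mono (YZ_le S k)
      Yo := fun c => by
        show (YZ S (2 * c + 1)).map i = (S.XZ (2 * c + 1)).map i
        rw [YZ_odd]
      YW := V.YW
      Wab := V.Wab
      Wsq := V.Wsq
      Wt := V.Wt
      Wf := V.Wf
      Ws := V.Ws
      TX := by
        rintro k j _ ⟨h, hh, rfl⟩ _ ⟨x, hx, rfl⟩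
        exact ⟨_, S.T_conj hh.1 j hx, by rw [map_mul, map_mul, map_inv]⟩
      TY := by
        rintro k j _ ⟨h, hh, rfl⟩ _ ⟨x, hx, rfl⟩
        exact ⟨_, YZ_T S j hh.1 hx, by rw [map_mul, map_mul, map_inv]⟩
      TW := V.TW
      TT := by
        rintro k j _ ⟨h, hh, rfl⟩ _ ⟨x, hx, rfl⟩
        rw [← map_mul, ← map_mul, S.T_comm hh.1 hx.1]
      TXc := by
        rintro k _ ⟨h, hh, rfl⟩ _ ⟨x, hx, rfl⟩
        rw [← map_mul, ← map_mul, S.Tk_comm hh hx]
      TWc := V.TWc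
      Todd := fun k => by
        have h1 := odd_Tk S k
        have h2 : Nat.card ((S.Tk k).map i) = Nat.card (S.Tk k) :=
          (Nat.card_congr ((S.Tk k).equivMapOfInjective i C.P.inj).toEquiv).symm
        show Odd (Nat.card ((S.Tk k).map i))
        rw [h2]; exact h1
      hf := by
        intro k j hkj
        obtain ⟨h, hh, h1⟩ := Pair.exists_tor C.P C.D C.vdata k
        refine ⟨i h, ⟨h, hh, rfl⟩, ?_⟩
        rintro _ ⟨x, hx, rfl⟩ h2
        rw [h1 j hkj x hx (C.P.inj (by rw [map_mul, map_mul, map_inv]; exact h2)), map_one] }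

/-- a family in the standard position -/
theorem F_std (A : ℤ → Subgroup G) : Frame.F 2 1 A = fun k => A (4 + k) := by
  funext k
  show A (2 * 2 + 1 * k) = A (4 + k)
  congr 1; ring

theorem F_back (A : ℤ → Subgroup G) : Frame.F (-2) 1 (Frame.F 2 1 A) = A := by
  rw [F_F]
  have : Frame.F (2 + 1 * -2) (1 * 1) A = Frame.F 0 1 A := by norm_num
  rw [this, F_id]

theorem base (C : Cx S i t W) (K : KBase (fun k => (S.XZ (4 + k)).map i) (fun k => (YZ S (4 + k)).map i)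
      (fun k => (S.Tk (4 + k)).map i)) :
    Base (tau t) (fun k => (S.XZ (4 + k)).map i) (fun k => (YZ S (4 + k)).map i) (fun k => Vd S i W (4 + k))
      (fun k => (S.Tk (4 + k)).map i) :=
  Base.of K (WOf.wbase C) (Pair.wtri C.P C.D C.vdata) (kcen C.P C.D fun w hw => by
    show w ∈ Vd S i W (2 * 2)
    rw [Vd_even]; exact hw)

/-- **The input of the growth**, from the facts in `K`. -/
theorem inp (C : Cx S i t W) (K : KBase (fun k => (S.XZ (4 + k)).map i) (fun k => (YZ S (4 + k)).map i)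
      (fun k => (S.Tk (4 + k)).map i)) :
    Inp (tau t) (fun k => (S.XZ k).map i) (fun k => (YZ S k).map i) (Vd S i W) (fun k => (S.Tk k).map i) := by
  have hg := Frame.gen (gen C) (c := 2) (e := 1) (Or.inl rfl)
  rw [F_std, F_std, F_std, F_std] at hg
  have h := inp_of C hg (base C K)
  have h1 := Frame.inp h (-2) (Or.inl rfl)
  rw [← F_std (fun k => (S.XZ k).map i), ← F_std (fun k => (YZ S k).map i), ← F_std (Vd S i W),
    ← F_std (fun k => (S.Tk k).map i), F_back, F_back, F_back, F_back] at h1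
  exact h1

end Cfsg.Agent.OddHalf.D7TwF4.Growth.Glue
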