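import Cfsg.Agent.OddHalf.D7TwF4.Growth.KGenr

/-!
# Growth of the doubled root groups of `²F₄(q)`: all frames (helper517)

* `kbaseStd` : `KBase` in the standard frame; `kbase` : in all frames `k ↦ 2 c + ε k`, and in an overgroup `i : G → G'`;
* `KGen`, `kgen` : the fields of `Gen` which only speak about the root groups and the torus.
-/

set_option autoImplicit false
set_option linter.unusedSectionVars false

namespace Cfsg.Agent.OddHalf.D7TwF4.Growth.KInst

open Cfsg.Agent.KFacts.TwF4 Cfsg.Agent.SplitTwo.ZS Cfsg.Agent.OddHalf.D7TwF4.Growth.Defs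
open scoped commutatorElement

universe u

variable {F : Type*} [Field F] {σ : F →+* F} {G : Type u} [Group G] (S : Full σ G)

/-- **`KBase` in the standard frame.** -/
theorem kbaseStd (hq : 4 < Nat.card F) : KBase (Xf S) (Yf S) (Tf S) where
  x13 := x13 S
  x04 := x04 S
  r14 := r14 S
  r24z := r24z S
  r24 := r24 S
  r33 := r33 S
  r34z := r34z S
  r34 := r34 S
  nk5 := nk5 S
  nk4 := nk4 S
  ka := ka S
  kb := kb S
  kc := kc S
  kJ := kJ S (by omega)
  kT := kT S (by omega)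
  tf := tf S
  k2 := k2 S hq
  i01 := i01 S
  i012 := i012 S
  i1 := i1 S
  i2 := i2 S
  i3 := i3 S
  i4 := i4 S
  i5 := i5 S
  i6 := i6 S
  i7 := i7 S
  i8 := i8 S
  i9 := i9 S
  nh1 := nh1 S (by omega)
  nh2 := nh2 S (by omega)

/-! ### rotations -/

theorem YZ_ck (m k : ℤ) : (YZ S k).map (S.ck m).toMonoidHom = YZ S (k + 2 * m) := by
  obtain ⟨a, h | h⟩ := Int.even_or_odd' k
  · rw [h, YZ_even, S.map_Zc, ← mul_add, YZ_even]
    push_cast
    rfl
  · rw [h, YZ_odd, S.map_X, show 2 * a + 1 + 2 * m = 2 * (a + m) + 1 by ring, YZ_odd]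

theorem Tk_ck (m k : ℤ) : (S.Tk k).map (S.ck m).toMonoidHom = S.Tk (k + 2 * m) := by
  apply le_antisymm
  · rintro _ ⟨t, ht, rfl⟩
    exact S.ck_Tk m ht
  · intro t ht
    have h1 := S.ck_Tk (-m) ht
    rw [show k + 2 * m + 2 * -m = k by ring] at h1
    refine ⟨S.ck (-m) t, h1, ?_⟩
    show S.ck m (S.ck (-m) t) = t
    rw [S.ck_apply, S.ck_apply]
    group

/-! ### the reflection `k ↦ 8 - k` -/

theorem XZ_n2 (k : ℤ) : (S.XZ k).map (MulAut.conj S.n2).toMonoidHom = S.XZ (8 - k) := by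
  apply le_antisymm
  · rintro _ ⟨x, hx, rfl⟩
    exact S.n2_refl.mem hx
  · intro x hx
    have h1 := S.n2_refl.mem_inv (k := k) hx (by ring)
    refine ⟨S.n2⁻¹ * x * S.n2, h1, ?_⟩
    show S.n2 * (S.n2⁻¹ * x * S.n2) * S.n2⁻¹ = x
    group

theorem YZ_n2 (k : ℤ) : (YZ S k).map (MulAut.conj S.n2).toMonoidHom = YZ S (8 - k) := by
  obtain ⟨a, h | h⟩ := Int.even_or_odd' k
  · rw [h, YZ_even, show 8 - 2 * a = 2 * (4 - a) by ring, YZ_even]
    have e : ((4 - a : ℤ) : ZMod 8) = 4 - (a : ZMod 8) := by push_cast; rfl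
    rw [e]
    apply le_antisymm
    · rintro _ ⟨_, ⟨u, rfl⟩, rfl⟩
      exact ⟨u, (S.n2_e a 0 u).symm⟩
    · rintro _ ⟨u, rfl⟩
      exact ⟨S.e a 0 u, ⟨u, rfl⟩, S.n2_e a 0 u⟩
  · rw [h, YZ_odd, XZ_n2, show 8 - (2 * a + 1) = 2 * (3 - a) + 1 by ring, YZ_odd]

theorem n2_Tk_mem {k : ℤ} {t : G} (ht : t ∈ S.Tk k) : S.n2 * t * S.n2⁻¹ ∈ S.Tk (8 - k) := by
  refine ⟨?_, Subgroup.mem_centralizer_iff.2 fun x hx => ?_⟩
  · obtain ⟨c, d, rfl⟩ := S.mem_T.1 ht.1
    rw [S.n2_h]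
    exact S.mem_T.2 ⟨_, _, rfl⟩
  · have h1 := S.n2_refl.mem_inv (k := k) hx (by ring)
    have h2 := S.Tk_comm ht h1
    calc x * (S.n2 * t * S.n2⁻¹) = S.n2 * ((S.n2⁻¹ * x * S.n2) * t) * S.n2⁻¹ := by group
      _ = _ := by rw [← h2]; group

theorem Tk_n2 (k : ℤ) : (S.Tk k).map (MulAut.conj S.n2).toMonoidHom = S.Tk (8 - k) := by
  apply le_antisymm
  · rintro _ ⟨t, ht, rfl⟩
    exact n2_Tk_mem S ht
  · intro t ht
    have h1 := n2_Tk_mem S ht
    rw [sub_sub_cancel] at h1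
    refine ⟨_, h1, ?_⟩
    show S.n2 * (S.n2 * t * S.n2⁻¹) * S.n2⁻¹ = t
    have e : S.n2⁻¹ * S.n2⁻¹ = 1 := by rw [← mul_inv_rev, S.n2_sq, inv_one]
    calc S.n2 * (S.n2 * t * S.n2⁻¹) * S.n2⁻¹ = (S.n2 * S.n2) * t * (S.n2⁻¹ * S.n2⁻¹) := by group
      _ = t := by rw [S.n2_sq, e, one_mul, mul_one]

/-! ### the frames -/

theorem kbaseP (hq : 4 < Nat.card F) (c : ℤ) :
    KBase (fun k => S.XZ (2 * c + 1 * k)) (fun k => YZ S (2 * c + 1 * k)) (fun k => S.Tk (2 * c + 1 * k)) := by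
  have h := (kbaseStd S hq).map (f := (S.ck (c - 2)).toMonoidHom) (S.ck (c - 2)).injective
  have e : ∀ k : ℤ, 4 + k + 2 * (c - 2) = 2 * c + 1 * k := fun k => by ring
  have e1 : (fun k => (Xf S k).map (S.ck (c - 2)).toMonoidHom) = fun k => S.XZ (2 * c + 1 * k) := by
    funext k; rw [S.map_X, e]
  have e2 : (fun k => (Yf S k).map (S.ck (c - 2)).toMonoidHom) = fun k => YZ S (2 * c + 1 * k) := by
    funext k; rw [YZ_ck, e]
  have e3 : (fun k => (Tf S k).map (S.ck (c - 2)).toMonoidHom) = fun k => S.Tk (2 * c + 1 * k) := by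
    funext k; rw [Tk_ck, e]
  rwa [e1, e2, e3] at h

theorem kbaseM (hq : 4 < Nat.card F) (c : ℤ) :
    KBase (fun k => S.XZ (2 * c + -1 * k)) (fun k => YZ S (2 * c + -1 * k)) (fun k => S.Tk (2 * c + -1 * k)) := by
  have h := ((kbaseStd S hq).map (f := (MulAut.conj S.n2).toMonoidHom) (MulAut.conj S.n2).injective).map
    (f := (S.ck (c - 2)).toMonoidHom) (S.ck (c - 2)).injective
  have e : ∀ k : ℤ, 8 - (4 + k) + 2 * (c - 2) = 2 * c + -1 * k := fun k => by ring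
  have e1 : (fun k => ((Xf S k).map (MulAut.conj S.n2).toMonoidHom).map (S.ck (c - 2)).toMonoidHom) =
      fun k => S.XZ (2 * c + -1 * k) := by
    funext k; rw [XZ_n2, S.map_X, e]
  have e2 : (fun k => ((Yf S k).map (MulAut.conj S.n2).toMonoidHom).map (S.ck (c - 2)).toMonoidHom) =
      fun k => YZ S (2 * c + -1 * k) := by
    funext k; rw [YZ_n2, YZ_ck, e]
  have e3 : (fun k => ((Tf S k).map (MulAut.conj S.n2).toMonoidHom).map (S.ck (c - 2)).toMonoidHom) =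
      fun k => S.Tk (2 * c + -1 * k) := by
    funext k; rw [Tk_n2, Tk_ck, e]
  rwa [e1, e2, e3] at h

/-- **`KBase` in all frames, in an overgroup.** -/
theorem kbase (hq : 4 < Nat.card F) {G' : Type*} [Group G'] {i : G →* G'} (hi : Function.Injective i) (c e : ℤ)
    (he : e = 1 ∨ e = -1) : KBase (fun k => (S.XZ (2 * c + e * k)).map i) (fun k => (YZ S (2 * c + e * k)).map i)
      (fun k => (S.Tk (2 * c + e * k)).map i) := by
  rcases he with rfl | rfl
  · exact (kbaseP S hq c).map hi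
  · exact (kbaseM S hq c).map hi

/-! ### the general facts -/

end Cfsg.Agent.OddHalf.D7TwF4.Growth.KInst

namespace Cfsg.Agent.OddHalf.D7TwF4.Growth.Defs

variable {G : Type*} [Group G]

/-- the fields of `Gen` which only speak about the root groups and the torus of `K` -/
structure KGen (X Y T : ℤ → Subgroup G) : Prop where
  YX : ∀ i, Y i ≤ X i
  Yo : ∀ c, Y (2 * c + 1) = X (2 * c + 1)
  TX : ∀ i j, Nz (T i) (X j)
  TY : ∀ i j, Nz (T i) (Y j)
  TT : ∀ i j, Cm (T i) (T j)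
  TXc : ∀ i, Cm (T i) (X i)
  Todd : ∀ i, Odd (Nat.card (T i))
  hf : ∀ i j : ℤ, ¬ (8 : ℤ) ∣ j - i → ∃ h ∈ T i, ∀ x ∈ X j, h * x * h⁻¹ = x → x = 1

theorem KGen.map {G' : Type*} [Group G'] {f : G →* G'} {X Y T : ℤ → Subgroup G} (H : KGen X Y T)
    (hf : Function.Injective f) : KGen (fun k => (X k).map f) (fun k => (Y k).map f) (fun k => (T k).map f) where
  YX i := Subgroup.map_mono (H.YX i)
  Yo c := by
    show (Y (2 * c + 1)).map f = (X (2 * c + 1)).map f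
    rw [H.Yo]
  TX i j := (H.TX i j).map f
  TY i j := (H.TY i j).map f
  TT i j := (H.TT i j).map f
  TXc i := (H.TXc i).map f
  Todd i := by
    have h := H.Todd i
    rwa [← Subgroup.card_map_of_injective hf] at h
  hf i j hij := by
    obtain ⟨h, hh, h1⟩ := H.hf i j hij
    refine ⟨f h, ⟨h, hh, rfl⟩, ?_⟩
    rintro _ ⟨x, hx, rfl⟩ h2
    rw [← map_inv, ← map_mul, ← map_mul] at h2
    rw [h1 x hx (hf h2), map_one]

end Cfsg.Agent.OddHalf.D7TwF4.Growth.Defs

namespace Cfsg.Agent.OddHalf.D7TwF4.Growth.KInst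

open Cfsg.Agent.KFacts.TwF4 Cfsg.Agent.SplitTwo.ZS Cfsg.Agent.OddHalf.D7TwF4.Growth.Defs

universe u

variable {F : Type*} [Field F] {σ : F →+* F} {G : Type u} [Group G] (S : Full σ G)

theorem YZ_le (k : ℤ) : YZ S k ≤ S.XZ k := by
  obtain ⟨a, h | h⟩ := Int.even_or_odd' k
  · rw [h, YZ_even]
    rintro _ ⟨u, rfl⟩
    exact S.e_mem a 0 u
  · rw [h, YZ_odd]

theorem finite_T (hq : 4 < Nat.card F) : Finite S.T := by
  have : Finite F := Nat.finite_of_card_ne_zero (by omega)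
  have h : Function.Surjective (fun x : Fˣ × Fˣ => (⟨S.h x.1 x.2, S.mem_T.2 ⟨_, _, rfl⟩⟩ : S.T)) := by
    rintro ⟨t, ht⟩
    obtain ⟨c, d, rfl⟩ := S.mem_T.1 ht
    exact ⟨(c, d), rfl⟩
  exact Finite.of_surjective _ h

theorem Tk_odd (hq : 4 < Nat.card F) (k : ℤ) : Odd (Nat.card (S.Tk k)) := by
  have := finite_T S hq
  have hfin : Finite (S.Tk k) := Finite.of_injective (Subgroup.inclusion (S.Tk_le k)) (Subgroup.inclusion_injective _)
  by_contra h
  rw [Nat.not_odd_iff_even] at h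
  have : Fact (Nat.Prime 2) := ⟨Nat.prime_two⟩
  obtain ⟨x, hx⟩ := exists_prime_orderOf_dvd_card' 2 h.two_dvd
  obtain ⟨c, d, hcd⟩ := S.mem_T.1 (S.Tk_le k x.2)
  have h2 : (x : G) ^ 2 = 1 := by
    have := pow_orderOf_eq_one x
    rw [hx] at this
    have h3 := congrArg Subtype.val this
    exact h3
  rw [← hcd, pow_two, S.h_mul, ← S.h_one] at h2
  obtain ⟨h3, h4⟩ := S.h_inj _ _ _ _ h2
  have key : ∀ c : Fˣ, c * c = 1 → c = 1 := by
    intro c hc
    have h5 : (c : F) * c = 1 := congrArg Units.val hc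
    have h6 : ((c : F) + 1) * ((c : F) + 1) = 0 := by
      have h7 := S.add_self (1 : F)
      have h8 := S.add_self (c : F)
      linear_combination h5 + h8 + h7
    have h9 := mul_self_eq_zero.1 h6
    apply Units.ext
    have h7 := S.add_self (1 : F)
    rw [Units.val_one]
    linear_combination h9 - h7
  rw [key c h3, key d h4, S.h_one] at hcd
  have h5 : x = 1 := Subtype.ext hcd.symm
  rw [h5, orderOf_one] at hx
  omega

theorem kgen0 (hq : 4 < Nat.card F) : KGen S.XZ (YZ S) S.Tk where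
  YX := YZ_le S
  Yo c := YZ_odd S c
  TX i j t ht x hx := S.T_conj ht.1 j hx
  TY i j t ht x hx := by
    obtain ⟨a, h | h⟩ := Int.even_or_odd' j
    · rw [h, YZ_even] at hx ⊢
      exact S.T_conj_Zc ht.1 hx
    · rw [h, YZ_odd] at hx ⊢
      exact S.T_conj ht.1 _ hx
  TT i j t ht s hs := S.T_comm ht.1 hs.1
  TXc i t ht x hx := S.Tk_comm ht hx
  Todd := Tk_odd S hq
  hf i j hij := by
    obtain ⟨t, ht, ht1⟩ := exists_Tk_ne S (by omega) i
    exact ⟨t, ht, fun x hx h => S.fpf hij ht ht1 hx h⟩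

/-- **the general facts, in an overgroup** -/
theorem kgen (hq : 4 < Nat.card F) {G' : Type*} [Group G'] {i : G →* G'} (hi : Function.Injective i) :
    KGen (fun k => (S.XZ k).map i) (fun k => (YZ S k).map i) (fun k => (S.Tk k).map i) := (kgen0 S hq).map hi

end Cfsg.Agent.OddHalf.D7TwF4.Growth.KInst
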