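import Cfsg.Agent.OddHalf.D7TwF4.Growth.Two
import Cfsg.Agent.OddHalf.D7TwF4.Defs
import Cfsg.Agent.OddHalf.SpTwoN.SemiGrow

/-!
# ODD D7, `K = ²F₄(q)`: the end of the growth (helper583; text bb ODD 13178, END)

* `dblUs` : `U* = W₋₃ Q' B₄` is `t`-free with fixed points `U = X₋₃ ⋯ X₄`;
* `Pos.false_of_dbl` : the contradiction, if a `t`-free group contains the Sylow 2-subgroup `U` of `K`.
-/

set_option autoImplicit false
set_option linter.unusedVariables false

namespace Cfsg.Agent.OddHalf.D7TwF4.Growth.End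

open Cfsg.Agent.OddHalf.D7TwF4.Growth.Defs Cfsg.Agent.OddHalf.D7TwF4.Growth.Tools
open Cfsg.Agent.OddHalf.D7TwF4.Growth.Frame Cfsg.Agent.OddHalf.D7TwF4.Growth.Two

section

variable {G : Type*} [Group G] {τ : G →* G} {X Y W T B N : ℤ → Subgroup G}

/-- the double of `X 4` -/
theorem db_at (h : Inp2 τ X Y W T B N) (c : ℤ) : DB τ (B (2 * c)) (X (2 * c)) (W (2 * c)) (Y (2 * c)) := by
  have h1 := (h.fr2 c 1 (Or.inl rfl)).db
  have e : ∀ Z : ℤ → Subgroup G, F c 1 Z 0 = Z (2 * c) := fun Z => by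
    show Z (2 * c + 1 * 0) = Z (2 * c)
    congr 1; ring
  rwa [e, e, e, e] at h1

/-- adding `W i` -/
theorem dbl_addW (h : Gen τ X Y W T) {R K : Subgroup G} (i : ℤ) (hR : Dbl τ R K) (hi : K ⊓ Y i = ⊥)
    (hn : Nz (W i) R) : Dbl τ (R ⊔ W i) (K ⊔ Y i) :=
  hR.sup_W h.tt (h.Wab i) (h.Wsq i) (h.Wt i) (fun y hy => h.tX i y (h.YX i hy)) (h.YW i) (h.Wf i) (h.Ws i) hi hn

/-- **`U*`.** -/
theorem dblUs (h : Inp2 τ X Y W T B N) (dQ : Dbl τ (Qp W B) (QpK X Y)) (u : Nz (W (-3)) (Qp W B))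
    (q : Nz (B 4) (Qp W B)) (z : Cl (W (-3)) (B 4) (Qp W B)) : Dbl τ (Us W B) (U X Y) := by
  have b := base h.toInp
  have db : DB τ (B 4) (X 4) (W 4) (Y 4) := db_at h 2
  have d1 : Dbl τ (Qx W B) (Q0 X Y) := dbl_addW h.toGen (-3) dQ b.i7 u
  have n1 : Nz (B 4) (Qx W B) := by
    intro x hx r hr
    have h1 : (Qx W B) ≤ (Qx W B).comap (MulAut.conj x).toMonoidHom := by
      refine sup_le (fun y hy => Subgroup.mem_sup_left (q x hx y hy)) (fun y hy => ?_)
      show x * y * x⁻¹ ∈ Qx W B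
      have e : x * y * x⁻¹ = (x * y * x⁻¹ * y⁻¹) * y := by group
      rw [e]
      exact mul_mem (Subgroup.mem_sup_left (z.symm x hx y hy)) (Subgroup.mem_sup_right hy)
    exact h1 hr
  have d2 : Dbl τ (Qx W B ⊔ W 4) (Q0 X Y ⊔ Y 4) := dbl_addW h.toGen 4 d1 b.i8 (n1.mono db.WB)
  exact (d2.sup_B h.tt db le_sup_right b.i9 (n1.sup' db.nzW)).1

/-- `U` contains `X₋₃, …, X₄` -/
theorem le_U (hY : ∀ c, Y (2 * c + 1) = X (2 * c + 1)) (k : ℤ) (h1 : -3 ≤ k) (h2 : k ≤ 4) : X k ≤ U X Y := by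
  have l1 : EK Y ≤ RK Y := le_sup_left
  have l2 : RK Y ≤ Q2 Y := le_sup_left
  have l3 : Q2 Y ≤ Q1 X Y := le_sup_left
  have l4 : Q1 X Y ≤ PK X Y := le_sup_left
  have l5 : PK X Y ≤ MK X Y := le_sup_left
  have l6 : MK X Y ≤ QpK X Y := le_sup_left
  have l7 : QpK X Y ≤ Q0 X Y := le_sup_left
  have l8 : Q0 X Y ≤ U X Y := le_sup_left.trans le_sup_left
  have o1 : Y 1 = X 1 := hY 0
  have o2 : Y (-1) = X (-1) := by have := hY (-1); norm_num at this; exact this
  have o3 : Y 3 = X 3 := hY 1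
  have o4 : Y (-3) = X (-3) := by have := hY (-2); norm_num at this; exact this
  have hc : k = -3 ∨ k = -2 ∨ k = -1 ∨ k = 0 ∨ k = 1 ∨ k = 2 ∨ k = 3 ∨ k = 4 := by omega
  rcases hc with rfl | rfl | rfl | rfl | rfl | rfl | rfl | rfl
  · rw [← o4]
    exact (show Y (-3) ≤ Q0 X Y from le_sup_right).trans l8
  · exact (show X (-2) ≤ QpK X Y from le_sup_right).trans (l7.trans l8)
  · rw [← o2]
    exact (show Y (-1) ≤ RK Y from le_sup_right).trans (l2.trans (l3.trans (l4.trans (l5.trans (l6.trans (l7.trans l8))))))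
  · exact (show X 0 ≤ Q1 X Y from le_sup_right).trans (l4.trans (l5.trans (l6.trans (l7.trans l8))))
  · rw [← o1]
    exact (show Y 1 ≤ EK Y from le_sup_right.trans le_sup_left).trans
      (l1.trans (l2.trans (l3.trans (l4.trans (l5.trans (l6.trans (l7.trans l8)))))))
  · exact (show X 2 ≤ PK X Y from le_sup_right).trans (l5.trans (l6.trans (l7.trans l8)))
  · rw [← o3]
    exact (show Y 3 ≤ MK X Y from le_sup_right).trans (l6.trans (l7.trans l8))
  · exact le_sup_right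

end

/-! ### The contradiction -/

section

open Cfsg.Agent.KFacts.TwF4 Cfsg.Agent.Octagon.Pkg Cfsg.Agent.SplitTwo.ZS
open Cfsg.Agent.OddHalf.D7TwF4.Defs Cfsg.Agent.OddHalf.SpTwoN

universe u v w

variable {E : Type w} [Field E] {σ : E →+* E} {Y₀ : Type u} [Group Y₀] {G : Type v} [Group G]
variable {S : Full σ Y₀} {i : Y₀ →* G} {t : G} {τ : G →* G}

theorem good_of_dbl (hτ : ∀ x, τ x = t * x * t) (tt : t * t = 1) {R K : Subgroup G} (h : Dbl τ R K) :
    SemiGrow.Good t R where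
  conj w hw := by rw [← hτ]; exact h.inv w hw
  good w hw hwt := by
    obtain ⟨r, hr, e⟩ := h.free w hw (by rw [hτ, hwt, mul_inv_cancel])
    refine ⟨τ r, h.inv r hr, ?_⟩
    rw [hτ, SemiGrow.conj_conj tt, ← hτ]
    exact e

/-- `t` is a square modulo a perfect group: no. -/
theorem no_hom (P : Pos S i t) {m : G →* ℤˣ} (hm : m t = -1) : False := by
  have h1 : commutator G ≤ m.ker := by
    rw [commutator_def, Subgroup.commutator_le]
    intro x _ y _
    rw [MonoidHom.mem_ker, commutatorElement_def, map_mul, map_mul, map_mul, map_inv, map_inv, mul_comm (m x) (m y)]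
    group
  have h2 : t ∈ m.ker := h1 (by rw [P.perf]; exact Subgroup.mem_top _)
  rw [MonoidHom.mem_ker, hm] at h2
  exact absurd h2 (by decide)

/-- **The contradiction.** -/
theorem false_of_dbl (P : Pos S i t) (hτ : ∀ x, τ x = t * x * t) {R K : Subgroup G} (h : Dbl τ R K)
    (hU : (UY S).map i ≤ R) : False := by
  have := P.finG
  have : Fact (Nat.Prime 2) := ⟨Nat.prime_two⟩
  have hg := good_of_dbl hτ P.tt h
  set C : Subgroup G := Subgroup.centralizer ({t} : Set G) with hC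
  have hTC : TT S i t ≤ C := by
    refine sup_le ?_ ?_
    · rw [Subgroup.zpowers_le, hC, Subgroup.mem_centralizer_singleton_iff]
    · rintro _ ⟨y, _, rfl⟩
      rw [hC, Subgroup.mem_centralizer_singleton_iff]
      exact (P.ti y).symm
  obtain ⟨Q, hQ⟩ := IsPGroup.exists_le_sylow (G := C) (p := 2) (P := (TT S i t).subgroupOf C)
    (P.pT.comap_of_injective C.subtype C.subtype_injective)
  obtain ⟨m, hm⟩ := hg.exists_hom P.tt P.t1 Q (by
    intro g hgQ
    have h1 : IsPGroup 2 ((Q : Subgroup C).map C.subtype) := Q.isPGroup'.map C.subtype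
    have h2 : TT S i t ≤ (Q : Subgroup C).map C.subtype := by
      intro x hx
      exact ⟨⟨x, hTC hx⟩, hQ (by rw [Subgroup.mem_subgroupOf]; exact hx), rfl⟩
    have h3 := P.max _ h1 h2 (by
      rintro _ ⟨y, _, rfl⟩
      exact Subgroup.mem_centralizer_singleton_iff.1 y.2)
    have h4 : (g : G) ∈ TT S i t := h3 ⟨g, hgQ, rfl⟩
    -- the elements of `⟨t⟩ U`
    obtain ⟨u, hu, c, hc, e⟩ := SemiGrow.mem_sup (N := (UY S).map i) (P := Subgroup.zpowers t) (by
      rintro p hp _ ⟨y, hy, rfl⟩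
      have h5 : p ∈ Subgroup.centralizer ({i y} : Set G) := by
        have : Subgroup.zpowers t ≤ Subgroup.centralizer ({i y} : Set G) := by
          rw [Subgroup.zpowers_le, Subgroup.mem_centralizer_singleton_iff]
          exact P.ti y
        exact this hp
      rw [Subgroup.mem_centralizer_singleton_iff] at h5
      rw [h5, mul_inv_cancel_right]
      exact ⟨y, hy, rfl⟩) (w := (g : G)) (by rw [sup_comm]; exact h4)
    have h6 : c = 1 ∨ c = t := by
      rw [Subgroup.mem_zpowers_iff] at hc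
      obtain ⟨k, rfl⟩ := hc
      have h7 : ∀ j : ℤ, t ^ (2 * j) = 1 := fun j => by rw [zpow_mul, zpow_ofNat, pow_two, P.tt, one_zpow]
      rcases Int.even_or_odd k with ⟨j, rfl⟩ | ⟨j, rfl⟩
      · left
        rw [← two_mul, h7]
      · right
        rw [zpow_add, h7, one_mul, zpow_one]
    rcases h6 with rfl | rfl
    · left
      rw [e, mul_one]
      exact hU hu
    · right
      obtain ⟨y, hy, rfl⟩ := hu
      rw [e, ← P.ti, ← mul_assoc, P.tt, one_mul]
      exact hU ⟨y, hy, rfl⟩)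
  exact no_hom P hm

/-- the contradiction from `U*` in the position `X₁, …, X₈` -/
theorem false_of_U (P : Pos S i t) (hτ : ∀ x, τ x = t * x * t) {X Y : ℤ → Subgroup G}
    (hX : ∀ k, X k = (S.XZ k).map i) (hY : ∀ c, Y (2 * c + 1) = X (2 * c + 1)) {R : Subgroup G}
    (h : Dbl τ R (U (F 2 1 X) (F 2 1 Y))) : False := by
  refine false_of_dbl P hτ h (le_trans ?_ h.le)
  rw [Subgroup.map_le_iff_le_comap]
  apply J_le
  intro k h1 h2
  rw [← Subgroup.map_le_iff_le_comap, ← hX]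
  have h3 := le_U (X := F 2 1 X) (Y := F 2 1 Y) (fun c => by
    have e : (2 * 2 + 1 * (2 * c + 1) : ℤ) = 2 * (c + 2) + 1 := by ring
    show Y (2 * 2 + 1 * (2 * c + 1)) = X (2 * 2 + 1 * (2 * c + 1))
    rw [e]
    exact hY _) (k - 4) (by omega) (by omega)
  have e : F 2 1 X (k - 4) = X k := by
    show X (2 * 2 + 1 * (k - 4)) = X k
    congr 1; ring
  rwa [e] at h3

end

end Cfsg.Agent.OddHalf.D7TwF4.Growth.End
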