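import Cfsg.Agent.OddHalf.D7TwF4.Growth.Inp

/-!
# Growth for `²F₄(q)`: homomorphisms on doubles (helper702)
-/

set_option autoImplicit false
set_option linter.unusedVariables false

namespace Cfsg.Agent.OddHalf.D7TwF4.Growth.Hom

open Cfsg.Agent.OddHalf.D7TwF4.Growth.Defs Cfsg.Agent.OddHalf.D7TwF4.Growth.Tools

variable {G : Type*} [Group G]

/-- `h` has no fixed points on the double `B` if it has none on `X` -/
theorem free {τ : G →* G} (tt : ∀ x, τ (τ x) = x) {B X W Y : Subgroup G} (hB : DB τ B X W Y) (hYX : Y ≤ X) {h : G}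
    (hτ : τ h = h) (hX : ∀ x ∈ X, h * x * h⁻¹ = x → x = 1)
    (hW : Cm W W) (h2 : ∀ w ∈ W, w * w = 1) : ∀ b ∈ B, h * b * h⁻¹ = b → b = 1 := by
  have brk : ∀ b, h * b * h⁻¹ = b → h * (b⁻¹ * τ b) * h⁻¹ = b⁻¹ * τ b := by
    intro b hb
    have e1 : h * τ b * h⁻¹ = τ b := by
      have := congrArg τ hb
      rwa [map_mul, map_mul, map_inv, hτ] at this
    calc h * (b⁻¹ * τ b) * h⁻¹ = (h * b * h⁻¹)⁻¹ * (h * τ b * h⁻¹) := by group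
      _ = b⁻¹ * τ b := by rw [hb, e1]
  have hWf : ∀ w ∈ W, h * w * h⁻¹ = w → w = 1 := by
    intro w hw hwh
    have h1 : w⁻¹ * τ w ∈ Y := brk_mem tt hW h2 hB.WD.inv (fun w hw h => hB.WD.fix w hw h) hw
    have h3 : w⁻¹ * τ w = 1 := hX _ (hYX h1) (brk w hwh)
    exact hX w (hYX (hB.WD.fix w hw (inv_mul_eq_one.1 h3).symm)) hwh
  intro b hb hbh
  obtain ⟨g, hg⟩ : ∃ g, g = b⁻¹ * τ b := ⟨_, rfl⟩
  have hgh : h * g * h⁻¹ = g := by rw [hg]; exact brk b hbh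
  have hgB : g ∈ B := by rw [hg]; exact mul_mem (inv_mem hb) (hB.inv b hb)
  have htg : τ g = g⁻¹ := by rw [hg, map_mul, tt, map_inv]; group
  have h4 : g * g = 1 := by
    apply hWf _ (hB.sq g hgB)
    calc h * (g * g) * h⁻¹ = (h * g * h⁻¹) * (h * g * h⁻¹) := by group
      _ = g * g := by rw [hgh]
  have h5 : τ g = g := by rw [htg]; exact inv_eq_of_mul_eq_one_left h4
  have h6 : g = 1 := hX g (hB.fix g hgB h5) hgh
  have h7 : τ b = b := by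
    rw [hg] at h6; exact (inv_mul_eq_one.1 h6).symm
  exact hX b (hB.fix b hb h7) hbh

/-- The commutator map of a double, `T`-equivariant, is trivial. -/
theorem nh {τ : G →* G} (tt : ∀ x, τ (τ x) = x) {B X W Y K : Subgroup G} (hB : DB τ B X W Y) {x : G}
    (hK : Cm K K) (hc : ∀ b ∈ B, b * x * b⁻¹ * x⁻¹ ∈ K) (hBK : Cm B K)
    (hX : ∀ a ∈ X, a * x = x * a) (hW : ∀ a ∈ W, a * x = x * a)
    {T : Subgroup G} (hTB : Nz T B) (hTW : Nz T W) (hTx : ∀ h ∈ T, h * x = x * h) (hTX : Nz T X)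
    (tT : ∀ h ∈ T, τ h = h)
    (nh : ∀ f : G → G, (∀ a ∈ X, f a ∈ K) → (∀ a ∈ X, ∀ b ∈ X, f (a * b) = f a * f b) →
      (∀ a ∈ Y, f a = 1) → (∀ h ∈ T, ∀ a ∈ X, f (h * a * h⁻¹) = h * f a * h⁻¹) → ∀ a ∈ X, f a = 1)
    (hYX : Y ≤ X) :
    ∀ b ∈ B, b * x = x * b := by
  classical
  -- the commutator map
  have φmul : ∀ a ∈ B, ∀ b ∈ B, (a * b) * x * (a * b)⁻¹ * x⁻¹ = (a * x * a⁻¹ * x⁻¹) * (b * x * b⁻¹ * x⁻¹) := by
    intro a ha b hb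
    have e : (a * b) * x * (a * b)⁻¹ * x⁻¹ = (a * (b * x * b⁻¹ * x⁻¹) * a⁻¹) * (a * x * a⁻¹ * x⁻¹) := by group
    rw [e, hBK a ha _ (hc b hb), mul_inv_cancel_right, hK _ (hc b hb) _ (hc a ha)]
  -- trivial on elements with bracket in `W`
  have φ1 : ∀ b ∈ B, b⁻¹ * τ b ∈ W → b * x * b⁻¹ * x⁻¹ = 1 := by
    intro b hb hw
    obtain ⟨y, hy, w, hw', rfl⟩ := hB.mem_of_brk tt hb hw
    have : y * w * x = x * (y * w) := comm_mul (hX y hy) (hW w hw')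
    rw [this]; group
  -- same bracket modulo `W`, same value
  have hWz : ∀ b ∈ B, ∀ w ∈ W, b * w * b⁻¹ ∈ W := fun b hb w hw => hB.nzW b hb w hw
  have key : ∀ a ∈ B, ∀ b ∈ B, (a⁻¹ * τ a)⁻¹ * (b⁻¹ * τ b) ∈ W →
      a * x * a⁻¹ * x⁻¹ = b * x * b⁻¹ * x⁻¹ := by
    intro a ha b hb hab
    have hτa := hB.inv a ha
    have hτb := hB.inv b hb
    obtain ⟨p, hp⟩ : ∃ p, p = a⁻¹ * τ a := ⟨_, rfl⟩
    obtain ⟨r, hr⟩ : ∃ r, r = b⁻¹ * τ b := ⟨_, rfl⟩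
    have hpB : p ∈ B := hp ▸ mul_mem (inv_mem ha) hτa
    have hrB : r ∈ B := hr ▸ mul_mem (inv_mem hb) hτb
    have ea : τ a = a * p := by rw [hp]; group
    have eb : τ b = b * r := by rw [hr]; group
    -- `(a⁻¹ b)⁻¹ τ (a⁻¹ b) = (b⁻¹ a) p⁻¹ (b⁻¹ a)⁻¹ r`
    have e1 : (a⁻¹ * b)⁻¹ * τ (a⁻¹ * b) = ((b⁻¹ * a) * p⁻¹ * (b⁻¹ * a)⁻¹ * p) * (p⁻¹ * r) := by
      rw [map_mul, map_inv, ea, eb]; group
    have e2 : (a⁻¹ * b)⁻¹ * τ (a⁻¹ * b) ∈ W := by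
      rw [e1]
      refine mul_mem ?_ (hp ▸ hr ▸ hab)
      have := hB.comm (b⁻¹ * a) (mul_mem (inv_mem hb) ha) p⁻¹ (inv_mem hpB)
      rwa [inv_inv] at this
    have e3 := φ1 _ (mul_mem (inv_mem ha) hb) e2
    have e4 := φmul a ha (a⁻¹ * b) (mul_mem (inv_mem ha) hb)
    rw [mul_inv_cancel_left, e3, mul_one] at e4
    exact e4.symm
  have hs : ∀ a : G, ∃ b, a ∈ X → b ∈ B ∧ a⁻¹ * (b⁻¹ * τ b) ∈ W := by
    intro a
    by_cases ha : a ∈ X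
    · obtain ⟨b, hb, w, hw, h1⟩ := hB.surj a ha
      refine ⟨b, fun _ => ⟨hb, ?_⟩⟩
      rw [h1, inv_mul_cancel_left]; exact hw
    · exact ⟨1, fun h => absurd h ha⟩
  choose v hv using hs
  have hXB : X ≤ B := hB.XB
  let f : G → G := fun a => v a * x * (v a)⁻¹ * x⁻¹
  -- `f a` is the commutator for any `b` with bracket in `a W`
  have hf : ∀ a ∈ X, ∀ b ∈ B, a⁻¹ * (b⁻¹ * τ b) ∈ W → f a = b * x * b⁻¹ * x⁻¹ := by
    intro a ha b hb hab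
    obtain ⟨h1, h2⟩ := hv a ha
    apply key _ h1 _ hb
    have : ((v a)⁻¹ * τ (v a))⁻¹ * (b⁻¹ * τ b) = (a⁻¹ * ((v a)⁻¹ * τ (v a)))⁻¹ * (a⁻¹ * (b⁻¹ * τ b)) := by group
    rw [this]
    exact mul_mem (inv_mem h2) hab
  have f1 := nh f (fun a ha => hc _ (hv a ha).1) (by
      intro a ha b hb
      obtain ⟨h1, h2⟩ := hv a ha
      obtain ⟨h3, h4⟩ := hv b hb
      rw [hf (a * b) (mul_mem ha hb) (v a * v b) (mul_mem h1 h3) ?_, φmul _ h1 _ h3]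
      have e : (a * b)⁻¹ * ((v a * v b)⁻¹ * τ (v a * v b)) =
          (b⁻¹ * (a⁻¹ * (v b)⁻¹ * a⁻¹⁻¹ * (v b)⁻¹⁻¹) * b) *
          (b⁻¹ * ((v b)⁻¹ * (a⁻¹ * ((v a)⁻¹ * τ (v a))) * (v b)⁻¹⁻¹) * b⁻¹⁻¹) *
          (b⁻¹ * ((v b)⁻¹ * τ (v b))) := by
        rw [map_mul]; group
      rw [e]
      refine mul_mem (mul_mem ?_ ?_) h4
      · have h5 := hB.comm a⁻¹ (inv_mem (hXB ha)) (v b)⁻¹ (inv_mem h3)
        have h6 := hWz b⁻¹ (inv_mem (hXB hb)) _ h5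
        rwa [inv_inv b] at h6
      · exact hWz b⁻¹ (inv_mem (hXB hb)) _ (hWz _ (inv_mem h3) _ h2))
    (by
      intro a ha
      obtain ⟨h1, h2⟩ := hv a (hYX ha)
      exact φ1 _ h1 (by
        have e : (v a)⁻¹ * τ (v a) = a * (a⁻¹ * ((v a)⁻¹ * τ (v a))) := by group
        rw [e]; exact mul_mem (hB.WD.le ha) h2))
    (by
      intro h hh a ha
      obtain ⟨h1, h2⟩ := hv a ha
      have hhx : h * x * h⁻¹ = x := by rw [hTx h hh, mul_inv_cancel_right]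
      rw [hf (h * a * h⁻¹) (hTX h hh a ha) (h * v a * h⁻¹) (hTB h hh _ h1) ?_]
      · show h * v a * h⁻¹ * x * (h * v a * h⁻¹)⁻¹ * x⁻¹ = h * (v a * x * (v a)⁻¹ * x⁻¹) * h⁻¹
        calc h * v a * h⁻¹ * x * (h * v a * h⁻¹)⁻¹ * x⁻¹ =
            h * v a * h⁻¹ * (h * x * h⁻¹) * (h * v a * h⁻¹)⁻¹ * (h * x * h⁻¹)⁻¹ := by rw [hhx]
          _ = _ := by group
      · have e : (h * a * h⁻¹)⁻¹ * ((h * v a * h⁻¹)⁻¹ * τ (h * v a * h⁻¹)) =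
            h * (a⁻¹ * ((v a)⁻¹ * τ (v a))) * h⁻¹ := by
          rw [map_mul, map_mul, map_inv, tT h hh]; group
        rw [e]; exact hTW h hh _ h2)
  intro b hb
  obtain ⟨a, ha, w, hw, h1⟩ := hB.brk b hb
  have h2 := hf a ha b hb (by rw [h1, inv_mul_cancel_left]; exact hw)
  rw [f1 a ha] at h2
  calc b * x = (b * x * b⁻¹ * x⁻¹) * (x * b) := by group
    _ = x * b := by rw [← h2, one_mul]

end Cfsg.Agent.OddHalf.D7TwF4.Growth.Hom
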