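import Cfsg.Agent.OddHalf.D7TwF4.Growth.Two

/-!
# Growth for `²F₄(q)`: the interfaces between the levels (helper702; text bb ODD 13178)

* levels 1 - 3 : `Inp τ X Y W T → ∃ B N, Inp2 τ X Y W T B N`;
* level 4 (a) - (l) : `Inp2 → Inp4`;
* level 4 (m) - (q) : `Inp4 → Inp5`;
* level 5 (s) - (z) : `Inp5 → Dbl τ (Us W B) (U X Y)`.
-/

set_option autoImplicit false
set_option linter.unusedVariables false

namespace Cfsg.Agent.OddHalf.D7TwF4.Growth.Inp

open Cfsg.Agent.OddHalf.D7TwF4.Growth.Defs Cfsg.Agent.OddHalf.D7TwF4.Growth.Tools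
open Cfsg.Agent.OddHalf.D7TwF4.Growth.Frame Cfsg.Agent.OddHalf.D7TwF4.Growth.Two

variable {G : Type*} [Group G]

/-- Level 4 (a) - (l): relations of `B 4` with `A₀ B₀ B₂ W₃` -/
structure Base4 (τ : G →* G) (X Y W T B N : ℤ → Subgroup G) : Prop where
  /-- (a) -/
  r04 : Cm (W 0) (B 4)
  /-- (b) -/
  r14 : Cl (W 1) (B 4) (W 2)
  r24 : Cm (W 2) (B 4)
  r34 : Cm (W 3) (B 4)
  s24 : Cl (B 2) (B 4) (W 3)
  /-- (c) -/
  s04 : Cm (B 0) (B 4)
  /-- (d), (e), (f), (g) -/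
  r54 : Cl (W (-1)) (B 4) (EK W)
  /-- (h), (i), (k) -/
  r64 : Cl (W (-2)) (B 4) (RK W)

/-- The input of level 4 (m) - (q). -/
structure Inp4 (τ : G →* G) (X Y W T B N : ℤ → Subgroup G) : Prop extends Inp2 τ X Y W T B N where
  fr4 : ∀ c e : ℤ, e = 1 ∨ e = -1 → Base4 τ (F c e X) (F c e Y) (F c e W) (F c e T) (F c e B) (F c e N)

/-- The input of level 5. -/
structure Inp5 (τ : G →* G) (X Y W T B N : ℤ → Subgroup G) : Prop extends Inp4 τ X Y W T B N where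
  /-- (q): `⁅B₋₂, B₄⁆ ≤ N''` in all frames -/
  fr5 : ∀ c e : ℤ, e = 1 ∨ e = -1 → Cl (F c e B (-2)) (F c e B 4) (M (F c e W) (F c e B))

theorem base4 {τ : G →* G} {X Y W T B N : ℤ → Subgroup G} (h : Inp4 τ X Y W T B N) : Base4 τ X Y W T B N := by
  have h1 := h.fr4 0 1 (Or.inl rfl)
  rwa [F_id, F_id, F_id, F_id, F_id, F_id] at h1

theorem base5 {τ : G →* G} {X Y W T B N : ℤ → Subgroup G} (h : Inp5 τ X Y W T B N) : Cl (B (-2)) (B 4) (M W B) := by
  have h1 := h.fr5 0 1 (Or.inl rfl)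
  rwa [F_id, F_id] at h1

theorem inp4 {τ : G →* G} {X Y W T B N : ℤ → Subgroup G} (h : Inp4 τ X Y W T B N) (c : ℤ) {e : ℤ}
    (he : e = 1 ∨ e = -1) :
    Inp4 τ (F c e X) (F c e Y) (F c e W) (F c e T) (F c e B) (F c e N) where
  toInp2 := inp2 h.toInp2 c he
  fr4 c' e' he' := by
    have h1 := h.fr4 (c + e * c') (e * e') (by
      rcases he with rfl | rfl <;> rcases he' with rfl | rfl <;> norm_num)
    rw [F_F, F_F, F_F, F_F, F_F, F_F]
    exact h1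

theorem inp5 {τ : G →* G} {X Y W T B N : ℤ → Subgroup G} (h : Inp5 τ X Y W T B N) (c : ℤ) {e : ℤ}
    (he : e = 1 ∨ e = -1) :
    Inp5 τ (F c e X) (F c e Y) (F c e W) (F c e T) (F c e B) (F c e N) where
  toInp4 := inp4 h.toInp4 c he
  fr5 c' e' he' := by
    have h1 := h.fr5 (c + e * c') (e * e') (by
      rcases he with rfl | rfl <;> rcases he' with rfl | rfl <;> norm_num)
    rw [F_F, F_F]
    exact h1

/-- the base case in a frame gives the frame family: levels 4 (a) - (l) -/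
theorem mk4 {τ : G →* G} {X Y W T B N : ℤ → Subgroup G} (h : Inp2 τ X Y W T B N)
    (hb : ∀ X Y W T B N : ℤ → Subgroup G, Inp2 τ X Y W T B N → Base4 τ X Y W T B N) : Inp4 τ X Y W T B N where
  toInp2 := h
  fr4 c e he := hb _ _ _ _ _ _ (inp2 h c he)

theorem mk5 {τ : G →* G} {X Y W T B N : ℤ → Subgroup G} (h : Inp4 τ X Y W T B N)
    (hb : ∀ X Y W T B N : ℤ → Subgroup G, Inp4 τ X Y W T B N → Cl (B (-2)) (B 4) (M W B)) :
    Inp5 τ X Y W T B N where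
  toInp4 := h
  fr5 c e he := hb _ _ _ _ _ _ (inp4 h c he)

end Cfsg.Agent.OddHalf.D7TwF4.Growth.Inp
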