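import Cfsg.Agent.OddHalf.D7TwF4.Growth.Three
import Cfsg.Agent.OddHalf.D7TwF4.Growth.Hom
import Cfsg.Agent.OddHalf.D7TwF4.Growth.Inp

/-!
# Growth for `²F₄(q)`, level 5 (t) - (z) (helper570; text `blueprints/ODD-D7-2F4-growth-helper702.md`)

The relations of `W₋₃` with `B₄` modulo `Q' = B₋₂ W₋₁ B₀ W₁ B₂ W₃`.
-/

set_option autoImplicit false
set_option linter.unusedVariables false

namespace Cfsg.Agent.OddHalf.D7TwF4.Growth.FiveB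

open Cfsg.Agent.OddHalf.D7TwF4.Growth.Defs Cfsg.Agent.OddHalf.D7TwF4.Growth.Tools
open Cfsg.Agent.OddHalf.D7TwF4.Growth.Frame Cfsg.Agent.OddHalf.D7TwF4.Growth.Two
open Cfsg.Agent.OddHalf.D7TwF4.Growth.One Cfsg.Agent.OddHalf.D7TwF4.Growth.NOne
open Cfsg.Agent.OddHalf.D7TwF4.Growth.Three Cfsg.Agent.OddHalf.D7TwF4.Growth.Inp

variable {G : Type*} [Group G] {τ : G →* G} {X Y W T B N : ℤ → Subgroup G}

/-- the relations (s), (r) of level 5 -/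
structure FiveIn (X Y W B : ℤ → Subgroup G) : Prop where
  s3 : Cl (W 3) (W (-3)) (D W B)
  r2 : Cl (W (-3)) (W 1) (W 0)
  r4 : Cl (W (-3)) (W 2) (W 0)

/-! ### conjugating pieces -/

/-- `a s a⁻¹ ∈ R` -/
def Cj (A S R : Subgroup G) : Prop := ∀ a ∈ A, ∀ s ∈ S, a * s * a⁻¹ ∈ R

theorem Cj.sup {A S S' R : Subgroup G} (h : Cj A S R) (h' : Cj A S' R) : Cj A (S ⊔ S') R := by
  intro a ha s hs
  have : S ⊔ S' ≤ R.comap (MulAut.conj a).toMonoidHom := sup_le (fun x hx => h a ha x hx) (fun x hx => h' a ha x hx)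
  exact this hs

theorem cj_cl {A S R C : Subgroup G} (h : Cl A S C) (hC : C ≤ R) (hS : S ≤ R) : Cj A S R := fun a ha s hs => by
  have e : a * s * a⁻¹ = (a * s * a⁻¹ * s⁻¹) * s := by group
  rw [e]; exact mul_mem (hC (h a ha s hs)) (hS hs)

theorem cj_cm {A S R : Subgroup G} (h : Cm A S) (hS : S ≤ R) : Cj A S R := cj_cl (h.cl ⊥) bot_le hS

/-! ### inclusions -/

section Incl

variable (W B : ℤ → Subgroup G)

theorem w0E : W 0 ≤ EK W := le_sup_left.trans le_sup_left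
theorem w1E : W 1 ≤ EK W := le_sup_right.trans le_sup_left
theorem w2E : W 2 ≤ EK W := le_sup_right
theorem ER : EK W ≤ RK W := le_sup_left
theorem R_Q2 : RK W ≤ Q2 W := le_sup_left
theorem E_Q2 : EK W ≤ Q2 W := (ER W).trans (R_Q2 W)
theorem w0Q : W 0 ≤ Q2 W := (w0E W).trans (E_Q2 W)
theorem w1Q : W 1 ≤ Q2 W := (w1E W).trans (E_Q2 W)
theorem w2Q : W 2 ≤ Q2 W := (w2E W).trans (E_Q2 W)
theorem wm1Q : W (-1) ≤ Q2 W := le_sup_of_le_left le_sup_right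
theorem wm2Q : W (-2) ≤ Q2 W := le_sup_right
theorem Q2D : Q2 W ≤ D W B := le_sup_left
theorem b0D : B 0 ≤ D W B := le_sup_right
theorem DP : D W B ≤ P W B := le_sup_left
theorem b2P : B 2 ≤ P W B := le_sup_right
theorem PM : P W B ≤ M W B := le_sup_left
theorem w3M : W 3 ≤ M W B := le_sup_right
theorem DM : D W B ≤ M W B := (DP W B).trans (PM W B)
theorem Q2M : Q2 W ≤ M W B := (Q2D W B).trans (DM W B)
theorem b0M : B 0 ≤ M W B := (b0D W B).trans (DM W B)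
theorem b2M : B 2 ≤ M W B := (b2P W B).trans (PM W B)
theorem MQ : M W B ≤ Qp W B := le_sup_left
theorem bm2Q : B (-2) ≤ Qp W B := le_sup_right
theorem Q2Q : Q2 W ≤ Qp W B := (Q2M W B).trans (MQ W B)

end Incl

/-! ### frames -/

theorem bs (h : Inp5 τ X Y W T B N) (c : ℤ) :
    Base2 τ (F c 1 X) (F c 1 Y) (F c 1 W) (F c 1 T) (F c 1 B) (F c 1 N) := h.fr2 c 1 (Or.inl rfl)
theorem br (h : Inp5 τ X Y W T B N) (c : ℤ) :
    Base2 τ (F c (-1) X) (F c (-1) Y) (F c (-1) W) (F c (-1) T) (F c (-1) B) (F c (-1) N) := h.fr2 c (-1) (Or.inr rfl)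
theorem fs (h : Inp5 τ X Y W T B N) (c : ℤ) :
    Base4 τ (F c 1 X) (F c 1 Y) (F c 1 W) (F c 1 T) (F c 1 B) (F c 1 N) := h.fr4 c 1 (Or.inl rfl)
theorem fr (h : Inp5 τ X Y W T B N) (c : ℤ) :
    Base4 τ (F c (-1) X) (F c (-1) Y) (F c (-1) W) (F c (-1) T) (F c (-1) B) (F c (-1) N) := h.fr4 c (-1) (Or.inr rfl)
theorem b2 (h : Inp5 τ X Y W T B N) : Base2 τ X Y W T B N := base2 h.toInp2
theorem b4 (h : Inp5 τ X Y W T B N) : Base4 τ X Y W T B N := base4 h.toInp4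

theorem yo3 (h : Inp5 τ X Y W T B N) : Y (-3) = X (-3) := by
  have h1 := h.Yo (-2)
  have e : (2 : ℤ) * (-2) + 1 = -3 := by norm_num
  rwa [e] at h1

/-! ### `B₀` centralises `A₀`, in all positions -/

theorem b4_w3 (h : Inp5 τ X Y W T B N) : Cm (B 4) (W 3) := ((bs h 2).bA.mono le_rfl (wm1Q (F 2 1 W)) :)
theorem b4_w2 (h : Inp5 τ X Y W T B N) : Cm (B 4) (W 2) := ((bs h 2).bA.mono le_rfl (wm2Q (F 2 1 W)) :)
theorem b4_w4 (h : Inp5 τ X Y W T B N) : Cm (B 4) (W 4) := ((bs h 2).bA.mono le_rfl (w0Q (F 2 1 W)) :)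
theorem b2_w0 (h : Inp5 τ X Y W T B N) : Cm (B 2) (W 0) := ((bs h 1).bA.mono le_rfl (wm2Q (F 1 1 W)) :)
theorem b2_w1 (h : Inp5 τ X Y W T B N) : Cm (B 2) (W 1) := ((bs h 1).bA.mono le_rfl (wm1Q (F 1 1 W)) :)
theorem b2_w2 (h : Inp5 τ X Y W T B N) : Cm (B 2) (W 2) := ((bs h 1).bA.mono le_rfl (w0Q (F 1 1 W)) :)
theorem bm2_w0 (h : Inp5 τ X Y W T B N) : Cm (B (-2)) (W 0) := ((bs h (-1)).bA.mono le_rfl (w2Q (F (-1) 1 W)) :)
theorem bm2_wm1 (h : Inp5 τ X Y W T B N) : Cm (B (-2)) (W (-1)) :=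
  ((bs h (-1)).bA.mono le_rfl (w1Q (F (-1) 1 W)) :)
theorem bm2_wm2 (h : Inp5 τ X Y W T B N) : Cm (B (-2)) (W (-2)) :=
  ((bs h (-1)).bA.mono le_rfl (w0Q (F (-1) 1 W)) :)

/-! ### level 4, shifted -/

theorem b2_wm2 (h : Inp5 τ X Y W T B N) : Cm (B 2) (W (-2)) := (((fs h (-1)).r04).symm :)
theorem b2_wm1 (h : Inp5 τ X Y W T B N) : Cl (W (-1)) (B 2) (W 0) := ((fs h (-1)).r14 :)
theorem b0_b2 (h : Inp5 τ X Y W T B N) : Cl (B 0) (B 2) (W 1) := ((fs h (-1)).s24 :)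
theorem bm2_b0 (h : Inp5 τ X Y W T B N) : Cl (B (-2)) (B 0) (W (-1)) := ((fs h (-2)).s24 :)
theorem bm2_b2 (h : Inp5 τ X Y W T B N) : Cm (B (-2)) (B 2) := ((fs h (-1)).s04 :)
theorem bm2_w1 (h : Inp5 τ X Y W T B N) : Cl (W 1) (B (-2)) (W 0) := ((fr h 1).r14 :)
theorem bm2_w2 (h : Inp5 τ X Y W T B N) : Cm (W 2) (B (-2)) := ((fr h 1).r04 :)
theorem bm2_w3 (h : Inp5 τ X Y W T B N) : Cl (W 3) (B (-2)) (EK W) := by
  have := (fr h 1).r54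
  rw [EK_ref] at this
  exact this
theorem wm3_b2 (h : Inp5 τ X Y W T B N) : Cl (W (-3)) (B 2) (EK (F (-1) 1 W)) := ((fs h (-1)).r54 :)

/-- `W₋₂ W₋₁ W₀` -/
theorem Em_le (W : ℤ → Subgroup G) : EK (F (-1) 1 W) ≤ Q2 W := by
  show W (-2) ⊔ W (-1) ⊔ W 0 ≤ Q2 W
  exact sup_le (sup_le (wm2Q W) (wm1Q W)) (w0Q W)

/-! ### `N₁` -/

theorem cN (h : Inp5 τ X Y W T B N) {A S : Subgroup G} (hA : A ≤ N 1) (hS : S ≤ N 1) : Cl A S (EK W) :=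
  (b2 h).ncomm.mono hA hS le_rfl

theorem M_le_N (h : Inp5 τ X Y W T B N) : M W B ≤ N 1 := by rw [(b2 h).ndec]; exact le_sup_left
theorem w4_le_N (h : Inp5 τ X Y W T B N) : W 4 ≤ N 1 := by rw [(b2 h).ndec]; exact le_sup_right

/-- subgroups between `E₁` and `N₁` are normal in `N₁` -/
theorem nzN1 (h : Inp5 τ X Y W T B N) {A R : Subgroup G} (hA : A ≤ N 1) (hR : R ≤ N 1) (hE : EK W ≤ R) : Nz A R :=
  (cN h hA hR).nz hE

theorem xm3_N (h : Inp5 τ X Y W T B N) : Nz (X (-3)) (N 1) := ((br h 1).n5 :)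

/-! ### `B₄` normalises `N''` and `Q'` -/

theorem q0 (h : Inp5 τ X Y W T B N) : Nz (B 4) (Q2 W) := by
  have c0 : Cj (B 4) (W 0) (Q2 W) := cj_cm (b4 h).r04.symm (w0Q W)
  have c1 : Cj (B 4) (W 1) (Q2 W) := cj_cl (b4 h).r14.symm (w2Q W) (w1Q W)
  have c2 : Cj (B 4) (W 2) (Q2 W) := cj_cm (b4_w2 h) (w2Q W)
  have c3 : Cj (B 4) (W (-1)) (Q2 W) := cj_cl (b4 h).r54.symm (E_Q2 W) (wm1Q W)
  have c4 : Cj (B 4) (W (-2)) (Q2 W) := cj_cl (b4 h).r64.symm (R_Q2 W) (wm2Q W)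
  exact (((c0.sup c1).sup c2).sup c3).sup c4

theorem qM (h : Inp5 τ X Y W T B N) : Nz (B 4) (M W B) := by
  have c0 : Cj (B 4) (Q2 W) (M W B) := fun a ha s hs => Q2M W B (q0 h a ha s hs)
  have c1 : Cj (B 4) (B 0) (M W B) := cj_cm (b4 h).s04.symm (b0M W B)
  have c2 : Cj (B 4) (B 2) (M W B) := cj_cl (b4 h).s24.symm (w3M W B) (b2M W B)
  have c3 : Cj (B 4) (W 3) (M W B) := cj_cm (b4_w3 h) (w3M W B)
  exact ((c0.sup c1).sup c2).sup c3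

theorem q (h : Inp5 τ X Y W T B N) : Nz (B 4) (Qp W B) := by
  have c0 : Cj (B 4) (M W B) (Qp W B) := fun a ha s hs => MQ W B (qM h a ha s hs)
  have c1 : Cj (B 4) (B (-2)) (Qp W B) := cj_cl (base5 h).symm (MQ W B) (bm2Q W B)
  exact c0.sup c1

/-! ### `B₋₂` normalises `N''` -/

theorem bm2M (h : Inp5 τ X Y W T B N) : Nz (B (-2)) (M W B) := by
  have c0 : Cj (B (-2)) (W 0) (M W B) := cj_cm (bm2_w0 h) ((w0Q W).trans (Q2M W B))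
  have c1 : Cj (B (-2)) (W 1) (M W B) := cj_cl (bm2_w1 h).symm ((w0Q W).trans (Q2M W B)) ((w1Q W).trans (Q2M W B))
  have c2 : Cj (B (-2)) (W 2) (M W B) := cj_cm (bm2_w2 h).symm ((w2Q W).trans (Q2M W B))
  have c3 : Cj (B (-2)) (W (-1)) (M W B) := cj_cm (bm2_wm1 h) ((wm1Q W).trans (Q2M W B))
  have c4 : Cj (B (-2)) (W (-2)) (M W B) := cj_cm (bm2_wm2 h) ((wm2Q W).trans (Q2M W B))
  have d0 : Cj (B (-2)) (B 0) (M W B) := cj_cl (bm2_b0 h) ((wm1Q W).trans (Q2M W B)) (b0M W B)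
  have d1 : Cj (B (-2)) (B 2) (M W B) := cj_cm (bm2_b2 h) (b2M W B)
  have d2 : Cj (B (-2)) (W 3) (M W B) := cj_cl (bm2_w3 h).symm ((E_Q2 W).trans (Q2M W B)) (w3M W B)
  exact (((((((c0.sup c1).sup c2).sup c3).sup c4).sup d0).sup d1).sup d2)

/-! ### the doubles `N''`, `Q'` -/

theorem db (h : Inp5 τ X Y W T B N) : DB τ (B 0) (X 0) (W 0) (Y 0) := (b2 h).db
theorem db2 (h : Inp5 τ X Y W T B N) : DB τ (B 2) (X 2) (W 2) (Y 2) := ((bs h 1).db :)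
theorem db4 (h : Inp5 τ X Y W T B N) : DB τ (B 4) (X 4) (W 4) (Y 4) := ((bs h 2).db :)
theorem dbm2 (h : Inp5 τ X Y W T B N) : DB τ (B (-2)) (X (-2)) (W (-2)) (Y (-2)) := ((bs h (-1)).db :)

theorem dM (h : Inp5 τ X Y W T B N) : Dbl τ (M W B) (MK X Y) := by
  have b := base h.toInp
  have l1 : D W B ≤ N 1 := (DM W B).trans (M_le_N h)
  have l2 : P W B ≤ N 1 := (PM W B).trans (M_le_N h)
  have d0 : Dbl τ (D W B) (Q1 X Y) := ((dQ2 h.toInp).sup_B h.tt (db h) (w0Q W) b.i3 (b2 h).bA.nz).1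
  have d1 : Dbl τ (P W B) (PK X Y) := (d0.sup_B h.tt (db2 h) ((w2Q W).trans (Q2D W B)) b.i4
    (nzN1 h ((b2M W B).trans (M_le_N h)) l1 ((E_Q2 W).trans (Q2D W B)))).1
  exact d1.sup_W h.tt (h.Wab _) (h.Wsq _) (h.Wt _) (fun y hy => h.tX _ y (h.YX _ hy)) (h.YW _) (h.Wf _)
    (h.Ws _) b.i5 (nzN1 h ((w3M W B).trans (M_le_N h)) l2 (((E_Q2 W).trans (Q2D W B)).trans (DP W B)))

theorem dQ (h : Inp5 τ X Y W T B N) : Dbl τ (Qp W B) (QpK X Y) :=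
  ((dM h).sup_B h.tt (dbm2 h) ((wm2Q W).trans (Q2M W B)) (base h.toInp).i6 (bm2M h)).1

/-! ### `W₋₃` -/

/-- `N₋₁` -/
theorem wm3_Nm (h : Inp5 τ X Y W T B N) {S : Subgroup G} (hS : S ≤ N (-1)) : Cl (W (-3)) S (EK (F (-1) 1 W)) := by
  have h1 : W (-3) ≤ N (-1) := ((wm1Q (F (-1) 1 W)).trans (bs h (-1)).nA :)
  have h2 : Cl (N (-1)) (N (-1)) (EK (F (-1) 1 W)) := ((bs h (-1)).ncomm :)
  exact h2.mono h1 hS le_rfl

theorem Q2_Nm (h : Inp5 τ X Y W T B N) : Q2 W ≤ N (-1) := by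
  have h1 : Q2 (F 0 (-1) W) ≤ N (-1) := ((br h 0).nA :)
  refine le_trans ?_ h1
  show W 0 ⊔ W 1 ⊔ W 2 ⊔ W (-1) ⊔ W (-2) ≤ W 0 ⊔ W (-1) ⊔ W (-2) ⊔ W 1 ⊔ W 2
  refine le_of_eq ?_
  ac_rfl

theorem b0_Nm (h : Inp5 τ X Y W T B N) : B 0 ≤ N (-1) := ((br h 0).nB :)
theorem bm2_Nm (h : Inp5 τ X Y W T B N) : B (-2) ≤ N (-1) := ((bs h (-1)).nB :)

theorem uM (h : Inp5 τ X Y W T B N) (a : FiveIn X Y W B) : Nz (W (-3)) (M W B) := by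
  have l : EK (F (-1) 1 W) ≤ M W B := (Em_le W).trans (Q2M W B)
  have c0 : Cj (W (-3)) (Q2 W) (M W B) := cj_cl (wm3_Nm h (Q2_Nm h)) l (Q2M W B)
  have c1 : Cj (W (-3)) (B 0) (M W B) := cj_cl (wm3_Nm h (b0_Nm h)) l (b0M W B)
  have c2 : Cj (W (-3)) (B 2) (M W B) := cj_cl (wm3_b2 h) l (b2M W B)
  have c3 : Cj (W (-3)) (W 3) (M W B) := cj_cl a.s3.symm (DM W B) (w3M W B)
  exact ((c0.sup c1).sup c2).sup c3

theorem u (h : Inp5 τ X Y W T B N) (a : FiveIn X Y W B) : Nz (W (-3)) (Qp W B) := by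
  have l : EK (F (-1) 1 W) ≤ Qp W B := (Em_le W).trans (Q2Q W B)
  have c0 : Cj (W (-3)) (M W B) (Qp W B) := fun x hx s hs => MQ W B (uM h a x hx s hs)
  have c1 : Cj (W (-3)) (B (-2)) (Qp W B) := cj_cl (wm3_Nm h (bm2_Nm h)) l (bm2Q W B)
  exact c0.sup c1

/-! ### the action on `A₀` modulo `W₀` -/

/-- trivial on `W₀` and on `A₀ / W₀` -/
def St (W : ℤ → Subgroup G) : Subgroup G where
  carrier := {g | (∀ x ∈ W 0, g * x = x * g) ∧ ∀ a ∈ Q2 W, g * a * g⁻¹ * a⁻¹ ∈ W 0}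
  one_mem' := ⟨fun x _ => by simp, fun a _ => by simp⟩
  mul_mem' := by
    rintro g g' ⟨h1, h2⟩ ⟨h3, h4⟩
    refine ⟨fun x hx => comm_mul (h1 x hx) (h3 x hx), fun a ha => cl_mul (h4 a ha) (h2 a ha) fun r hr => ?_⟩
    rw [h1 r hr, mul_inv_cancel_right]; exact hr
  inv_mem' := by
    rintro g ⟨h1, h2⟩
    refine ⟨fun x hx => comm_inv (h1 x hx), fun a ha => ?_⟩
    have h3 := h2 a ha
    have h4 := comm_inv (h1 _ (inv_mem h3))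
    have e : g⁻¹ * a * g⁻¹⁻¹ * a⁻¹ = g⁻¹ * (g * a * g⁻¹ * a⁻¹)⁻¹ * g := by group
    rw [e, h4, mul_assoc, inv_mul_cancel, mul_one]
    exact inv_mem h3

theorem mem_St {g : G} : g ∈ St W ↔ (∀ x ∈ W 0, g * x = x * g) ∧ ∀ a ∈ Q2 W, g * a * g⁻¹ * a⁻¹ ∈ W 0 := Iff.rfl

theorem le_St {A : Subgroup G} (h1 : Cm A (W 0)) (h2 : Cl A (Q2 W) (W 0)) : A ≤ St W := fun g hg =>
  ⟨fun x hx => h1 g hg x hx, fun a ha => h2 g hg a ha⟩

/-- pieces of `A₀` -/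
theorem cl_Q2 (h : Inp5 τ X Y W T B N) {A : Subgroup G} (h0 : Cm A (W 0)) (h1 : Cl A (W 1) (W 0))
    (h2 : Cl A (W 2) (W 0)) (h3 : Cl A (W (-1)) (W 0)) (h4 : Cl A (W (-2)) (W 0)) : Cl A (Q2 W) (W 0) := by
  have n (S : Subgroup G) (hS : S ≤ Q2 W) : Nz S (W 0) := ((cA h.toInp).mono hS (w0Q W)).nz
  have e1 : Cl A (EK W) (W 0) := ((h0.cl _).sup' h1 (n _ (w0Q W)) (n _ (w1Q W))).sup' h2
    (n _ (sup_le (w0Q W) (w1Q W))) (n _ (w2Q W))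
  have e2 : Cl A (RK W) (W 0) := e1.sup' h3 (n _ (E_Q2 W)) (n _ (wm1Q W))
  exact e2.sup' h4 (n _ (R_Q2 W)) (n _ (wm2Q W))

theorem wm3_w0 (h : Inp5 τ X Y W T B N) : Cm (W (-3)) (W 0) := ((base (sh h.toInp (-1))).w12 :)

theorem wm3_St (h : Inp5 τ X Y W T B N) (a : FiveIn X Y W B) : W (-3) ≤ St W := by
  have c3 : Cm (W (-3)) (W (-1)) := ((base (sh h.toInp (-1))).w11 :)
  have c4 : Cm (W (-2)) (W (-3)) := ((base (rf h.toInp (-1))).w01 :)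
  exact le_St (wm3_w0 h) (cl_Q2 h (wm3_w0 h) a.r2 a.r4 (c3.cl _) (c4.symm.cl _))

theorem Q2_St (h : Inp5 τ X Y W T B N) : Q2 W ≤ St W :=
  le_St ((cA h.toInp).mono le_rfl (w0Q W)) ((cA h.toInp).cl _)

theorem b0_St (h : Inp5 τ X Y W T B N) : B 0 ≤ St W := le_St ((b2 h).bA.mono le_rfl (w0Q W)) ((b2 h).bA.cl _)

theorem b2_St (h : Inp5 τ X Y W T B N) : B 2 ≤ St W :=
  le_St (b2_w0 h) (cl_Q2 h (b2_w0 h) ((b2_w1 h).cl _) ((b2_w2 h).cl _) (b2_wm1 h).symm ((b2_wm2 h).cl _))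

theorem bm2_St (h : Inp5 τ X Y W T B N) : B (-2) ≤ St W :=
  le_St (bm2_w0 h) (cl_Q2 h (bm2_w0 h) (bm2_w1 h).symm ((bm2_w2 h).symm.cl _) ((bm2_wm1 h).cl _) ((bm2_wm2 h).cl _))

/-- the reflected relations of `W 3` -/
theorem w3_St (h : Inp5 τ X Y W T B N) (a : FiveIn (F 0 (-1) X) (F 0 (-1) Y) (F 0 (-1) W) (F 0 (-1) B)) :
    W 3 ≤ St W := by
  have c := c3E h.toInp
  have h3 : Cl (W 3) (W (-1)) (W 0) := (a.r2 :)
  have h4 : Cl (W 3) (W (-2)) (W 0) := (a.r4 :)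
  exact le_St (c.mono le_rfl (w0E W)) (cl_Q2 h (c.mono le_rfl (w0E W)) ((c.mono le_rfl (w1E W)).cl _)
    ((c.mono le_rfl (w2E W)).cl _) h3 h4)

theorem Qp_St (h : Inp5 τ X Y W T B N) (a : FiveIn (F 0 (-1) X) (F 0 (-1) Y) (F 0 (-1) W) (F 0 (-1) B)) :
    Qp W B ≤ St W :=
  sup_le (sup_le (sup_le (sup_le (Q2_St h) (b0_St h)) (b2_St h)) (w3_St h a)) (bm2_St h)

/-- `B₄` normalises `St` -/
theorem b4_St (h : Inp5 τ X Y W T B N) : Nz (B 4) (St W) := by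
  rintro b hb g ⟨h1, h2⟩
  have c0 : ∀ x ∈ W 0, b * x = x * b := fun x hx => ((b4 h).r04 x hx b hb).symm
  refine ⟨fun x hx => comm_mul (comm_mul (c0 x hx) (h1 x hx)) (comm_inv (c0 x hx)), fun a ha => ?_⟩
  have ha' : b⁻¹ * a * b ∈ Q2 W := (q0 h).inv hb ha
  have h3 := h2 _ ha'
  have e : b * g * b⁻¹ * a * (b * g * b⁻¹)⁻¹ * a⁻¹ =
      b * (g * (b⁻¹ * a * b) * g⁻¹ * (b⁻¹ * a * b)⁻¹) * b⁻¹ := by group
  rw [e, c0 _ h3, mul_inv_cancel_right]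
  exact h3

/-! ### the main step -/

/-- `C(t) ∩ St ≤ Q₀` -/
theorem mem_Q0 (h : Inp5 τ X Y W T B N) {c : G} (hc : c ∈ St W) (hτ : τ c = c) : c ∈ Q0 X Y := by
  refine (base h.toInp).k8 c hτ (fun w hw => hc.1 w hw) fun y hy => ?_
  have hY : Q2 Y ≤ Q2 W := (dQ2 h.toInp).le
  refine h.Wf 0 _ (hc.2 y (hY hy)) ?_
  have e : τ y = y := (dQ2 h.toInp).fixK y hy
  rw [map_mul, map_mul, map_mul, map_inv, map_inv, hτ, e]

/-- both inputs -/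
structure Two5 (X Y W B : ℤ → Subgroup G) : Prop where
  l : FiveIn X Y W B
  r : FiveIn (F 0 (-1) X) (F 0 (-1) Y) (F 0 (-1) W) (F 0 (-1) B)

theorem mem_Qx (h : Inp5 τ X Y W T B N) (a : Two5 X Y W B) {b w : G} (hb : b ∈ B 4) (hw : w ∈ W (-3))
    (hc : (b * w * b⁻¹ * w⁻¹)⁻¹ * τ (b * w * b⁻¹ * w⁻¹) ∈ Qp W B) :
    b * w * b⁻¹ * w⁻¹ ∈ Qp W B ⊔ Y (-3) := by
  obtain ⟨r, hr, h1⟩ := (dQ h).exists_fix h.tt hc
  have hS : b * w * b⁻¹ * w⁻¹ ∈ St W :=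
    mul_mem (b4_St h b hb w (wm3_St h a.l hw)) (inv_mem (wm3_St h a.l hw))
  have h2 : b * w * b⁻¹ * w⁻¹ * r ∈ Q0 X Y := mem_Q0 h (mul_mem hS (Qp_St h a.r hr)) h1
  have h3 : Q0 X Y ≤ Qp W B ⊔ Y (-3) := sup_le_sup (dQ h).le le_rfl
  have h4 := mul_mem (h3 h2) (inv_mem (Subgroup.mem_sup_left (T := Y (-3)) hr))
  rwa [mul_inv_cancel_right] at h4

theorem step [Finite G] (h : Inp5 τ X Y W T B N) (a : Two5 X Y W B) {S : Subgroup G} (hS : S ≤ B 4)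
    (hTS : Nz (T (-3)) S) {w : G} (hw : w ∈ W (-3))
    (hc : ∀ b ∈ S, (b * w * b⁻¹ * w⁻¹)⁻¹ * τ (b * w * b⁻¹ * w⁻¹) ∈ Qp W B) :
    ∀ b ∈ S, b * w * b⁻¹ * w⁻¹ ∈ Qp W B := by
  obtain ⟨t, ht, hf⟩ := h.hf (-3) 4 (by decide)
  have hf4 := Hom.free h.tt (db4 h) (h.YX 4) (h.tT _ t ht) hf (h.Wab 4) (h.Wsq 4)
  have nt : Nz (T (-3)) (Qp W B) := by
    have tb (c : ℤ) : Nz (T (-3)) (B (2 * c)) := by
      have h1 := (bs h c).bTn (-3 - 2 * c)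
      have e1 : F c 1 T (-3 - 2 * c) = T (-3) := by
        show T (2 * c + 1 * (-3 - 2 * c)) = T (-3)
        congr 1; ring
      have e2 : F c 1 B 0 = B (2 * c) := by
        show B (2 * c + 1 * 0) = B (2 * c)
        congr 1; ring
      rwa [e1, e2] at h1
    have t0 : Nz (T (-3)) (B 0) := (tb 0 :)
    have t2 : Nz (T (-3)) (B 2) := (tb 1 :)
    have t2' : Nz (T (-3)) (B (-2)) := (tb (-1) :)
    exact (((((((h.TW _ 0).sup' (h.TW _ 1)).sup' (h.TW _ 2)).sup' (h.TW _ _)).sup' (h.TW _ _)).sup' t0).sup' t2).sup'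
      (h.TW _ 3) |>.sup' t2'
  have hY3 : Y (-3) ≤ W (-3) := h.YW _
  refine kill (fun b hb => hTS t ht b hb) (fun b hb => hf4 b (hS hb)) (h.TWc _ t ht w hw)
    ((q h).mono hS) (fun r hr => u h a.l w hw r hr) fun b hb => ?_
  have h1 := mem_Qx h a (hS hb) hw (hc b hb)
  obtain ⟨r, hr, y, hy, e⟩ := mem_sup ((u h a.l).mono hY3) h1
  rw [e]
  have h2 : t * y * t⁻¹ = y := by
    rw [h.TWc _ t ht y (hY3 hy), mul_inv_cancel_right]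
  have e2 : (r * y)⁻¹ * (t * (r * y) * t⁻¹) = y⁻¹ * (r⁻¹ * (t * r * t⁻¹)) * (t * y * t⁻¹) := by group
  rw [e2, h2]
  exact (u h a.l).inv (hY3 hy) (mul_mem (inv_mem hr) (nt t ht r hr))

/-! ### (t) - (z) -/

/-- (t) -/
theorem lt [Finite G] (h : Inp5 τ X Y W T B N) (a : FiveIn X Y W B) : Cl (X (-3)) (W 4) (M W B) := by
  intro x hx v hv
  obtain ⟨t, ht, hf⟩ := h.hf 4 (-3) (by decide)
  have hYX : Y (-3) = X (-3) := yo3 h
  have hXW : X (-3) ≤ W (-3) := hYX ▸ h.YW _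
  have nW4 : Nz (W 4) (M W B) := nzN1 h (w4_le_N h) (M_le_N h) ((E_Q2 W).trans (Q2M W B))
  have nX : Nz (X (-3)) (M W B) := (uM h a).mono hXW
  have nt : Nz (T 4) (M W B) := by
    have tb (c : ℤ) : Nz (T 4) (B (2 * c)) := by
      have h1 := (bs h c).bTn (4 - 2 * c)
      have e1 : F c 1 T (4 - 2 * c) = T 4 := by
        show T (2 * c + 1 * (4 - 2 * c)) = T 4
        congr 1; ring
      have e2 : F c 1 B 0 = B (2 * c) := by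
        show B (2 * c + 1 * 0) = B (2 * c)
        congr 1; ring
      rwa [e1, e2] at h1
    have t0 : Nz (T 4) (B 0) := (tb 0 :)
    have t2 : Nz (T 4) (B 2) := (tb 1 :)
    exact (((((((h.TW _ 0).sup' (h.TW _ 1)).sup' (h.TW _ 2)).sup' (h.TW _ _)).sup' (h.TW _ _)).sup' t0).sup' t2).sup'
      (h.TW _ 3)
  refine kill (B := X (-3)) (fun b hb => h.TX _ _ t ht b hb) hf (h.TWc _ t ht v hv) nX
    (fun r hr => nW4 v hv r hr) (fun x hx => ?_) x hx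
  -- `⁅x, v⁆ ∈ N'' Z₄`
  have hy : v⁻¹ * τ v ∈ Y 4 := brkW h.toGen 4 hv
  obtain ⟨y, hy'⟩ : ∃ y, y = v⁻¹ * τ v := ⟨_, rfl⟩
  rw [← hy'] at hy
  have ev : τ v = v * y := by rw [hy']; group
  have h1 : (x * v * x⁻¹ * v⁻¹)⁻¹ * τ (x * v * x⁻¹ * v⁻¹) ∈ M W B := by
    refine tau_comm (a' := 1) (b' := y) (by rw [h.tX _ x hx, mul_one]) ev (nX.le hx) (nW4.le hv) ?_ ?_ ?_
    · simp
    · exact (dM h).le ((base h.toInp).r34z x hx y hy)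
    · simp
  obtain ⟨r, hr, h2⟩ := (dM h).exists_fix h.tt h1
  have h3 : x * v * x⁻¹ * v⁻¹ * r ∈ N 1 :=
    mul_mem (mul_mem (xm3_N h x hx v (w4_le_N h hv)) (inv_mem (w4_le_N h hv))) (M_le_N h hr)
  have h4 : x * v * x⁻¹ * v⁻¹ * r ∈ NK X Y := (b2 h).ndbl.fix _ h3 h2
  have h5 : NK X Y ≤ M W B ⊔ Y 4 := sup_le_sup (dM h).le le_rfl
  have h6 := mul_mem (h5 h4) (inv_mem (Subgroup.mem_sup_left (T := Y 4) hr))
  rw [mul_inv_cancel_right] at h6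
  obtain ⟨m, hm, z, hz, e⟩ := mem_sup (nW4.mono (h.YW 4)) h6
  rw [e]
  have h7 : t * z * t⁻¹ = z := by
    rw [h.TWc _ t ht z (h.YW 4 hz), mul_inv_cancel_right]
  have e2 : (m * z)⁻¹ * (t * (m * z) * t⁻¹) = z⁻¹ * (m⁻¹ * (t * m * t⁻¹)) * (t * z * t⁻¹) := by group
  rw [e2, h7]
  exact nW4.inv (h.YW 4 hz) (mul_mem (inv_mem hm) (nt t ht m hm))

section

variable [Finite G] (h : Inp5 τ X Y W T B N) (a : Two5 X Y W B)
include h a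

omit [Finite G] a in
/-- bracket of `w ∈ W₋₃` -/
theorem brk3 {w : G} (hw : w ∈ W (-3)) : ∃ x ∈ X (-3), τ w = w * x := by
  refine ⟨w⁻¹ * τ w, h.YX _ (brkW h.toGen _ hw), by group⟩

/-- (v) -/
theorem lv : Cl (Y 4) (W (-3)) (Qp W B) := by
  intro b hb w hw
  obtain ⟨x, hx, ew⟩ := brk3 h hw
  have hYX : Y (-3) = X (-3) := yo3 h
  have hYB : Y 4 ≤ B 4 := (h.YW 4).trans (db4 h).WB
  refine step h a hYB (h.TY _ _) hw (fun b hb => ?_) b hb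
  refine tau_comm (a' := 1) (b' := x) (by rw [h.tX _ b (h.YX _ hb), mul_one]) ew ((q h).le (hYB hb))
    ((u h a.l).le hw) ?_ ?_ ?_
  · simp
  · exact (dQ h).le ((le_sup_left : MK X Y ≤ QpK X Y) ((base h.toInp).r34z.symm b hb x hx))
  · simp

/-- `X₋₃` and `W 4` -/
theorem lt' : Cl (W 4) (X (-3)) (Qp W B) := ((lt h a.l).symm).mono3 (MQ W B)

omit [Finite G] a in
theorem lzx : Cl (X 4) (X (-3)) (Qp W B) := ((base h.toInp).r34.symm).mono3 (dQ h).le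

/-- (w) -/
theorem lw : Cl (W 4) (W (-3)) (Qp W B) := by
  intro b hb w hw
  obtain ⟨x, hx, ew⟩ := brk3 h hw
  have hWB : W 4 ≤ B 4 := (db4 h).WB
  refine step h a hWB (h.TW _ _) hw (fun b hb => ?_) b hb
  have hy : b⁻¹ * τ b ∈ Y 4 := brkW h.toGen 4 hb
  refine tau_comm (a' := b⁻¹ * τ b) (b' := x) (by group) ew ((q h).le (hWB hb))
    ((u h a.l).le hw) ?_ ?_ ?_
  · exact lv h a _ hy w hw
  · exact lt' h a b hb x hx
  · exact lzx h _ (h.YX 4 hy) x hx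

/-- (x) -/
theorem lx : Cl (B 4) (X (-3)) (Qp W B) := by
  intro b hb x hx
  have hYX : Y (-3) = X (-3) := yo3 h
  have hXW : X (-3) ≤ W (-3) := hYX ▸ h.YW _
  have tb : Nz (T (-3)) (B 4) := ((bs h 2).bTn (-7) :)
  refine step h a le_rfl tb (hXW hx) (fun b hb => ?_) b hb
  obtain ⟨y, hy, v, hv, e⟩ := (db4 h).brk b hb
  refine tau_comm (a' := y * v) (b' := 1) (by rw [← e]; group) (by rw [h.tX _ x hx, mul_one]) ((q h).le hb)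
    ((u h a.l).le (hXW hx)) ?_ ?_ ?_
  · exact cl_mul (lt' h a v hv x hx) (lzx h y hy x hx) fun r hr => q h y ((db4 h).XB hy) r hr
  · simp
  · simp

/-- (y) -/
theorem ly : Cl (X 4) (W (-3)) (Qp W B) := by
  intro b hb w hw
  obtain ⟨x, hx, ew⟩ := brk3 h hw
  have hXB : X 4 ≤ B 4 := (db4 h).XB
  refine step h a hXB (h.TX _ _) hw (fun b hb => ?_) b hb
  refine tau_comm (a' := 1) (b' := x) (by rw [h.tX _ b hb, mul_one]) ew ((q h).le (hXB hb))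
    ((u h a.l).le hw) ?_ ?_ ?_
  · simp
  · exact lzx h b hb x hx
  · simp

/-- (z) -/
theorem lz : Cl (B 4) (W (-3)) (Qp W B) := by
  intro b hb w hw
  obtain ⟨x, hx, ew⟩ := brk3 h hw
  have tb : Nz (T (-3)) (B 4) := ((bs h 2).bTn (-7) :)
  refine step h a le_rfl tb hw (fun b hb => ?_) b hb
  obtain ⟨y, hy, v, hv, e⟩ := (db4 h).brk b hb
  refine tau_comm (a' := y * v) (b' := x) (by rw [← e]; group) ew ((q h).le hb) ((u h a.l).le hw) ?_ ?_ ?_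
  · exact cl_mul (lw h a v hv w hw) (ly h a y hy w hw) fun r hr => q h y ((db4 h).XB hy) r hr
  · exact lx h a b hb x hx
  · exact lx h a _ (mul_mem ((db4 h).XB hy) ((db4 h).WB hv)) x hx

/-- **Level 5**: the inputs of `End.dblUs` -/
theorem out : Dbl τ (Qp W B) (QpK X Y) ∧ Nz (W (-3)) (Qp W B) ∧ Nz (B 4) (Qp W B) ∧
    Cl (W (-3)) (B 4) (Qp W B) := ⟨dQ h, u h a.l, q h, (lz h a).symm⟩

end

end Cfsg.Agent.OddHalf.D7TwF4.Growth.FiveB
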