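import Cfsg.Agent.OddHalf.D7TwF4.Growth.Al

/-!
# Growth for `²F₄(q)`, level 4 (m) - (q) (helper702; text `blueprints/ODD-D7-2F4-growth-helper702.md`)

`main : Inp4 τ X Y W T B N → Cl (B (-2)) (B 4) (M W B)`.
-/

set_option autoImplicit false
set_option linter.unusedVariables false

namespace Cfsg.Agent.OddHalf.D7TwF4.Growth.Mq

open Cfsg.Agent.OddHalf.D7TwF4.Growth.Defs Cfsg.Agent.OddHalf.D7TwF4.Growth.Tools
open Cfsg.Agent.OddHalf.D7TwF4.Growth.Frame Cfsg.Agent.OddHalf.D7TwF4.Growth.Two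
open Cfsg.Agent.OddHalf.D7TwF4.Growth.Inp Cfsg.Agent.OddHalf.D7TwF4.Growth.AlBase
open Cfsg.Agent.OddHalf.D7TwF4.Growth.Al

variable {G : Type*} [Group G] {τ : G →* G} {X Y W T B N : ℤ → Subgroup G}

theorem sh4 (h : Inp4 τ X Y W T B N) (c : ℤ) :
    Inp4 τ (F c 1 X) (F c 1 Y) (F c 1 W) (F c 1 T) (F c 1 B) (F c 1 N) := inp4 h c (Or.inl rfl)

theorem rf4 (h : Inp4 τ X Y W T B N) (c : ℤ) :
    Inp4 τ (F c (-1) X) (F c (-1) Y) (F c (-1) W) (F c (-1) T) (F c (-1) B) (F c (-1) N) := inp4 h c (Or.inr rfl)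

/-! ### normalising a product -/

/-- `A` conjugates `P` into `S` -/
def Nl (A P S : Subgroup G) : Prop := ∀ a ∈ A, ∀ p ∈ P, a * p * a⁻¹ ∈ S

theorem Nl.sup {A P Q S : Subgroup G} (h1 : Nl A P S) (h2 : Nl A Q S) : Nl A (P ⊔ Q) S := by
  intro a ha p hp
  have : P ⊔ Q ≤ S.comap (MulAut.conj a).toMonoidHom := sup_le (fun x hx => h1 a ha x hx) (fun x hx => h2 a ha x hx)
  exact this hp

theorem Nl.mono {A P S S' : Subgroup G} (h1 : Nl A P S) (h2 : S ≤ S') : Nl A P S' := fun a ha p hp => h2 (h1 a ha p hp)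

theorem nl_cl {A P S C : Subgroup G} (h1 : Cl A P C) (hC : C ≤ S) (hP : P ≤ S) : Nl A P S := by
  intro a ha p hp
  have e : a * p * a⁻¹ = (a * p * a⁻¹ * p⁻¹) * p := by group
  rw [e]; exact mul_mem (hC (h1 a ha p hp)) (hP hp)

theorem nl_cm {A P S : Subgroup G} (h1 : Cm A P) (hP : P ≤ S) : Nl A P S := by
  intro a ha p hp
  rw [h1 a ha p hp, mul_inv_cancel_right]; exact hP hp

theorem EK_ref (W : ℤ → Subgroup G) : EK (F 1 (-1) W) = EK W := by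
  show W 2 ⊔ W 1 ⊔ W 0 = W 0 ⊔ W 1 ⊔ W 2
  ac_rfl

/-! ### `N''` and `N₁` -/

theorem DM (W B : ℤ → Subgroup G) : D W B ≤ M W B := le_sup_left.trans le_sup_left
theorem QM (W B : ℤ → Subgroup G) : Q2 W ≤ M W B := le_sup_left.trans (DM W B)
theorem EM (W B : ℤ → Subgroup G) : EK W ≤ M W B := ((er W).trans (rq W)).trans (QM W B)
theorem B0M (W B : ℤ → Subgroup G) : B 0 ≤ M W B := le_sup_right.trans (DM W B)
theorem B2M (W B : ℤ → Subgroup G) : B 2 ≤ M W B := le_sup_right.trans le_sup_left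
theorem W3M (W B : ℤ → Subgroup G) : W 3 ≤ M W B := le_sup_right

theorem MN (h : Inp2 τ X Y W T B N) : M W B ≤ N 1 := by
  rw [(base2 h).ndec]; exact le_sup_left

theorem W4N (h : Inp2 τ X Y W T B N) : W 4 ≤ N 1 := by
  rw [(base2 h).ndec]; exact le_sup_right

theorem b4Q [Finite G] (h : Inp2 τ X Y W T B N) : Nz (B 4) (Q2 W) := by
  have h2 := Cl.nz' ((r64 h).mono3 (le_sup_right : RK W ≤ W (-2) ⊔ RK W)) (b4R h)
  rwa [sup_comm] at h2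

/-- `B₄` normalises `N''` -/
theorem b4M [Finite G] (h : Inp2 τ X Y W T B N) : Nz (B 4) (M W B) := by
  have e1 : Nl (B 4) (Q2 W) (M W B) := fun a ha p hp => QM W B (b4Q h a ha p hp)
  have e2 : Nl (B 4) (B 0) (M W B) := nl_cm (s04 h).symm (B0M W B)
  have e3 : Nl (B 4) (B 2) (M W B) := nl_cl (s24 h).symm (W3M W B) (B2M W B)
  have e4 : Nl (B 4) (W 3) (M W B) := nl_cm (b4w3 h) (W3M W B)
  exact ((e1.sup e2).sup e3).sup e4

/-- `B₄` normalises `N₁` -/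
theorem b4N1 [Finite G] (h : Inp2 τ X Y W T B N) : Nz (B 4) (N 1) := by
  have h1 := (b4M h).sup' (b4w4 h).nz
  rwa [← (base2 h).ndec] at h1

/-! ### the frame `k ↦ 2 - k` -/

theorem bm2N [Finite G] (h : Inp2 τ X Y W T B N) : Nz (B (-2)) (N 1) := by
  have h1 := b4N1 (rf2 h 1)
  exact h1

theorem dbm2 (h : Inp2 τ X Y W T B N) : DB τ (B (-2)) (X (-2)) (W (-2)) (Y (-2)) := by
  have h1 := db4 (rf2 h 1)
  exact h1

theorem bm2n (h : Inp2 τ X Y W T B N) (i : ℤ) : Nz (T i) (B (-2)) := by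
  have h1 := b4n (rf2 h 1) (2 - i)
  have e : F 1 (-1) T (2 - i) = T i := by
    show T (2 * 1 + (-1) * (2 - i)) = T i
    congr 1; ring
  rw [e] at h1
  exact h1

theorem bm2t (h : Inp2 τ X Y W T B N) : Cm (T (-2)) (B (-2)) := by
  have h1 := b4t4 (rf2 h 1)
  exact h1

theorem freem2 [Finite G] (h : Inp2 τ X Y W T B N) : ∃ t ∈ T 4, ∀ x ∈ B (-2), t * x * t⁻¹ = x → x = 1 := by
  have h1 := free4 (rf2 h 1) (-2) (by norm_num)
  exact h1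

/-- `B₋₂` and `W₂` -/
theorem bm2w2 [Finite G] (h : Inp2 τ X Y W T B N) : Cm (B (-2)) (W 2) := by
  have h1 := (r04 (rf2 h 1)).symm
  exact h1

theorem bm2w0 (h : Inp2 τ X Y W T B N) : Cm (B (-2)) (W 0) := by
  have h1 := b4w2 (rf2 h 1)
  exact h1

theorem bm2wm1 (h : Inp2 τ X Y W T B N) : Cm (B (-2)) (W (-1)) := by
  have h1 := b4w3 (rf2 h 1)
  exact h1

theorem bm2wm2 (h : Inp2 τ X Y W T B N) : Cm (B (-2)) (W (-2)) := by
  have h1 := b4w4 (rf2 h 1)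
  exact h1

theorem bm2w1 [Finite G] (h : Inp2 τ X Y W T B N) : Cl (B (-2)) (W 1) (W 0) := by
  have h1 := (Al.r14 (rf2 h 1)).symm
  exact h1

theorem bm2b0 [Finite G] (h : Inp2 τ X Y W T B N) : Cl (B (-2)) (B 0) (W (-1)) := by
  have h1 := (s24 (rf2 h 1)).symm
  exact h1

theorem bm2b2 [Finite G] (h : Inp2 τ X Y W T B N) : Cm (B (-2)) (B 2) := by
  have h1 := (s04 (rf2 h 1)).symm
  exact h1

theorem bm2w3 [Finite G] (h : Inp2 τ X Y W T B N) : Cl (B (-2)) (W 3) (EK W) := by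
  have h1 := r54 (rf2 h 1)
  rw [EK_ref] at h1
  exact h1

/-- `⁅B₋₂, W₄⁆ ≤ N₁` -/
theorem bm2w4 [Finite G] (h : Inp2 τ X Y W T B N) : Cl (B (-2)) (W 4) (N 1) := by
  have h1 := (r64 (rf2 h 1)).mono3 ((rq (F 1 (-1) W)).trans (base2 (rf2 h 1)).nA)
  exact h1

theorem xm2N (h : Inp2 τ X Y W T B N) : Nz (X (-2)) (N 1) := by
  have h1 := (base2 (rf2 h 1)).n4
  exact h1

/-- `B₋₂` normalises `N''` -/
theorem bm2M [Finite G] (h : Inp2 τ X Y W T B N) : Nz (B (-2)) (M W B) := by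
  have hw (i : ℤ) (hi : W i ≤ Q2 W) : W i ≤ M W B := hi.trans (QM W B)
  have w0 : W 0 ≤ M W B := hw 0 (((e0 W).trans (er W)).trans (rq W))
  have w1 : W 1 ≤ M W B := hw 1 (((e1 W).trans (er W)).trans (rq W))
  have w2 : W 2 ≤ M W B := hw 2 (((e2 W).trans (er W)).trans (rq W))
  have wm1 : W (-1) ≤ M W B := hw _ ((r1 W).trans (rq W))
  have wm2 : W (-2) ≤ M W B := hw _ (q2 W)
  have f0 : Nl (B (-2)) (W 0) (M W B) := nl_cm (bm2w0 h) w0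
  have f1 : Nl (B (-2)) (W 1) (M W B) := nl_cl (bm2w1 h) w0 w1
  have f2 : Nl (B (-2)) (W 2) (M W B) := nl_cm (bm2w2 h) w2
  have f3 : Nl (B (-2)) (W (-1)) (M W B) := nl_cm (bm2wm1 h) wm1
  have f4 : Nl (B (-2)) (W (-2)) (M W B) := nl_cm (bm2wm2 h) wm2
  have f5 : Nl (B (-2)) (B 0) (M W B) := nl_cl (bm2b0 h) wm1 (B0M W B)
  have f6 : Nl (B (-2)) (B 2) (M W B) := nl_cm (bm2b2 h) (B2M W B)
  have f7 : Nl (B (-2)) (W 3) (M W B) := nl_cl (bm2w3 h) (EM W B) (W3M W B)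
  exact (((((((f0.sup f1).sup f2).sup f3).sup f4).sup f5).sup f6).sup f7)

/-! ### (m), (n) -/

theorem one_cl {R : Subgroup G} (a : G) : (1 : G) * a * 1⁻¹ * a⁻¹ ∈ R := by
  have : (1 : G) * a * 1⁻¹ * a⁻¹ = 1 := by group
  rw [this]; exact one_mem _

theorem cl_one {R : Subgroup G} (a : G) : a * 1 * a⁻¹ * 1⁻¹ ∈ R := by
  have : a * 1 * a⁻¹ * 1⁻¹ = (1 : G) := by group
  rw [this]; exact one_mem _

theorem NKN (h : Inp2 τ X Y W T B N) : NK X Y ≤ N 1 := (base2 h).ndbl.le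

/-- `⁅X₋₂, X₄⁆ ≤ N₁` -/
theorem xx (h : Inp2 τ X Y W T B N) : Cl (X (-2)) (X 4) (N 1) :=
  (base h.toInp).r24.mono3 ((le_sup_left : MK X Y ≤ NK X Y).trans (NKN h))

theorem wx [Finite G] (h : Inp2 τ X Y W T B N) : Cl (W (-2)) (X 4) (N 1) :=
  (i24 h).symm.mono3 ((rq W).trans (base2 h).nA)

theorem xx' (h : Inp2 τ X Y W T B N) : Nz (X (-2)) (N 1 ⊔ X 4) := by
  have f1 : Nl (X (-2)) (N 1) (N 1 ⊔ X 4) := fun a ha p hp => Subgroup.mem_sup_left (xm2N h a ha p hp)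
  have f2 : Nl (X (-2)) (X 4) (N 1 ⊔ X 4) := nl_cl (xx h) le_sup_left le_sup_right
  exact f1.sup f2

/-- elements of `C(τ)` modulo `N₁` -/
theorem k7' (h : Inp2 τ X Y W T B N) {c : G} (hc : τ c = c) (h0 : ∀ w ∈ W 0, c * w = w * c)
    (h2 : ∀ y ∈ W 2, c * y = y * c) : ∃ x ∈ X (-2), ∃ r ∈ N 1 ⊔ X 4, c = x * r := by
  have h1 := (base h.toInp).k7 c hc h0 (fun y hy => h2 y (h.YW 2 hy))
  have hle : QpK X Y ⊔ X 4 ≤ (N 1 ⊔ X 4) ⊔ X (-2) := by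
    refine sup_le (sup_le ?_ le_sup_right) (le_sup_right.trans le_sup_left)
    exact ((le_sup_left : MK X Y ≤ NK X Y).trans (NKN h)).trans (le_sup_left.trans le_sup_left)
  obtain ⟨r, hr, x, hx, e⟩ := mem_sup' (xx' h) (hle h1)
  exact ⟨x, hx, r, hr, e⟩

/-- (m) `⁅B₋₂, X₄⁆ ≤ N₁` -/
theorem m24 [Finite G] (h : Inp2 τ X Y W T B N) : Cl (B (-2)) (X 4) (N 1) := by
  have h2 := base2 h
  have key : ∀ a ∈ B (-2), ∀ x ∈ X 4, ∃ y ∈ X (-2), ∃ r ∈ N 1 ⊔ X 4, a * x * a⁻¹ * x⁻¹ = y * r := by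
    intro a ha x hx
    obtain ⟨y, hy, u, hu, e⟩ := (dbm2 h).brk a ha
    have k : (y * u) * x * (y * u)⁻¹ * x⁻¹ ∈ N 1 := cl_XW (xx h) (wx h) (xm2N h) hy hu hx
    have h1 := tau_comm (τ := τ) (R := N 1) (a := a) (b := x) (a' := y * u) (b' := 1)
      (by rw [← e]; group) (by rw [h.tX 4 x hx, mul_one]) ((bm2N h).le ha) (h2.n4.le hx) k (cl_one a) (cl_one _)
    obtain ⟨r, hr, h3⟩ := h2.ndbl.exists_fix h.tt h1
    have cr : ∀ e ∈ EK W, r * e = e * r := fun e he => h2.nE r hr e he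
    obtain ⟨z, hz, s, hs, e2⟩ := k7' h h3
      (fun w hw => comm_mul (comm_comm (bm2w0 h a ha w hw) (x40 h.toInp x hx w hw)) (cr w (e0 W hw)))
      (fun w hw => comm_mul (comm_comm (bm2w2 h a ha w hw) (x42 h.toInp x hx w hw)) (cr w (e2 W hw)))
    refine ⟨z, hz, s * r⁻¹, mul_mem hs (inv_mem (Subgroup.mem_sup_left hr)), ?_⟩
    rw [← mul_assoc, ← e2, mul_inv_cancel_right]
  have tR' : ∀ i, Nz (T i) (N 1 ⊔ X 4) := fun i => (h2.nT i).sup' (h.TX i 4)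
  have key2 : ∀ a ∈ B (-2), ∀ x ∈ X 4, a * x * a⁻¹ * x⁻¹ ∈ N 1 ⊔ X 4 := by
    intro a ha x hx
    obtain ⟨t, ht, h1⟩ := freeX h (i := -2) 4 (by norm_num)
    have h3 := kill' (B := X 4) (R := N 1 ⊔ X 4) (h := t) (a := a) (h.TX (-2) 4 t ht) h1 (bm2t h t ht a ha)
      le_sup_right (fun x hx => by
        obtain ⟨y, hy, r, hr, e⟩ := key a ha x hx
        exact brk_left e hr (tR' (-2) t ht) (h.TXc (-2) t ht y hy)) x hx
    exact mul_mem h3 (inv_mem (Subgroup.mem_sup_right hx))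
  intro a ha x hx
  obtain ⟨t, ht, h1⟩ := freem2 h
  refine kill (B := B (-2)) (R := N 1) (h := t) (x := x) (bm2n h 4 t ht) h1 (h.TXc 4 t ht x hx)
    (bm2N h) (h2.n4 x hx) (fun a ha => ?_) a ha
  exact brk_sup (A := X 4) h2.n4 (h2.nT 4 t ht) (fun a ha => h.TXc 4 t ht a ha) (key2 a ha x hx)

/-- (n) `⁅X₋₂, B₄⁆ ≤ N₁` -/
theorem n24 [Finite G] (h : Inp2 τ X Y W T B N) : Cl (X (-2)) (B 4) (N 1) := by
  have h1 := (m24 (rf2 h 1)).symm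
  exact h1

/-- (o) `⁅B₋₂, B₄⁆ ≤ N₁` -/
theorem o24 [Finite G] (h : Inp2 τ X Y W T B N) : Cl (B (-2)) (B 4) (N 1) := by
  have h2 := base2 h
  have wb : Cl (W (-2)) (B 4) (N 1) := (r64 h).symm.mono3 ((rq W).trans h2.nA)
  have key : ∀ a ∈ B (-2), ∀ b ∈ B 4, ∃ y ∈ X (-2), ∃ r ∈ N 1 ⊔ X 4, a * b * a⁻¹ * b⁻¹ = y * r := by
    intro a ha b hb
    obtain ⟨y, hy, u, hu, e⟩ := (dbm2 h).brk a ha
    obtain ⟨x, hx, v, hv, f⟩ := (db4 h).brk b hb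
    have hyu : y * u ∈ B (-2) := mul_mem ((dbm2 h).XB hy) ((dbm2 h).WB hu)
    have hxv : x * v ∈ B 4 := mul_mem ((db4 h).XB hx) ((db4 h).WB hv)
    have k (b : G) (hb : b ∈ B 4) : (y * u) * b * (y * u)⁻¹ * b⁻¹ ∈ N 1 := cl_XW (n24 h) wb (xm2N h) hy hu hb
    have k2 : a * (x * v) * a⁻¹ * (x * v)⁻¹ ∈ N 1 := cinv (cl_XW (m24 h).symm (bm2w4 h).symm h2.n4 hx hv ha)
    have h1 := tau_comm (τ := τ) (R := N 1) (a := a) (b := b) (a' := y * u) (b' := x * v)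
      (by rw [← e]; group) (by rw [← f]; group) ((bm2N h).le ha) ((b4N1 h).le hb) (k b hb) k2 (k _ hxv)
    obtain ⟨r, hr, h3⟩ := h2.ndbl.exists_fix h.tt h1
    have cr : ∀ e ∈ EK W, r * e = e * r := fun e he => h2.nE r hr e he
    obtain ⟨z, hz, s, hs, e2⟩ := k7' h h3
      (fun w hw => comm_mul (comm_comm (bm2w0 h a ha w hw) (r04 h w hw b hb).symm) (cr w (e0 W hw)))
      (fun w hw => comm_mul (comm_comm (bm2w2 h a ha w hw) (b4w2 h b hb w hw)) (cr w (e2 W hw)))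
    refine ⟨z, hz, s * r⁻¹, mul_mem hs (inv_mem (Subgroup.mem_sup_left hr)), ?_⟩
    rw [← mul_assoc, ← e2, mul_inv_cancel_right]
  have tR' : ∀ i, Nz (T i) (N 1 ⊔ B 4) := fun i => (h2.nT i).sup' (b4n h i)
  have hle : N 1 ⊔ X 4 ≤ N 1 ⊔ B 4 := sup_le_sup le_rfl (db4 h).XB
  have key2 : ∀ a ∈ B (-2), ∀ b ∈ B 4, a * b * a⁻¹ * b⁻¹ ∈ N 1 ⊔ B 4 := by
    intro a ha b hb
    obtain ⟨t, ht, h1⟩ := free4 h (-2) (by norm_num)
    have h3 := kill' (B := B 4) (R := N 1 ⊔ B 4) (h := t) (a := a) (b4n h (-2) t ht) h1 (bm2t h t ht a ha)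
      le_sup_right (fun b hb => by
        obtain ⟨y, hy, r, hr, e⟩ := key a ha b hb
        exact brk_left e (hle hr) (tR' (-2) t ht) (h.TXc (-2) t ht y hy)) b hb
    exact mul_mem h3 (inv_mem (Subgroup.mem_sup_right hb))
  intro a ha b hb
  obtain ⟨t, ht, h1⟩ := freem2 h
  refine kill (B := B (-2)) (R := N 1) (h := t) (x := b) (bm2n h 4 t ht) h1 (b4t4 h t ht b hb)
    (bm2N h) (b4N1 h b hb) (fun a ha => ?_) a ha
  exact brk_sup (A := B 4) (b4N1 h) (h2.nT 4 t ht) (fun a ha => b4t4 h t ht a ha) (key2 a ha b hb)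

theorem tM (h : Inp2 τ X Y W T B N) (i : ℤ) : Nz (T i) (M W B) :=
  ((((tQ h i).sup' ((base2 h).bTn i)).sup' (b2n h i)).sup' (h.TW i 3))

/-- `W₄` normalises `N''` -/
theorem w4M (h : Inp2 τ X Y W T B N) : Nz (W 4) (M W B) := by
  have h1 : Cl (W 4) (M W B) (M W B) := ((base2 h).ncomm.mono (W4N h) (MN h) le_rfl).mono3 (EM W B)
  exact h1.nz le_rfl

/-- (p) `⁅B₋₂, B₄⁆ ≤ N''` -/
theorem p24 [Finite G] (h : Inp2 τ X Y W T B N) : Cl (B (-2)) (B 4) (M W B) := by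
  intro a ha b hb
  obtain ⟨t, ht, h1⟩ := freem2 h
  refine kill (B := B (-2)) (R := M W B) (h := t) (x := b) (bm2n h 4 t ht) h1 (b4t4 h t ht b hb)
    (bm2M h) (b4M h b hb) (fun a ha => ?_) a ha
  refine brk_sup (A := W 4) (w4M h) (tM h 4 t ht) (fun a ha => h.TWc 4 t ht a ha) ?_
  have h2 := o24 h a ha b hb
  rw [(base2 h).ndec] at h2
  exact h2

/-- (q) `B₄` normalises `Q'` -/
theorem q4 [Finite G] (h : Inp2 τ X Y W T B N) : Nz (B 4) (Qp W B) := by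
  have f1 : Nl (B 4) (M W B) (Qp W B) := fun a ha p hp => Subgroup.mem_sup_left (b4M h a ha p hp)
  have f2 : Nl (B 4) (B (-2)) (Qp W B) := nl_cl (p24 h).symm le_sup_left le_sup_right
  exact f1.sup f2

/-- Level 4 (m) - (q) -/
theorem main [Finite G] (h : Inp4 τ X Y W T B N) : Cl (B (-2)) (B 4) (M W B) := p24 h.toInp2

/-- levels 4: `Inp2 → Inp5` -/
theorem inp5_of [Finite G] (h : Inp2 τ X Y W T B N) : Inp5 τ X Y W T B N :=
  mk5 (mk4 h fun _ _ _ _ _ _ h => Al.main h) fun _ _ _ _ _ _ h => main h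

end Cfsg.Agent.OddHalf.D7TwF4.Growth.Mq
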