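import Cfsg.Agent.OddHalf.D7TwF4.Growth.Three

/-!
# Growth for `²F₄(q)`: the output of levels 1 - 3 (helper702; text bb ODD 13178)
-/

set_option autoImplicit false
set_option linter.unusedVariables false

namespace Cfsg.Agent.OddHalf.D7TwF4.Growth.ToTwo

open Cfsg.Agent.OddHalf.D7TwF4.Growth.Defs Cfsg.Agent.OddHalf.D7TwF4.Growth.Tools
open Cfsg.Agent.OddHalf.D7TwF4.Growth.Frame Cfsg.Agent.OddHalf.D7TwF4.Growth.Two
open Cfsg.Agent.OddHalf.D7TwF4.Growth.One Cfsg.Agent.OddHalf.D7TwF4.Growth.NOne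
open Cfsg.Agent.OddHalf.D7TwF4.Growth.Three
open Cfsg.Agent.OddHalf.D7TwF4.Growth

variable {G : Type*} [Group G] {τ : G →* G} {X Y W T : ℤ → Subgroup G}

theorem bA (h : Inp τ X Y W T) : Cm (Bp τ X Y W T) (Q2 W) := by
  have e1 : Cm (Bp τ X Y W T) (EK W) := (cNc h).mono (fun b hb => (mem_Bp.1 hb).1) le_rfl
  have e2 : Cm (Bp τ X Y W T) (EK (F 0 (-1) W)) := (cNc (neg h)).mono (fun b hb => (mem_Bp.1 (Bp_le h hb)).1) le_rfl
  have e3' := e2.mono le_rfl (y1E (F 0 (-1) W))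
  have e4' := e2.mono le_rfl (y2E (F 0 (-1) W))
  have e3 : Cm (Bp τ X Y W T) (W (-1)) := e3'
  have e4 : Cm (Bp τ X Y W T) (W (-2)) := e4'
  exact (e1.sup' e3).sup' e4

theorem bTn (h : Inp τ X Y W T) (i : ℤ) : Nz (T i) (Bp τ X Y W T) := by
  intro t ht b hb
  rw [mem_Bp] at hb ⊢
  refine ⟨nT h i t ht b hb.1, fun s hs => ?_⟩
  have h1 : t * s = s * t := h.TT i 0 t ht s hs
  exact comm_mul (comm_mul h1 (hb.2 s hs)) (comm_inv h1)

theorem free0 (h : Inp τ X Y W T) {t : G} (ht : τ t = t) (hX : ∀ x ∈ X 0, t * x * t⁻¹ = x → x = 1) :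
    ∀ b ∈ Bp τ X Y W T, t * b * t⁻¹ = b → b = 1 :=
  Hom.free h.tt (dbP h) (h.YX 0) ht hX (h.Wab 0) (h.Wsq 0)

/-- `⁅B₀, X₄⁆ = 1` -/
theorem b4 [Finite G] (h : Inp τ X Y W T) : Cm (Bp τ X Y W T) (X 4) := by
  intro b hb x hx
  have hd := dbP h
  have hx0 : ∀ y ∈ X 0, y * x = x * y := fun y hy => (base h).x04 y hy x hx
  have hw0 : ∀ w ∈ W 0, w * x = x * w := fun w hw => ((base h).x4w0 x hx w hw).symm
  -- the commutators
  have hc1 : ∀ b ∈ Bp τ X Y W T, b * x * b⁻¹ * x⁻¹ ∈ NK X Y := by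
    intro b hb
    apply (dN h).fix
    · have h1 := n4 h x hx _ (inv_mem (mem_Bp.1 hb).1)
      have e : b * x * b⁻¹ * x⁻¹ = b * (x * b⁻¹ * x⁻¹) := by group
      rw [e]; exact mul_mem (mem_Bp.1 hb).1 h1
    · obtain ⟨y, hy, w, hw, h1⟩ := hd.brk b hb
      have e1 : τ b = b * (y * w) := by rw [← h1]; group
      have e2 : y * w * x = x * (y * w) := comm_mul (hx0 y hy) (hw0 w hw)
      have e3 : τ (b * x * b⁻¹ * x⁻¹) = b * (y * w * x) * (y * w)⁻¹ * b⁻¹ * x⁻¹ := by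
        simp only [map_mul, map_inv, e1, h.tX 4 x hx]; group
      rw [e3, e2]; group
  have hc2 : ∀ b ∈ Bp τ X Y W T, b * x * b⁻¹ * x⁻¹ ∈ Q2 Y ⊔ Y 4 := by
    intro b hb
    apply (base h).kJ _ (hc1 b hb)
    intro y hy
    have h1 := hd.comm b⁻¹ (inv_mem hb) y (hd.XB hy)
    refine comm_comm_left (g := b⁻¹ * y * b⁻¹⁻¹ * y⁻¹) ?_ (hx0 y hy).symm (hw0 _ h1)
    group
  -- `Y₄` normalises `Q₂`
  have hd2 := dQ2 h
  have hx4 := x4A h
  have hn4 : Nz (Y 4) (Q2 Y) := nz_fix hd2 (fun y hy => h.tX 4 y (h.YX 4 hy)) (hx4.mono (h.YX 4))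
  have hc3 : ∀ b ∈ Bp τ X Y W T, b * x * b⁻¹ * x⁻¹ ∈ Q2 Y := by
    obtain ⟨t, ht, hfr⟩ := h.hf 4 0 (by norm_num)
    have htx : t * x = x * t := h.TXc 4 t ht x hx
    intro b hb
    apply hd2.fix
    · refine kill (B := Bp τ X Y W T) (R := Q2 W) (fun b hb => bTn h 4 t ht b hb)
        (free0 h (h.tT 4 t ht) hfr) htx (bA h).nz (fun r hr => hx4 x hx r hr) ?_ b hb
      intro b hb
      obtain ⟨q, hq, y, hy, h1⟩ := mem_sup hn4 (hc2 b hb)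
      have hty : t * y * t⁻¹ = y := by rw [h.TXc 4 t ht y (h.YX 4 hy), mul_inv_cancel_right]
      have hTQ : Nz (T 4) (Q2 Y) := by
        have y := h.TY 4
        exact ((((y 0).sup' (y 1)).sup' (y 2)).sup' (y _)).sup' (y _)
      have e1 : (q * y)⁻¹ * (t * (q * y) * t⁻¹) = y⁻¹ * (q⁻¹ * (t * q * t⁻¹)) * y⁻¹⁻¹ := by
        calc (q * y)⁻¹ * (t * (q * y) * t⁻¹) = y⁻¹ * (q⁻¹ * (t * q * t⁻¹)) * (t * y * t⁻¹) := by group
          _ = _ := by rw [hty, inv_inv]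
      rw [h1, e1]
      exact hd2.le (hn4 _ (inv_mem hy) _ (mul_mem (inv_mem hq) (hTQ t ht q hq)))
    · obtain ⟨y, hy, w, hw, h1⟩ := hd.brk b hb
      exact (dN h).fixK _ (hc1 b hb)
  refine Hom.nh h.tt (K := Q2 Y) hd ((cA h).mono hd2.le hd2.le) hc3 ((bA h).mono le_rfl hd2.le) hx0 hw0
    (T := T 4) (bTn h 4) (h.TW _ _) (fun t ht => h.TXc 4 t ht x hx) (h.TX _ _) (h.tT _) ?_ (h.YX 0) b hb
  intro f hf hm hY he
  exact (base h).nh2 f hf hm hY he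

/-- `N₁ = N'' W₄` -/
theorem ndec (h : Inp τ X Y W T) : Nc τ X Y W = M W (Bf τ X Y W T) ⊔ W 4 := by
  have hd := dbN h
  have dp := dbP h
  have hB0 : Bf τ X Y W T 0 = Bp τ X Y W T := Bf_zero h
  -- `B₂`
  have hB2 : Bf τ X Y W T 2 = Bp τ (F 1 (-1) X) (F 1 (-1) Y) (F 1 (-1) W) (F 1 (-1) T) := by
    rw [← Bf_zero (rf h 1), ← Bf_nat τ X Y W T 1 (Or.inr rfl)]
    rfl
  have dq : DB τ (Bf τ X Y W T 2) (X 2) (W 2) (Y 2) := by
    rw [hB2]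
    exact dbP (rf h 1)
  have dp' : DB τ (Bf τ X Y W T 0) (X 0) (W 0) (Y 0) := by rw [hB0]; exact dp
  have hB2N : Bf τ X Y W T 2 ≤ Nc τ X Y W := by
    rw [hB2, ← Nc_ref τ X Y W]
    exact fun b hb => (mem_Bp.1 hb).1
  have hB0N : Bf τ X Y W T 0 ≤ Nc τ X Y W := by
    rw [hB0]; exact fun b hb => (mem_Bp.1 hb).1
  obtain ⟨L, hL⟩ : ∃ L, L = M W (Bf τ X Y W T) ⊔ W 4 := ⟨_, rfl⟩
  rw [← hL]
  have l4 : W 4 ≤ L := hL ▸ le_sup_right
  have l3 : W 3 ≤ L := hL ▸ le_sup_of_le_left le_sup_right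
  have lB2 : Bf τ X Y W T 2 ≤ L := hL ▸ le_sup_of_le_left (le_sup_of_le_left le_sup_right)
  have lB0 : Bf τ X Y W T 0 ≤ L := hL ▸ le_sup_of_le_left (le_sup_of_le_left (le_sup_of_le_left le_sup_right))
  have lQ : Q2 W ≤ L := hL ▸ le_sup_of_le_left (le_sup_of_le_left (le_sup_of_le_left le_sup_left))
  have lE : EK W ≤ L := (EQ2 W).trans lQ
  have hLN : L ≤ Nc τ X Y W := by
    rw [hL]
    exact sup_le (sup_le (sup_le (sup_le (Q2N h) hB0N) hB2N) (w3N h)) (w4N h)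
  apply le_antisymm _ hLN
  -- brackets
  have hyL : ∀ i, W i ≤ L → Y i ≤ L := fun i hi => (h.YW i).trans hi
  have m1 : W (-1) ≤ L := (ym1Q2 W).trans lQ
  have m2 : W (-2) ≤ L := (ym2Q2 W).trans lQ
  have w0 : W 0 ≤ L := (y0E W).trans lE
  have w1 : W 1 ≤ L := (y1E W).trans lE
  have w2 : W 2 ≤ L := (y2E W).trans lE
  have hKL : NK X Y ≤ L :=
    sup_le (sup_le (sup_le (sup_le (sup_le (sup_le (sup_le (sup_le (hyL 0 w0) (hyL 1 w1)) (hyL 2 w2)) (hyL _ m1))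
      (hyL _ m2)) (dp'.XB.trans lB0)) (dq.XB.trans lB2)) (hyL 3 l3)) (hyL 4 l4)
  let S : Subgroup G :=
    { carrier := {m | m ∈ Nc τ X Y W ∧ ∃ l ∈ L, m⁻¹ * (l⁻¹ * τ l) ∈ EK W}
      one_mem' := ⟨one_mem _, 1, one_mem _, by simp⟩
      mul_mem' := by
        rintro a b ⟨ha, m, hm, h1⟩ ⟨hb, k, hk, h2⟩
        refine ⟨mul_mem ha hb, m * k, mul_mem hm hk, ?_⟩
        have eN := Nc_eq h
        exact brk_mul h (eN ▸ hLN hm) (eN ▸ hLN hk) (eN ▸ ha) (eN ▸ hb) h1 h2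
      inv_mem' := by
        rintro a ⟨ha, m, hm, h1⟩
        have eN := Nc_eq h
        exact ⟨inv_mem ha, m⁻¹, inv_mem hm, brk_inv h (eN ▸ hLN hm) (eN ▸ ha) h1⟩ }
  have hS : NK X Y ≤ S := by
    have hy : ∀ i, W i ≤ L → Y i ≤ S := by
      intro i hi y hy
      obtain ⟨w, hw, h1⟩ := h.Ws i y hy
      exact ⟨hLN (hi (h.YW i hy)), w, hi hw, by rw [h1, inv_mul_cancel]; exact one_mem _⟩
    have hx0 : X 0 ≤ S := by
      intro x hx
      obtain ⟨b, hb, w, hw, h1⟩ := dp'.surj x hx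
      exact ⟨hLN (lB0 (dp'.XB hx)), b, lB0 hb, by rw [h1, inv_mul_cancel_left]; exact y0E W hw⟩
    have hx2 : X 2 ≤ S := by
      intro x hx
      obtain ⟨b, hb, w, hw, h1⟩ := dq.surj x hx
      exact ⟨hLN (lB2 (dq.XB hx)), b, lB2 hb, by rw [h1, inv_mul_cancel_left]; exact y2E W hw⟩
    exact sup_le (sup_le (sup_le (sup_le (sup_le (sup_le (sup_le (sup_le (hy 0 w0) (hy 1 w1)) (hy 2 w2)) (hy _ m1))
      (hy _ m2)) hx0) hx2) (hy 3 l3)) (hy 4 l4)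
  intro n hn
  obtain ⟨m, hm, e, he, h1⟩ := hd.brk n hn
  obtain ⟨-, l, hl, h2⟩ := hS hm
  obtain ⟨f, hf⟩ : ∃ f, f = m⁻¹ * (l⁻¹ * τ l) := ⟨_, rfl⟩
  rw [← hf] at h2
  have e1 : τ n = n * (m * e) := by rw [← h1]; group
  have e2 : τ l = l * (m * f) := by rw [hf]; group
  have h3 : (n * l⁻¹)⁻¹ * τ (n * l⁻¹) ∈ EK W := by
    have e3 : (n * l⁻¹)⁻¹ * τ (n * l⁻¹) = (l * m) * (e * f⁻¹) * (l * m)⁻¹ := by
      rw [map_mul, map_inv, e1, e2]; group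
    rw [e3]
    exact (cNc h).nz _ (mul_mem (hLN hl) (hd.XB hm)) _ (mul_mem he (inv_mem h2))
  obtain ⟨x, hx, w, hw, h4⟩ := hd.mem_of_brk h.tt (mul_mem hn (inv_mem (hLN hl))) h3
  have e5 : n = x * w * l := by rw [← h4]; group
  rw [e5]
  exact mul_mem (mul_mem (hKL hx) (lE hw)) hl

/-- The facts of levels 1 - 3 in the standard position. -/
theorem base2_of [Finite G] (h : Inp τ X Y W T) : Base2 τ X Y W T (Bf τ X Y W T) (Nf τ X Y W) where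
  o4 := o4 h
  nE := by rw [Nf_one]; exact cNc h
  ncomm := by rw [Nf_one]; exact (dbN h).comm
  nsq := by rw [Nf_one]; exact (dbN h).sq
  ndbl := by rw [Nf_one]; exact dN h
  nA := by rw [Nf_one]; exact Q2N h
  n5 := by rw [Nf_one]; exact n5 h
  n4 := by rw [Nf_one]; exact n4 h
  nT i := by rw [Nf_one]; exact nT h i
  nB := by rw [Nf_one, Bf_zero h]; exact fun b hb => (mem_Bp.1 hb).1
  ndec := by rw [Nf_one]; exact ndec h
  db := by rw [Bf_zero h]; exact dbP h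
  bA := by rw [Bf_zero h]; exact bA h
  b4 := by rw [Bf_zero h]; exact b4 h
  bT := by
    rw [Bf_zero h]
    exact fun t ht b hb => ((mem_Bp.1 hb).2 t ht).symm
  bTn i := by rw [Bf_zero h]; exact bTn h i

/-- The output of levels 1 - 3. -/
theorem main [Finite G] (h : Inp τ X Y W T) : Inp2 τ X Y W T (Bf τ X Y W T) (Nf τ X Y W) where
  toInp := h
  fr2 c e he := by
    rw [Nf_nat τ X Y W c he, Bf_nat τ X Y W T c he]
    exact base2_of (inp h c he)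

end Cfsg.Agent.OddHalf.D7TwF4.Growth.ToTwo
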