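import Cfsg.Agent.OddHalf.D7TwF4.Growth.FiveA
import Cfsg.Agent.OddHalf.D7TwF4.Growth.FiveB
import Cfsg.Agent.OddHalf.D7TwF4.Growth.Mq
import Cfsg.Agent.OddHalf.D7TwF4.Growth.ToTwo
import Cfsg.Agent.OddHalf.D7TwF4.Growth.End

/-!
# Growth for `²F₄(q)`: level 5 and the whole growth (helper570)

* `main : Inp5 → Dbl τ U* U`;
* `of_inp : Inp τ X Y W T → ∃ R, Dbl τ R U`.
-/

set_option autoImplicit false

namespace Cfsg.Agent.OddHalf.D7TwF4.Growth.LevelFive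

open Cfsg.Agent.OddHalf.D7TwF4.Growth.Defs Cfsg.Agent.OddHalf.D7TwF4.Growth.Tools
open Cfsg.Agent.OddHalf.D7TwF4.Growth.Frame Cfsg.Agent.OddHalf.D7TwF4.Growth.Two
open Cfsg.Agent.OddHalf.D7TwF4.Growth.Inp Cfsg.Agent.OddHalf.D7TwF4.Growth.FiveB
open Cfsg.Agent.OddHalf.D7TwF4.Growth.FiveDef

variable {G : Type*} [Group G] {τ : G →* G} {X Y W T B N : ℤ → Subgroup G}

theorem fiveIn (h : Base5A τ X Y W T B N) : FiveIn X Y W B := ⟨h.s3, h.r2, h.r4⟩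

/-- **Level 5.** -/
theorem main [Finite G] (h : Inp5 τ X Y W T B N) : Dbl τ (Us W B) (U X Y) := by
  have a : Two5 X Y W B := ⟨fiveIn (FiveA.base5A h), fiveIn (FiveA.base5A (inp5 h 0 (Or.inr rfl)))⟩
  exact End.dblUs h.toInp2 (dQ h) (u h a.l) (q h) (lz h a).symm

/-- **The growth**: `t` acts freely on a group whose fixed points are `U = X₋₃ ⋯ X₄`. -/
theorem of_inp [Finite G] (h : Inp τ X Y W T) : ∃ R : Subgroup G, Dbl τ R (U X Y) :=
  ⟨_, main (Mq.inp5_of (ToTwo.main h))⟩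

end Cfsg.Agent.OddHalf.D7TwF4.Growth.LevelFive
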