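import Cfsg.Agent.OddHalf.D7TwF4.Growth.AlBase

/-!
# Growth for `²F₄(q)`, level 4 (a) - (l) (helper180; text `blueprints/ODD-D7-2F4-growth-helper702.md`)

`main : Inp2 τ X Y W T B N → Base4 τ X Y W T B N`: the relations of `B 4` with `W₋₂ ⋯ W₃`, `B₀`, `B₂`.
-/

set_option autoImplicit false
set_option linter.unusedVariables false

namespace Cfsg.Agent.OddHalf.D7TwF4.Growth.Al

open Cfsg.Agent.OddHalf.D7TwF4.Growth.Defs Cfsg.Agent.OddHalf.D7TwF4.Growth.Tools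
open Cfsg.Agent.OddHalf.D7TwF4.Growth.Frame Cfsg.Agent.OddHalf.D7TwF4.Growth.Two
open Cfsg.Agent.OddHalf.D7TwF4.Growth.Inp Cfsg.Agent.OddHalf.D7TwF4.Growth.AlBase

variable {G : Type*} [Group G]

section Incl

variable (K : ℤ → Subgroup G)

theorem e0 : K 0 ≤ EK K := le_sup_left.trans le_sup_left
theorem e1 : K 1 ≤ EK K := le_sup_right.trans le_sup_left
theorem e2 : K 2 ≤ EK K := le_sup_right
theorem er : EK K ≤ RK K := le_sup_left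
theorem r1 : K (-1) ≤ RK K := le_sup_right
theorem rq : RK K ≤ Q2 K := le_sup_left
theorem q2 : K (-2) ≤ Q2 K := le_sup_right

end Incl

theorem nbot (a : G) : a ∈ Subgroup.normalizer ((⊥ : Subgroup G) : Set G) :=
  Subgroup.mem_normalizer_iff.2 fun r => by
    rw [Subgroup.mem_bot, Subgroup.mem_bot]
    constructor
    · rintro rfl; group
    · intro h
      have : a⁻¹ * (a * r * a⁻¹) * a = 1 := by rw [h]; group
      rw [← this]; group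

theorem cbot {a b : G} (h : a * b = b * a) : a * b * a⁻¹ * b⁻¹ ∈ (⊥ : Subgroup G) := by
  rw [Subgroup.mem_bot, h]; group

theorem cinv {C : Subgroup G} {a b : G} (h : a * b * a⁻¹ * b⁻¹ ∈ C) : b * a * b⁻¹ * a⁻¹ ∈ C := by
  have := C.inv_mem h
  have e : (a * b * a⁻¹ * b⁻¹)⁻¹ = b * a * b⁻¹ * a⁻¹ := by group
  rwa [e] at this

theorem eq_of_c {a b : G} (h : a * b * a⁻¹ * b⁻¹ = 1) : a * b = b * a := by
  calc a * b = (a * b * a⁻¹ * b⁻¹) * (b * a) := by group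
    _ = b * a := by rw [h, one_mul]

theorem cmul {X Y Z : Subgroup G} (h1 : Cm X Z) (h2 : Cm Y Z) {x y z : G} (hx : x ∈ X) (hy : y ∈ Y) (hz : z ∈ Z) :
    (x * y) * z = z * (x * y) := comm_mul (h1 x hx z hz) (h2 y hy z hz)

variable {τ : G →* G} {X Y W T B N : ℤ → Subgroup G}

/-! ### frames -/

theorem b4N (h : Inp2 τ X Y W T B N) : B 4 ≤ N 3 := (base2 (rf2 h 2)).nB
theorem b2N (h : Inp2 τ X Y W T B N) : B 2 ≤ N 3 := (base2 (sh2 h 1)).nB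
theorem wN (h : Inp2 τ X Y W T B N) : Q2 (F 1 1 W) ≤ N 3 := (base2 (sh2 h 1)).nA
theorem w0N (h : Inp2 τ X Y W T B N) : W 0 ≤ N 3 := (q2 (F 1 1 W)).trans (wN h)
theorem w1N (h : Inp2 τ X Y W T B N) : W 1 ≤ N 3 := ((r1 (F 1 1 W)).trans (rq _)).trans (wN h)
theorem ncomm3 (h : Inp2 τ X Y W T B N) : Cl (N 3) (N 3) (EK (F 1 1 W)) := (base2 (sh2 h 1)).ncomm
theorem nE3 (h : Inp2 τ X Y W T B N) : Cm (N 3) (EK (F 1 1 W)) := (base2 (sh2 h 1)).nE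
theorem b4A (h : Inp2 τ X Y W T B N) : Cm (B 4) (Q2 (F 2 (-1) W)) := (base2 (rf2 h 2)).bA
/-- `W 2 ≤ Q2` in the frame `k ↦ 4 - k` -/
theorem rq2 (K : ℤ → Subgroup G) : K 2 ≤ Q2 (F 2 (-1) K) := by
  have e : F 2 (-1) K 2 = K 2 := by show K (2 * 2 + (-1) * 2) = _; congr 1
  have h1 := ((e2 (F 2 (-1) K)).trans (er _)).trans (rq _)
  rwa [e] at h1
theorem rq3 (K : ℤ → Subgroup G) : K 3 ≤ Q2 (F 2 (-1) K) := by
  have e : F 2 (-1) K 1 = K 3 := by show K (2 * 2 + (-1) * 1) = _; congr 1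
  have h1 := ((e1 (F 2 (-1) K)).trans (er _)).trans (rq _)
  rwa [e] at h1
theorem rq4 (K : ℤ → Subgroup G) : K 4 ≤ Q2 (F 2 (-1) K) := by
  have e : F 2 (-1) K 0 = K 4 := by show K (2 * 2 + (-1) * 0) = _; congr 1
  have h1 := ((e0 (F 2 (-1) K)).trans (er _)).trans (rq _)
  rwa [e] at h1
theorem b4w2 (h : Inp2 τ X Y W T B N) : Cm (B 4) (W 2) := (b4A h).mono le_rfl (rq2 W)
theorem b4w3 (h : Inp2 τ X Y W T B N) : Cm (B 4) (W 3) := (b4A h).mono le_rfl (rq3 W)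
theorem b4w4 (h : Inp2 τ X Y W T B N) : Cm (B 4) (W 4) := (b4A h).mono le_rfl (rq4 W)
theorem b4x0 (h : Inp2 τ X Y W T B N) : Cm (B 4) (X 0) := (base2 (rf2 h 2)).b4
theorem b4t4 (h : Inp2 τ X Y W T B N) : Cm (T 4) (B 4) := (base2 (rf2 h 2)).bT
theorem b2t2 (h : Inp2 τ X Y W T B N) : Cm (T 2) (B 2) := (base2 (sh2 h 1)).bT
theorem db4 (h : Inp2 τ X Y W T B N) : DB τ (B 4) (X 4) (W 4) (Y 4) := (base2 (rf2 h 2)).db
theorem db2 (h : Inp2 τ X Y W T B N) : DB τ (B 2) (X 2) (W 2) (Y 2) := (base2 (sh2 h 1)).db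
theorem b4n (h : Inp2 τ X Y W T B N) (i : ℤ) : Nz (T i) (B 4) := by
  have h1 := (base2 (rf2 h 2)).bTn (4 - i)
  have e : F 2 (-1) T (4 - i) = T i := by
    show T (2 * 2 + (-1) * (4 - i)) = T i
    congr 1; ring
  rwa [e] at h1
theorem b2n (h : Inp2 τ X Y W T B N) (i : ℤ) : Nz (T i) (B 2) := by
  have h1 := (base2 (sh2 h 1)).bTn (i - 2)
  have e : F 1 1 T (i - 2) = T i := by
    show T (2 * 1 + 1 * (i - 2)) = T i
    congr 1; ring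
  rwa [e] at h1
/-- `W₋₁` centralises `X 3` -/
theorem m1x3 (h : Inp2 τ X Y W T B N) : Cm (W (-1)) (X 3) := by
  have h1 := (base2 (rf2 h 1)).o4
  have e0 : F 1 (-1) W 3 = W (-1) := by show W (2 * 1 + (-1) * 3) = _; congr 1
  have e1 : F 1 (-1) X (-1) = X 3 := by show X (2 * 1 + (-1) * (-1)) = _; congr 1
  rwa [e0, e1] at h1

theorem freeX (h : Inp2 τ X Y W T B N) {i : ℤ} (j : ℤ) (hi : ¬ (8 : ℤ) ∣ j - i) :
    ∃ t ∈ T i, ∀ x ∈ X j, t * x * t⁻¹ = x → x = 1 := h.hf i j hi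

theorem freeW (h : Inp2 τ X Y W T B N) {i : ℤ} (j : ℤ) (hi : ¬ (8 : ℤ) ∣ j - i) :
    ∃ t ∈ T i, ∀ x ∈ W j, t * x * t⁻¹ = x → x = 1 := by
  obtain ⟨t, ht, h1⟩ := h.hf i j hi
  exact ⟨t, ht, free_W h.toGen (h.tT i t ht) h1⟩

theorem free4 [Finite G] (h : Inp2 τ X Y W T B N) (i : ℤ) (hi : ¬ (8 : ℤ) ∣ 4 - i) :
    ∃ t ∈ T i, ∀ x ∈ B 4, t * x * t⁻¹ = x → x = 1 := by
  obtain ⟨t, ht, h1⟩ := h.hf i 4 hi
  exact ⟨t, ht, free_B h.toGen (j := 4) (db4 h) (h.tT i t ht) (h.TX i 4 t ht) (h.TY i 4 t ht) (h.TW i 4 t ht) h1⟩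

theorem free2 [Finite G] (h : Inp2 τ X Y W T B N) (i : ℤ) (hi : ¬ (8 : ℤ) ∣ 2 - i) :
    ∃ t ∈ T i, ∀ x ∈ B 2, t * x * t⁻¹ = x → x = 1 := by
  obtain ⟨t, ht, h1⟩ := h.hf i 2 hi
  exact ⟨t, ht, free_B h.toGen (j := 2) (db2 h) (h.tT i t ht) (h.TX i 2 t ht) (h.TY i 2 t ht) (h.TW i 2 t ht) h1⟩

theorem brkW (h : Inp2 τ X Y W T B N) {j : ℤ} {w : G} (hw : w ∈ W j) : w⁻¹ * τ w ∈ Y j :=
  brk_mem h.tt (h.Wab j) (h.Wsq j) (h.Wt j) (h.Wf j) hw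

theorem x04 (h : Inp2 τ X Y W T B N) : Cm (X 0) (X 4) := (base h.toInp).x04

/-! ### (a) `⁅W₀, B₄⁆ = 1` -/

theorem w0b' (h : Inp2 τ X Y W T B N) {w x u : G} (hw : w ∈ W 0) (hx : x ∈ X 4) (hu : u ∈ W 4) :
    (x * u) * w = w * (x * u) := cmul (x40 h.toInp) (c04 h.toInp).symm hx hu hw

theorem a_fix (h : Inp2 τ X Y W T B N) {w b : G} (hw : w ∈ W 0) (hb : b ∈ B 4) :
    τ (w * b * w⁻¹ * b⁻¹) = w * b * w⁻¹ * b⁻¹ := by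
  obtain ⟨x, hx, u, hu, e⟩ := (db4 h).brk b hb
  have hw' : w⁻¹ * τ w ∈ Y 0 := brkW h hw
  have hwX : w⁻¹ * τ w ∈ X 0 := h.YX 0 hw'
  have hwW : w⁻¹ * τ w ∈ W 0 := h.YW 0 hw'
  have h1 := tau_comm (τ := τ) (R := ⊥) (a := w) (b := b) (a' := w⁻¹ * τ w) (b' := x * u)
    (by group) (by rw [← e]; group) (nbot w) (nbot b) (cbot (b4x0 h b hb _ hwX).symm)
    (cbot (w0b' h hw hx hu).symm) (cbot (w0b' h hwW hx hu).symm)
  rw [Subgroup.mem_bot] at h1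
  exact (inv_mul_eq_one.1 h1).symm

theorem a_mem (h : Inp2 τ X Y W T B N) {w b : G} (hw : w ∈ W 0) (hb : b ∈ B 4) :
    w * b * w⁻¹ * b⁻¹ ∈ Y 2 ⊔ Y 4 := by
  have hc : w * b * w⁻¹ * b⁻¹ ∈ EK (F 1 1 W) := ncomm3 h w (w0N h hw) b (b4N h hb)
  have hc2 : w * b * w⁻¹ * b⁻¹ ∈ EK (F 1 1 Y) := (dE (sh h.toInp 1)).fix _ hc (a_fix h hw hb)
  exact (base (sh h.toInp 1)).ka _ hc2 fun x hx =>
    comm_comm ((x00 h.toInp) x hx w hw).symm (b4x0 h b hb x hx)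

theorem a_W2 [Finite G] (h : Inp2 τ X Y W T B N) {b : G} (hb : b ∈ B 4) :
    ∀ w ∈ W 0, w * b * w⁻¹ * b⁻¹ ∈ W 2 := by
  obtain ⟨t, ht, h1⟩ := freeW h (i := 4) 0 (by norm_num)
  refine kill (B := W 0) (R := W 2) (h := t) (x := b) (h.TW 4 0 t ht) h1 (b4t4 h t ht b hb) (c02 h.toInp).nz
    ((b4w2 h).nz b hb) fun w hw => ?_
  refine brk_sup (A := W 4) (c24 h.toInp).symm.nz (h.TW 4 2 t ht) (fun a ha => h.TWc 4 t ht a ha) ?_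
  exact sup_le_sup (h.YW 2) (h.YW 4) (a_mem h hw hb)

theorem a_Y2 [Finite G] (h : Inp2 τ X Y W T B N) {w b : G} (hw : w ∈ W 0) (hb : b ∈ B 4) :
    w * b * w⁻¹ * b⁻¹ ∈ Y 2 := h.Wf 2 _ (a_W2 h hb w hw) (a_fix h hw hb)

theorem comm_hom {a b b' : G} (h : a * b' * a⁻¹ * b'⁻¹ * b = b * (a * b' * a⁻¹ * b'⁻¹)) :
    a * (b * b') * a⁻¹ * (b * b')⁻¹ = (a * b * a⁻¹ * b⁻¹) * (a * b' * a⁻¹ * b'⁻¹) := by
  calc a * (b * b') * a⁻¹ * (b * b')⁻¹ = (a * b * a⁻¹ * b⁻¹) * (b * (a * b' * a⁻¹ * b'⁻¹)) * b⁻¹ := by group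
    _ = _ := by rw [← h]; group

theorem comm_eqv {a b t : G} (h : t * a = a * t) :
    a * (t * b * t⁻¹) * a⁻¹ * (t * b * t⁻¹)⁻¹ = t * (a * b * a⁻¹ * b⁻¹) * t⁻¹ := by
  have e : t * a * t⁻¹ = a := by rw [h, mul_inv_cancel_right]
  calc a * (t * b * t⁻¹) * a⁻¹ * (t * b * t⁻¹)⁻¹ =
      a * (t * b * t⁻¹) * a⁻¹ * (t * b⁻¹ * t⁻¹) := by group
    _ = (t * a * t⁻¹) * (t * b * t⁻¹) * (t * a * t⁻¹)⁻¹ * (t * b⁻¹ * t⁻¹) := by rw [e]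
    _ = _ := by group

/-- the weight argument for maps `B 4 → Y 2 ⊔ Y 4`, `b ↦ ⁅a, b⁆` -/
theorem wt4 (h : Inp2 τ X Y W T B N) {a : G} (hT : ∀ t ∈ T 0, t * a = a * t)
    (hc : ∀ b ∈ B 4, a * b * a⁻¹ * b⁻¹ ∈ Y 2 ⊔ Y 4) (hX : ∀ x ∈ X 4, a * x = x * a)
    (hW : ∀ w ∈ W 4, a * w = w * a) : ∀ b ∈ B 4, a * b = b * a := by
  intro b hb
  apply eq_of_c
  have hZ : Y 2 ⊔ Y 4 ≤ Q2 (F 2 (-1) Y) := sup_le (rq2 Y) (rq4 Y)
  have hYc : Cm (B 4) (Y 2 ⊔ Y 4) := ((b4w2 h).mono le_rfl (h.YW 2)).sup' ((b4w4 h).mono le_rfl (h.YW 4))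
  refine hom_DB (τ := τ) h.tt (T' := T 0) (Z := Q2 (F 2 (-1) Y)) (db4 h) (h.YX 4) (h.Ws 4) (h.tT 0) (h.TX 0 4)
    (h.TW 0 4) (b4n h 0) (base (rf h.toInp 2)).nh2 (fun b => a * b * a⁻¹ * b⁻¹) (fun b hb => hZ (hc b hb)) ?_ ?_ ?_ ?_
    b hb
  · intro b hb b' hb'
    exact comm_hom (hYc b hb _ (hc b' hb')).symm
  · intro x hx
    show a * x * a⁻¹ * x⁻¹ = 1
    rw [hX x hx]; group
  · intro x hx
    show a * x * a⁻¹ * x⁻¹ = 1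
    rw [hW x hx]; group
  · intro t ht b hb
    exact comm_eqv (hT t ht)

/-- (a) -/
theorem r04 [Finite G] (h : Inp2 τ X Y W T B N) : Cm (W 0) (B 4) := by
  intro w hw
  exact wt4 h (fun t ht => h.TWc 0 t ht w hw) (fun b hb => Subgroup.mem_sup_left (a_Y2 h hw hb))
    (fun x hx => ((x40 h.toInp) x hx w hw).symm) (fun x hx => (c04 h.toInp) w hw x hx)

/-! ### (b) -/

/-- `⁅x u, w⁆` -/
theorem cl_XW {R A P Q : Subgroup G} (h1 : Cl P A R) (h2 : Cl Q A R) (hX : Nz P R) {x u a : G} (hx : x ∈ P)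
    (hu : u ∈ Q) (ha : a ∈ A) : (x * u) * a * (x * u)⁻¹ * a⁻¹ ∈ R :=
  cl_mul (h2 u hu a ha) (h1 x hx a ha) (hX x hx)

theorem b_brk (h : Inp2 τ X Y W T B N) {w b t : G} (hw : w ∈ W 1) (hb : b ∈ B 4)
    (hwb : b * (w⁻¹ * τ w) * b⁻¹ * (w⁻¹ * τ w)⁻¹ ∈ W 2) (ht : t ∈ T 4) :
    (w * b * w⁻¹ * b⁻¹)⁻¹ * (t * (w * b * w⁻¹ * b⁻¹) * t⁻¹) ∈ W 2 := by
  obtain ⟨x, hx, u, hu, e⟩ := (db4 h).brk b hb
  have hw' : w⁻¹ * τ w ∈ Y 1 := brkW h hw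
  have hwW : w⁻¹ * τ w ∈ W 1 := h.YW 1 hw'
  have hXn : Nz (X 4) (W 2) := (x42 h.toInp).nz
  have k : ∀ v ∈ W 1, (x * u) * v * (x * u)⁻¹ * v⁻¹ ∈ W 2 := fun v hv =>
    cl_XW (x41 h.toInp).symm ((c14 h.toInp).symm.cl _) hXn hx hu hv
  have h1 := tau_comm (τ := τ) (R := W 2) (a := w) (b := b) (a' := w⁻¹ * τ w) (b' := x * u)
    (by group) (by rw [← e]; group) ((c12 h.toInp).nz.le hw) ((b4w2 h).nz.le hb) (cinv hwb)
    (cinv (k w hw)) (cinv (k _ hwW))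
  obtain ⟨r, hr, h2⟩ := (dW h.toGen 2).exists_fix h.tt h1
  have hc : w * b * w⁻¹ * b⁻¹ ∈ EK (F 1 1 W) := ncomm3 h w (w1N h hw) b (b4N h hb)
  have hrE : r ∈ EK (F 1 1 W) := e0 (F 1 1 W) hr
  have hcr : w * b * w⁻¹ * b⁻¹ * r ∈ EK (F 1 1 Y) := (dE (sh h.toInp 1)).fix _ (mul_mem hc hrE) h2
  have hcr2 : w * b * w⁻¹ * b⁻¹ * r ∈ Y 2 ⊔ Y 4 :=
    (base (sh h.toInp 1)).ka _ hcr fun y hy =>
      comm_mul (comm_comm ((x01 h.toInp) y hy w hw).symm (b4x0 h b hb y hy)) ((x02 h.toInp) y hy r hr).symm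
  refine brk_sup (A := W 4) (c24 h.toInp).symm.nz (h.TW 4 2 t ht) (fun a ha => h.TWc 4 t ht a ha) ?_
  have h3 : w * b * w⁻¹ * b⁻¹ * r ∈ W 2 ⊔ W 4 := sup_le_sup (h.YW 2) (h.YW 4) hcr2
  exact ((W 2 ⊔ W 4).mul_mem_cancel_right (Subgroup.mem_sup_left hr)).1 h3

/-- `⁅X₁, B₄⁆ ≤ W₂` -/
theorem b1 [Finite G] (h : Inp2 τ X Y W T B N) {b : G} (hb : b ∈ B 4) : ∀ x ∈ X 1, x * b * x⁻¹ * b⁻¹ ∈ W 2 := by
  obtain ⟨t, ht, h1⟩ := freeX h (i := 4) 1 (by norm_num)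
  refine kill (B := X 1) (R := W 2) (h := t) (x := b) (h.TX 4 1 t ht) h1 (b4t4 h t ht b hb)
    ((c12 h.toInp).nz.mono (x1W h.toInp)) ((b4w2 h).nz b hb) fun w hw => ?_
  refine b_brk h (x1W h.toInp hw) hb ?_ ht
  have e : w⁻¹ * τ w = 1 := by rw [h.tX 1 w hw, inv_mul_cancel]
  rw [e]
  have : b * 1 * b⁻¹ * 1⁻¹ = (1 : G) := by group
  rw [this]; exact one_mem _

/-- `⁅W₁, B₄⁆ ≤ W₂` -/
theorem r14 [Finite G] (h : Inp2 τ X Y W T B N) : Cl (W 1) (B 4) (W 2) := by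
  intro w hw b hb
  obtain ⟨t, ht, h1⟩ := freeW h (i := 4) 1 (by norm_num)
  refine kill (B := W 1) (R := W 2) (h := t) (x := b) (h.TW 4 1 t ht) h1 (b4t4 h t ht b hb)
    ((c12 h.toInp).nz) ((b4w2 h).nz b hb) (fun w hw => ?_) w hw
  refine b_brk h hw hb ?_ ht
  exact cinv (b1 h hb _ (h.YX 1 (brkW h hw)))

/-- `⁅B₂, B₄⁆ ≤ W₃` -/
theorem s24 [Finite G] (h : Inp2 τ X Y W T B N) : Cl (B 2) (B 4) (W 3) := by
  have hE : ∀ b ∈ B 2, ∀ c ∈ B 4, b * c * b⁻¹ * c⁻¹ ∈ (W 2 ⊔ W 3) ⊔ W 4 := fun b hb c hc =>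
    ncomm3 h b (b2N h hb) c (b4N h hc)
  have hle : W 2 ⊔ W 3 ≤ EK (F 1 1 W) := le_sup_left
  have h2E : Cm (B 2) (EK (F 1 1 W)) := (nE3 h).mono (b2N h) le_rfl
  have h4E : Cm (B 4) (EK (F 1 1 W)) := (nE3 h).mono (b4N h) le_rfl
  have h23 : ∀ b ∈ B 2, ∀ c ∈ B 4, b * c * b⁻¹ * c⁻¹ ∈ W 2 ⊔ W 3 := by
    intro b hb c hc
    obtain ⟨t, ht, h1⟩ := free2 h 4 (by norm_num)
    refine kill (B := B 2) (R := W 2 ⊔ W 3) (h := t) (x := c) (b2n h 4 t ht) h1 (b4t4 h t ht c hc)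
      (h2E.mono le_rfl hle).nz ((h4E.mono le_rfl hle).nz c hc) (fun w hw => ?_) b hb
    exact brk_sup (A := W 4) ((c24 h.toInp).symm.nz.sup' (c34 h.toInp).symm.nz)
      (((h.TW 4 2).sup' (h.TW 4 3)) t ht) (fun a ha => h.TWc 4 t ht a ha) (hE w hw c hc)
  intro b hb c hc
  apply cinv
  obtain ⟨t, ht, h1⟩ := free4 h 2 (by norm_num)
  refine kill (B := B 4) (R := W 3) (h := t) (x := b) (b4n h 2 t ht) h1 (b2t2 h t ht b hb)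
    (b4w3 h).nz (((h2E.mono le_rfl (le_sup_right.trans hle)).nz) b hb) (fun w hw => ?_) c hc
  refine brk_sup (A := W 2) (c23 h.toInp).nz (h.TW 2 3 t ht) (fun a ha => h.TWc 2 t ht a ha) ?_
  rw [sup_comm]
  exact cinv (h23 b hb w hw)

/-! ### (c) `⁅B₀, B₄⁆ = 1` -/

theorem b0A (h : Inp2 τ X Y W T B N) : Cm (B 0) (Q2 W) := (base2 h).bA
theorem db0 (h : Inp2 τ X Y W T B N) : DB τ (B 0) (X 0) (W 0) (Y 0) := (base2 h).db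
theorem b0w0 (h : Inp2 τ X Y W T B N) : Cm (B 0) (W 0) :=
  (b0A h).mono le_rfl (((e0 W).trans (er _)).trans (rq _))
theorem b0w2 (h : Inp2 τ X Y W T B N) : Cm (B 0) (W 2) :=
  (b0A h).mono le_rfl (((e2 W).trans (er _)).trans (rq _))
theorem b0x4 (h : Inp2 τ X Y W T B N) : Cm (B 0) (X 4) := (base2 h).b4
theorem b0t0 (h : Inp2 τ X Y W T B N) : Cm (T 0) (B 0) := (base2 h).bT
/-- (a) in the frame `k ↦ 4 - k` -/
theorem b0w4 [Finite G] (h : Inp2 τ X Y W T B N) : Cm (B 0) (W 4) := by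
  have h1 := (r04 (rf2 h 2)).symm
  have e0 : F 2 (-1) B 4 = B 0 := by show B (2 * 2 + (-1) * 4) = _; congr 1
  have e1 : F 2 (-1) W 0 = W 4 := by show W (2 * 2 + (-1) * 0) = _; congr 1
  rwa [e0, e1] at h1

theorem c_fix [Finite G] (h : Inp2 τ X Y W T B N) {a b : G} (ha : a ∈ B 0) (hb : b ∈ B 4) :
    τ (a * b * a⁻¹ * b⁻¹) = a * b * a⁻¹ * b⁻¹ := by
  obtain ⟨x, hx, u, hu, e⟩ := (db4 h).brk b hb
  obtain ⟨y, hy, v, hv, f⟩ := (db0 h).brk a ha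
  have k1 : ∀ c ∈ B 0, c * (x * u) = (x * u) * c := fun c hc =>
    (comm_mul (b0x4 h c hc x hx).symm (b0w4 h c hc u hu).symm).symm
  have k2 : (y * v) * b = b * (y * v) := comm_mul (b4x0 h b hb y hy).symm (r04 h v hv b hb)
  have hyv : y * v ∈ B 0 := mul_mem ((db0 h).XB hy) ((db0 h).WB hv)
  have h1 := tau_comm (τ := τ) (R := ⊥) (a := a) (b := b) (a' := y * v) (b' := x * u)
    (by rw [← f]; group) (by rw [← e]; group) (nbot _) (nbot b) (cbot k2)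
    (cbot (k1 a ha)) (cbot (k1 _ hyv))
  rw [Subgroup.mem_bot] at h1
  exact (inv_mul_eq_one.1 h1).symm

theorem conj_eq (y a : G) : y * a * y⁻¹ = a * (a⁻¹ * y * a * y⁻¹) := by group

theorem c_mem [Finite G] (h : Inp2 τ X Y W T B N) {a b : G} (ha : a ∈ B 0) (hb : b ∈ B 4) :
    a * b * a⁻¹ * b⁻¹ ∈ Y 0 ⊔ Y 2 ⊔ Y 4 := by
  refine (base h.toInp).k6b _ (c_fix h ha hb) (fun w hw => comm_comm (b0w0 h a ha w hw) ((r04 h) w hw b hb).symm)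
    (fun y hy => ?_) fun y hy => ?_
  · refine comm_comm_left (conj_eq y a) (b4x0 h b hb y hy) ?_
    have h1 : a⁻¹ * y * a * y⁻¹ ∈ W 0 := by
      have := (db0 h).comm a⁻¹ (inv_mem ha) y ((db0 h).XB hy)
      rwa [inv_inv] at this
    exact (r04 h) _ h1 b hb
  · refine comm_comm_right (conj_eq y b) (b0x4 h a ha y hy) ?_
    have h1 : b⁻¹ * y * b * y⁻¹ ∈ W 4 := by
      have := (db4 h).comm b⁻¹ (inv_mem hb) y ((db4 h).XB hy)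
      rwa [inv_inv] at this
    exact (b0w4 h a ha _ h1).symm

/-- (c) -/
theorem s04 [Finite G] (h : Inp2 τ X Y W T B N) : Cm (B 0) (B 4) := by
  intro a ha
  refine wt4 h (fun t ht => b0t0 h t ht a ha) (fun b hb => ?_) (fun x hx => b0x4 h a ha x hx)
    (fun x hx => b0w4 h a ha x hx)
  apply cinv
  obtain ⟨t, ht, h1⟩ := free4 h 0 (by norm_num)
  have hn4 : Cm (B 4) (Y 2 ⊔ Y 4) := ((b4w2 h).mono le_rfl (h.YW 2)).sup' ((b4w4 h).mono le_rfl (h.YW 4))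
  have hn0 : Cm (B 0) (Y 2 ⊔ Y 4) := ((b0w2 h).mono le_rfl (h.YW 2)).sup' ((b0w4 h).mono le_rfl (h.YW 4))
  refine kill (B := B 4) (R := Y 2 ⊔ Y 4) (h := t) (x := a) (b4n h 0 t ht) h1 (b0t0 h t ht a ha)
    hn4.nz (hn0.nz a ha) (fun w hw => ?_) b hb
  refine brk_sup (A := Y 0) ?_ ?_ (fun a ha => h.TWc 0 t ht a (h.YW 0 ha)) ?_
  · exact (((c02 h.toInp).mono (h.YW 0) (h.YW 2)).sup' ((c04 h.toInp).mono (h.YW 0) (h.YW 4))).nz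
  · exact ((h.TY 0 2).sup' (h.TY 0 4)) t ht
  · have e : Y 2 ⊔ Y 4 ⊔ Y 0 = Y 0 ⊔ Y 2 ⊔ Y 4 := by rw [sup_comm, sup_assoc]
    rw [e]
    exact cinv (c_mem h ha hw)

/-! ### (d) - (g) `⁅W₋₁, B₄⁆ ≤ E₁` -/

/-- `X₄` normalises `E₁` -/
theorem x4E (h : Inp2 τ X Y W T B N) : Nz (X 4) (EK W) :=
  ((Cl.nz' (A := X 4) (B := W 1) (S := W 2) ((x41 h.toInp).symm.mono3 le_sup_right) (x42 h.toInp).nz).sup'
    (x40 h.toInp).nz) |> fun h1 => by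
      have e : (W 1 ⊔ W 2) ⊔ W 0 = EK W := by
        show (W 1 ⊔ W 2) ⊔ W 0 = W 0 ⊔ W 1 ⊔ W 2
        rw [sup_comm, sup_assoc]
      rwa [e] at h1

/-- `B₄` normalises `E₁` -/
theorem b4E [Finite G] (h : Inp2 τ X Y W T B N) : Nz (B 4) (EK W) :=
  ((Cl.nz' (A := B 4) (B := W 1) (S := W 2) ((r14 h).symm.mono3 le_sup_right) (b4w2 h).nz).sup'
    (r04 h).symm.nz) |> fun h1 => by
      have e : (W 1 ⊔ W 2) ⊔ W 0 = EK W := by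
        show (W 1 ⊔ W 2) ⊔ W 0 = W 0 ⊔ W 1 ⊔ W 2
        rw [sup_comm, sup_assoc]
      rwa [e] at h1

theorem tE (h : Inp2 τ X Y W T B N) (i : ℤ) : Nz (T i) (EK W) := ((h.TW i 0).sup' (h.TW i 1)).sup' (h.TW i 2)
theorem tR (h : Inp2 τ X Y W T B N) (i : ℤ) : Nz (T i) (RK W) := (tE h i).sup' (h.TW i (-1))
theorem tQ (h : Inp2 τ X Y W T B N) (i : ℤ) : Nz (T i) (Q2 W) := (tR h i).sup' (h.TW i (-2))

theorem EKle (h : Inp2 τ X Y W T B N) : EK Y ≤ EK W := sup_le_sup (sup_le_sup (h.YW 0) (h.YW 1)) (h.YW 2)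
theorem RKle (h : Inp2 τ X Y W T B N) : RK Y ≤ RK W := sup_le_sup (EKle h) (h.YW (-1))
theorem Q2le (h : Inp2 τ X Y W T B N) : Q2 Y ≤ Q2 W := sup_le_sup (RKle h) (h.YW (-2))

/-- `E₁` commutes with `X 3` -/
theorem Ex3 (h : Inp2 τ X Y W T B N) : Cm (EK W) (X 3) :=
  (((c03 h.toInp).sup (c13 h.toInp)).sup (c23 h.toInp)).mono le_rfl (x3W h.toInp)

/-- `W₋₁ E₁` commutes with `X 3` -/
theorem Rx3 (h : Inp2 τ X Y W T B N) : Cm (RK W) (X 3) := (Ex3 h).sup (m1x3 h)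

theorem x4x3 (h : Inp2 τ X Y W T B N) : Cm (X 4) (X 3) := (x43 h.toInp).mono le_rfl (x3W h.toInp)

/-- `A₀` commutes with `X 0` -/
theorem Qx0 (h : Inp2 τ X Y W T B N) : Cm (Q2 W) (X 0) :=
  (((((x00 h.toInp).sup' (x01 h.toInp)).sup' (x02 h.toInp)).sup' (x0m1 h.toInp)).sup' (x0m2 h.toInp)).symm

/-- `A₀` commutes with `W 0` -/
theorem Qw0 (h : Inp2 τ X Y W T B N) : Cm (Q2 W) (W 0) :=
  ((((h.Wab 0).sup (c01 h.toInp).symm).sup (c02 h.toInp).symm).sup (d10 h.toInp)).sup (d20 h.toInp)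

/-- `A₀` commutes with `W 2` -/
theorem Qw2 (h : Inp2 τ X Y W T B N) : Cm (Q2 W) (W 2) :=
  ((((c02 h.toInp).sup (c12 h.toInp)).sup (h.Wab 2)).sup (d12 h.toInp)).sup (d22 h.toInp)

/-- `X₄` normalises `Q2 Y` -/
theorem x4Q (h : Inp2 τ X Y W T B N) : Nz (X 4) (Q2 Y) := by
  have hb := base h.toInp
  have hE : Nz (X 4) (EK Y) := by
    intro x hx y hy
    apply (dE h.toInp).fix _ (x4E h x hx y (EKle h hy))
    rw [map_mul, map_mul, map_inv, h.tX 4 x hx, (dE h.toInp).fixK y hy]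
  have e1 : Y (-1) = X (-1) := by
    have := h.Yo (-1)
    have e0 : (2 * (-1) + 1 : ℤ) = -1 := by norm_num
    rwa [e0] at this
  have hR : Nz (X 4) (RK Y) := by
    have h1 : Cl (X 4) (Y (-1)) (Y (-1) ⊔ EK Y) := by
      rw [e1]; exact hb.r14.symm.mono3 le_sup_right
    have h2 := Cl.nz' h1 hE
    rwa [sup_comm] at h2
  have h1 : Cl (X 4) (Y (-2)) (Y (-2) ⊔ RK Y) := hb.r24z.symm.mono3 le_sup_right
  have h2 := Cl.nz' h1 hR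
  rwa [sup_comm] at h2

/-- the commutator `⁅b, a⁆`, `a ∈ A₀`, modulo `R ≤ A₀` -/
theorem gen_brk [Finite G] (h : Inp2 τ X Y W T B N) {R K : Subgroup G} (hR : Dbl τ R K) (hRQ : R ≤ Q2 W)
    (hn : Nz (B 4) R) (hX4 : Nz (X 4) R) {A : Subgroup G} (hA : A ≤ Q2 W) (hAR : Nz A R)
    (hx : Cl (X 4) A R) (hw : Cl (W 4) A R) {a b : G} (ha : a ∈ A) (ha' : a⁻¹ * τ a ∈ A) (hb : b ∈ B 4)
    (hab : b * (a⁻¹ * τ a) * b⁻¹ * (a⁻¹ * τ a)⁻¹ ∈ R) :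
    ∃ r ∈ R, ∃ x ∈ X 4, ∃ q ∈ Q2 Y, b * a * b⁻¹ * a⁻¹ * r = x * q := by
  obtain ⟨x, hx1, u, hu, e⟩ := (db4 h).brk b hb
  have k : ∀ v ∈ A, (x * u) * v * (x * u)⁻¹ * v⁻¹ ∈ R := fun v hv => cl_XW hx hw hX4 hx1 hu hv
  have h1 := tau_comm (τ := τ) (R := R) (a := b) (b := a) (a' := x * u) (b' := a⁻¹ * τ a)
    (by rw [← e]; group) (by group) (hn.le hb) (hAR.le ha) (k a ha) hab (k _ ha')
  obtain ⟨r, hr, h2⟩ := hR.exists_fix h.tt h1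
  have h3 : b * a * b⁻¹ * a⁻¹ * r ∈ Q2 Y ⊔ X 4 := by
    refine (base h.toInp).k6a _ h2 (fun w hw => ?_) (fun y hy => ?_) fun y hy => ?_
    · exact comm_mul (comm_comm ((r04 h) w hw b hb).symm ((Qw0 h) a (hA ha) w hw)) ((Qw0 h) r (hRQ hr) w hw)
    · exact comm_mul (comm_comm (b4x0 h b hb y hy) ((Qx0 h) a (hA ha) y hy)) ((Qx0 h) r (hRQ hr) y hy)
    · have hy' := h.YW 2 hy
      exact comm_mul (comm_comm (b4w2 h b hb y hy') ((Qw2 h) a (hA ha) y hy')) ((Qw2 h) r (hRQ hr) y hy')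
  obtain ⟨q, hq, x', hx', h4⟩ := mem_sup' (x4Q h) h3
  exact ⟨r, hr, x', hx', q, hq, h4⟩

/-- (e) `⁅W₋₁, X₄⁆ ≤ E₁` -/
theorem e14 [Finite G] (h : Inp2 τ X Y W T B N) : Cl (X 4) (W (-1)) (EK W) := by
  have hb := base h.toInp
  have e1 : Y (-1) = X (-1) := by
    have := h.Yo (-1)
    have e0 : (2 * (-1) + 1 : ℤ) = -1 := by norm_num
    rwa [e0] at this
  have key : ∀ x ∈ X 4, ∀ w ∈ W (-1), x * w * x⁻¹ * w⁻¹ ∈ RK W := by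
    intro x hx w hw
    have hw' : w⁻¹ * τ w ∈ X (-1) := by rw [← e1]; exact brkW h hw
    have h1 := tau_comm (τ := τ) (R := EK W) (a := x) (b := w) (a' := 1) (b' := w⁻¹ * τ w)
      (by rw [h.tX 4 x hx, mul_one]) (by group) ((x4E h).le hx) ((wm1E h.toInp).nz.le hw)
      (by
        have : (1 : G) * w * 1⁻¹ * w⁻¹ = 1 := by group
        rw [this]; exact one_mem _)
      (cinv (EKle h (hb.r14 _ hw' x hx)))
      (by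
        have : (1 : G) * (w⁻¹ * τ w) * 1⁻¹ * (w⁻¹ * τ w)⁻¹ = 1 := by group
        rw [this]; exact one_mem _)
    obtain ⟨r, hr, h2⟩ := (dE h.toInp).exists_fix h.tt h1
    have hc : x * w * x⁻¹ * w⁻¹ ∈ Q2 W := cinv (hb.a14 w hw x hx)
    have hcr : x * w * x⁻¹ * w⁻¹ * r ∈ Q2 Y :=
      (dQ h.toInp).fix _ (mul_mem hc ((rq W) ((er W) hr))) h2
    have h3 : x * w * x⁻¹ * w⁻¹ * r ∈ RK Y := hb.kb _ hcr fun y hy =>
      comm_mul (comm_comm (x4x3 h x hx y hy) (m1x3 h w hw y hy)) ((Ex3 h) r hr y hy)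
    exact ((RK W).mul_mem_cancel_right ((er W) hr)).1 (RKle h h3)
  intro x hx w hw
  obtain ⟨t, ht, h1⟩ := freeX h (i := -1) 4 (by norm_num)
  refine kill (B := X 4) (R := EK W) (h := t) (x := w) (h.TX (-1) 4 t ht) h1 (h.TWc (-1) t ht w hw)
    (x4E h) ((wm1E h.toInp).nz w hw) (fun x hx => ?_) x hx
  exact brk_sup (A := W (-1)) (wm1E h.toInp).nz (tE h (-1) t ht) (fun a ha => h.TWc (-1) t ht a ha) (key x hx w hw)

/-- (f) `⁅W₋₁, W₄⁆ ≤ E₁` -/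
theorem f14 (h : Inp2 τ X Y W T B N) : Cl (W 4) (W (-1)) (EK W) := by
  have h2 := base2 h
  have hm : W (-1) ≤ N 1 := ((r1 W).trans (rq W)).trans h2.nA
  have h4 : W 4 ≤ N 1 := by rw [h2.ndec]; exact le_sup_right
  exact h2.ncomm.mono h4 hm le_rfl

/-- `⁅b, a⁆` for `a ∈ W₋₁` -/
theorem dg1 [Finite G] (h : Inp2 τ X Y W T B N) {a b : G} (ha : a ∈ W (-1)) (hb : b ∈ B 4)
    (hab : b * (a⁻¹ * τ a) * b⁻¹ * (a⁻¹ * τ a)⁻¹ ∈ EK W) :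
    ∃ x ∈ X 4, ∃ q ∈ RK W, b * a * b⁻¹ * a⁻¹ = x * q := by
  have hA : W (-1) ≤ Q2 W := (r1 W).trans (rq W)
  obtain ⟨r, hr, x, hx, q, hq, e⟩ := gen_brk h (dE h.toInp) ((er W).trans (rq W)) (b4E h) (x4E h) hA
    (wm1E h.toInp).nz (e14 h) (f14 h) ha (mul_mem (inv_mem ha) (h.Wt (-1) a ha)) hb hab
  have hq2 : q ∈ RK Y := by
    refine (base h.toInp).kb q hq fun y hy => ?_
    refine comm_of_mul (a := x) ?_ (x4x3 h x hx y hy)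
    rw [← e]
    exact comm_mul (comm_comm (b4w3 h b hb y (x3W h.toInp hy)) (m1x3 h a ha y hy)) ((Ex3 h) r hr y hy)
  refine ⟨x, hx, q * r⁻¹, mul_mem (RKle h hq2) (inv_mem ((er W) hr)), ?_⟩
  rw [← mul_assoc, ← e, mul_inv_cancel_right]

theorem dg2 [Finite G] (h : Inp2 τ X Y W T B N) {A : Subgroup G} (hA : A ≤ W (-1))
    (hfree : ∃ t ∈ T 4, (∀ a ∈ A, t * a * t⁻¹ ∈ A) ∧ ∀ a ∈ A, t * a * t⁻¹ = a → a = 1)
    (hA2 : ∀ a ∈ A, ∀ b ∈ B 4, b * (a⁻¹ * τ a) * b⁻¹ * (a⁻¹ * τ a)⁻¹ ∈ EK W) : Cl (B 4) A (EK W) := by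
  have key : ∀ b ∈ B 4, ∀ a ∈ A, b * a * b⁻¹ * a⁻¹ ∈ RK W := by
    intro b hb a ha
    obtain ⟨t, ht, h0, h1⟩ := hfree
    have h2 := kill' (B := A) (R := RK W) (h := t) (a := b) h0 h1 (b4t4 h t ht b hb)
      (hA.trans (r1 W)) (fun a ha => by
        obtain ⟨x, hx, q, hq, e⟩ := dg1 h (hA ha) hb (hA2 a ha b hb)
        exact brk_left e hq (tR h 4 t ht) (h.TXc 4 t ht x hx)) a ha
    exact mul_mem h2 (inv_mem ((r1 W) (hA ha)))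
  intro b hb a ha
  obtain ⟨t, ht, h1⟩ := free4 h (-1) (by norm_num)
  refine kill (B := B 4) (R := EK W) (h := t) (x := a) (b4n h (-1) t ht) h1 (h.TWc (-1) t ht a (hA ha))
    (b4E h) ((wm1E h.toInp).nz a (hA ha)) (fun b hb => ?_) b hb
  exact brk_sup (A := W (-1)) (wm1E h.toInp).nz (tE h (-1) t ht) (fun a ha => h.TWc (-1) t ht a ha) (key b hb a ha)

/-- (d) -/
theorem d54 [Finite G] (h : Inp2 τ X Y W T B N) : Cl (B 4) (X (-1)) (EK W) := by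
  obtain ⟨t, ht, h1⟩ := freeX h (i := 4) (-1) (by norm_num)
  refine dg2 h (xm1W h.toInp) ⟨t, ht, h.TX 4 (-1) t ht, h1⟩ fun a ha b hb => ?_
  have e : a⁻¹ * τ a = 1 := by rw [h.tX (-1) a ha, inv_mul_cancel]
  rw [e]
  have : b * 1 * b⁻¹ * 1⁻¹ = (1 : G) := by group
  rw [this]; exact one_mem _

/-- (g) -/
theorem r54 [Finite G] (h : Inp2 τ X Y W T B N) : Cl (B 4) (W (-1)) (EK W) := by
  obtain ⟨t, ht, h1⟩ := freeW h (i := 4) (-1) (by norm_num)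
  exact dg2 h le_rfl ⟨t, ht, h.TW 4 (-1) t ht, h1⟩ fun a ha b hb => d54 h b hb _ (h.YX (-1) (brkW h ha))

/-! ### (h) - (k) `⁅W₋₂, B₄⁆ ≤ W₋₁ E₁` -/

/-- `B₄` normalises `W₋₁ E₁` -/
theorem b4R [Finite G] (h : Inp2 τ X Y W T B N) : Nz (B 4) (RK W) := by
  have h2 := Cl.nz' ((r54 h).mono3 (le_sup_right : EK W ≤ W (-1) ⊔ EK W)) (b4E h)
  rwa [sup_comm] at h2

/-- `X₄` normalises `W₋₁ E₁` -/
theorem x4R [Finite G] (h : Inp2 τ X Y W T B N) : Nz (X 4) (RK W) := by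
  have h2 := Cl.nz' ((e14 h).mono3 (le_sup_right : EK W ≤ W (-1) ⊔ EK W)) (x4E h)
  rwa [sup_comm] at h2

/-- (i) `⁅W₋₂, X₄⁆ ≤ W₋₁ E₁` -/
theorem i24 [Finite G] (h : Inp2 τ X Y W T B N) : Cl (X 4) (W (-2)) (RK W) := by
  intro x hx w hw
  obtain ⟨t, ht, h1⟩ := freeX h (i := -2) 4 (by norm_num)
  refine kill (B := X 4) (R := RK W) (h := t) (x := w) (h.TX (-2) 4 t ht) h1 (h.TWc (-2) t ht w hw)
    (x4R h) ((wm2R h.toInp).nz w hw) (fun x hx => ?_) x hx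
  exact brk_sup (A := W (-2)) (wm2R h.toInp).nz (tR h (-2) t ht) (fun a ha => h.TWc (-2) t ht a ha)
    (cinv ((base h.toInp).a24 w hw x hx))

theorem hk1 [Finite G] (h : Inp2 τ X Y W T B N) {a b : G} (ha : a ∈ W (-2)) (hb : b ∈ B 4)
    (hab : b * (a⁻¹ * τ a) * b⁻¹ * (a⁻¹ * τ a)⁻¹ ∈ RK W) :
    ∃ x ∈ X 4, ∃ q ∈ Q2 W, b * a * b⁻¹ * a⁻¹ = x * q := by
  obtain ⟨r, hr, x, hx, q, hq, e⟩ := gen_brk h (dR h.toInp) (rq W) (b4R h) (x4R h) (q2 W)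
    (wm2R h.toInp).nz (i24 h) ((base h.toInp).w24.symm.mono3 (er W)) ha
    (mul_mem (inv_mem ha) (h.Wt (-2) a ha)) hb hab
  refine ⟨x, hx, q * r⁻¹, mul_mem (Q2le h hq) (inv_mem ((rq W) hr)), ?_⟩
  rw [← mul_assoc, ← e, mul_inv_cancel_right]

theorem hk2 [Finite G] (h : Inp2 τ X Y W T B N) {A : Subgroup G} (hA : A ≤ W (-2))
    (hfree : ∃ t ∈ T 4, (∀ a ∈ A, t * a * t⁻¹ ∈ A) ∧ ∀ a ∈ A, t * a * t⁻¹ = a → a = 1)
    (hA2 : ∀ a ∈ A, ∀ b ∈ B 4, b * (a⁻¹ * τ a) * b⁻¹ * (a⁻¹ * τ a)⁻¹ ∈ RK W) : Cl (B 4) A (RK W) := by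
  have key : ∀ b ∈ B 4, ∀ a ∈ A, b * a * b⁻¹ * a⁻¹ ∈ Q2 W := by
    intro b hb a ha
    obtain ⟨t, ht, h0, h1⟩ := hfree
    have h2 := kill' (B := A) (R := Q2 W) (h := t) (a := b) h0 h1 (b4t4 h t ht b hb)
      (hA.trans (q2 W)) (fun a ha => by
        obtain ⟨x, hx, q, hq, e⟩ := hk1 h (hA ha) hb (hA2 a ha b hb)
        exact brk_left e hq (tQ h 4 t ht) (h.TXc 4 t ht x hx)) a ha
    exact mul_mem h2 (inv_mem ((q2 W) (hA ha)))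
  intro b hb a ha
  obtain ⟨t, ht, h1⟩ := free4 h (-2) (by norm_num)
  refine kill (B := B 4) (R := RK W) (h := t) (x := a) (b4n h (-2) t ht) h1 (h.TWc (-2) t ht a (hA ha))
    (b4R h) ((wm2R h.toInp).nz a (hA ha)) (fun b hb => ?_) b hb
  exact brk_sup (A := W (-2)) (wm2R h.toInp).nz (tR h (-2) t ht) (fun a ha => h.TWc (-2) t ht a ha) (key b hb a ha)

/-- (h) -/
theorem h64 [Finite G] (h : Inp2 τ X Y W T B N) : Cl (B 4) (Y (-2)) (RK W) := by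
  obtain ⟨t, ht, h1⟩ := freeX h (i := 4) (-2) (by norm_num)
  refine hk2 h (h.YW (-2)) ⟨t, ht, h.TY 4 (-2) t ht, fun a ha => h1 a (h.YX (-2) ha)⟩ fun a ha b hb => ?_
  have e : a⁻¹ * τ a = 1 := by rw [h.tX (-2) a (h.YX (-2) ha), inv_mul_cancel]
  rw [e]
  have : b * 1 * b⁻¹ * 1⁻¹ = (1 : G) := by group
  rw [this]; exact one_mem _

/-- (k) -/
theorem r64 [Finite G] (h : Inp2 τ X Y W T B N) : Cl (B 4) (W (-2)) (RK W) := by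
  obtain ⟨t, ht, h1⟩ := freeW h (i := 4) (-2) (by norm_num)
  exact hk2 h le_rfl ⟨t, ht, h.TW 4 (-2) t ht, h1⟩ fun a ha b hb => h64 h b hb _ (brkW h ha)

/-- Level 4 (a) - (l) of the growth of `²F₄(q)`. -/
theorem main [Finite G] (h : Inp2 τ X Y W T B N) : Base4 τ X Y W T B N where
  r04 := r04 h
  r14 := r14 h
  r24 := (b4w2 h).symm
  r34 := (b4w3 h).symm
  s24 := s24 h
  s04 := s04 h
  r54 := (r54 h).symm
  r64 := (r64 h).symm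

end Cfsg.Agent.OddHalf.D7TwF4.Growth.Al
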