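import Cfsg.Agent.OddHalf.D7TwF4.Growth.Inp

/-!
# Growth for `²F₄(q)`, level 4 (a) - (l): tools (helper180; text `blueprints/ODD-D7-2F4-growth-helper702.md`)

* the doubles `W₀ W₁ W₂`, `W₋₁ ⋯ W₂`, `A₀ = W₋₂ ⋯ W₂` as `Dbl`;
* elements of the torus without fixed points on `B j`;
* `hom_DB`: homomorphisms from `B` trivial on `X` and `W` are trivial (weights).
-/

set_option autoImplicit false
set_option linter.unusedVariables false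

namespace Cfsg.Agent.OddHalf.D7TwF4.Growth.AlBase

open Cfsg.Agent.OddHalf.D7TwF4.Growth.Defs Cfsg.Agent.OddHalf.D7TwF4.Growth.Tools
open Cfsg.Agent.OddHalf.D7TwF4.Growth.Frame Cfsg.Agent.OddHalf.D7TwF4.Growth.Two
open Cfsg.Agent.OddHalf.D7TwF4.Growth.Inp

variable {G : Type*} [Group G]

/-! ### brackets with an element of the torus -/

/-- `c ∈ R A`, `A` normalises `R`, `t` normalises `R` and centralises `A` -/
theorem brk_sup {R A : Subgroup G} {t c : G} (hn : Nz A R) (tR : ∀ r ∈ R, t * r * t⁻¹ ∈ R)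
    (tA : ∀ a ∈ A, t * a = a * t) (hc : c ∈ R ⊔ A) : c⁻¹ * (t * c * t⁻¹) ∈ R := by
  obtain ⟨r, hr, a, ha, rfl⟩ := mem_sup hn hc
  have e1 : t * a * t⁻¹ = a := by rw [tA a ha, mul_inv_cancel_right]
  have e : (r * a)⁻¹ * (t * (r * a) * t⁻¹) = a⁻¹ * (r⁻¹ * (t * r * t⁻¹)) * a := by
    calc (r * a)⁻¹ * (t * (r * a) * t⁻¹) = a⁻¹ * (r⁻¹ * (t * r * t⁻¹)) * (t * a * t⁻¹) := by group
      _ = _ := by rw [e1]
  rw [e]
  exact hn.inv ha (mul_mem (inv_mem hr) (tR r hr))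

/-- `c = a r` -/
theorem brk_left {R : Subgroup G} {t c a r : G} (hc : c = a * r) (hr : r ∈ R)
    (tR : ∀ r ∈ R, t * r * t⁻¹ ∈ R) (ta : t * a = a * t) : c⁻¹ * (t * c * t⁻¹) ∈ R := by
  have e1 : t * a * t⁻¹ = a := by rw [ta, mul_inv_cancel_right]
  have e : c⁻¹ * (t * c * t⁻¹) = r⁻¹ * (t * r * t⁻¹) := by
    rw [hc]
    calc (a * r)⁻¹ * (t * (a * r) * t⁻¹) = r⁻¹ * a⁻¹ * (t * a * t⁻¹) * (t * r * t⁻¹) := by group
      _ = _ := by rw [e1]; group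
  rw [e]
  exact mul_mem (inv_mem hr) (tR r hr)

/-! ### the doubles -/

theorem dW {τ : G →* G} {X Y W T : ℤ → Subgroup G} (h : Gen τ X Y W T) (i : ℤ) : Dbl τ (W i) (Y i) :=
  dbl_W h.tt (h.Wab i) (h.Wsq i) (h.Wt i) (fun y hy => h.tX i y (h.YX i hy)) (h.YW i) (h.Wf i) (h.Ws i)

theorem dSup {τ : G →* G} {X Y W T : ℤ → Subgroup G} (h : Gen τ X Y W T) {R K : Subgroup G} (hR : Dbl τ R K)
    (i : ℤ) (hi : K ⊓ Y i = ⊥) (hn : Nz (W i) R) : Dbl τ (R ⊔ W i) (K ⊔ Y i) :=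
  hR.sup_W h.tt (h.Wab i) (h.Wsq i) (h.Wt i) (fun y hy => h.tX i y (h.YX i hy)) (h.YW i) (h.Wf i) (h.Ws i) hi hn

section Rel

variable {τ : G →* G} {X Y W T : ℤ → Subgroup G}

/-! relations between the `W i` -/

theorem c01 (h : Inp τ X Y W T) : Cm (W 0) (W 1) := (base h).w01
theorem c02 (h : Inp τ X Y W T) : Cm (W 0) (W 2) := (base h).w02
theorem c12 (h : Inp τ X Y W T) : Cm (W 1) (W 2) := (base (rf h 1)).w01.symm
theorem c03 (h : Inp τ X Y W T) : Cm (W 0) (W 3) := (base (rf h 1)).w12.symm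
theorem c13 (h : Inp τ X Y W T) : Cm (W 1) (W 3) := (base (sh h 1)).w11
theorem c14 (h : Inp τ X Y W T) : Cm (W 1) (W 4) := (base (sh h 1)).w12
theorem c04 (h : Inp τ X Y W T) : Cm (W 0) (W 4) := (base (sh h 1)).w22
theorem c23 (h : Inp τ X Y W T) : Cm (W 2) (W 3) := (base (sh h 1)).w01
theorem c24 (h : Inp τ X Y W T) : Cm (W 2) (W 4) := (base (sh h 1)).w02
theorem c34 (h : Inp τ X Y W T) : Cm (W 3) (W 4) := (base (rf h 2)).w01.symm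
theorem d10 (h : Inp τ X Y W T) : Cm (W (-1)) (W 0) := (base (rf h 0)).w01.symm
theorem d11 (h : Inp τ X Y W T) : Cm (W (-1)) (W 1) := (base h).w11
theorem d12 (h : Inp τ X Y W T) : Cm (W (-1)) (W 2) := (base h).w12
theorem d21 (h : Inp τ X Y W T) : Cm (W (-2)) (W (-1)) := by
  have h1 := (base (sh h (-1))).w01
  have e0 : F (-1) 1 W 0 = W (-2) := by show W (2 * (-1) + 1 * 0) = _; congr 1
  have e1 : F (-1) 1 W 1 = W (-1) := by show W (2 * (-1) + 1 * 1) = _; congr 1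
  rwa [e0, e1] at h1
theorem d20 (h : Inp τ X Y W T) : Cm (W (-2)) (W 0) := (base (rf h 0)).w02.symm
theorem d2p (h : Inp τ X Y W T) : Cm (W (-2)) (W 1) := (base (rf h 0)).w12.symm
theorem d22 (h : Inp τ X Y W T) : Cm (W (-2)) (W 2) := (base h).w22

/-! `X 0`, `X 3`, `X 4` and the `W i` -/

theorem x00 (h : Inp τ X Y W T) : Cm (X 0) (W 0) := (base h).x0w0
theorem x01 (h : Inp τ X Y W T) : Cm (X 0) (W 1) := (base h).x0w1
theorem x02 (h : Inp τ X Y W T) : Cm (X 0) (W 2) := (base h).x0w2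
theorem x0m1 (h : Inp τ X Y W T) : Cm (X 0) (W (-1)) := (base (rf h 0)).x0w1
theorem x0m2 (h : Inp τ X Y W T) : Cm (X 0) (W (-2)) := (base (rf h 0)).x0w2
theorem x04w (h : Inp τ X Y W T) : Cm (X 0) (W 4) := (base (rf h 2)).x4w0
theorem x40 (h : Inp τ X Y W T) : Cm (X 4) (W 0) := (base h).x4w0
theorem x42 (h : Inp τ X Y W T) : Cm (X 4) (W 2) := (base (rf h 2)).x0w2
theorem x43 (h : Inp τ X Y W T) : Cm (X 4) (W 3) := (base (rf h 2)).x0w1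
theorem x44 (h : Inp τ X Y W T) : Cm (X 4) (W 4) := (base (rf h 2)).x0w0
theorem x41 (h : Inp τ X Y W T) : Cl (W 1) (X 4) (W 2) := (base (sh h 1)).c12
theorem x3W (h : Inp τ X Y W T) : X 3 ≤ W 3 := by
  have := h.YW 3
  have e : Y 3 = X 3 := h.Yo 1
  rwa [e] at this
theorem x1W (h : Inp τ X Y W T) : X 1 ≤ W 1 := by
  have := h.YW 1
  have e : Y 1 = X 1 := h.Yo 0
  rwa [e] at this
theorem xm1W (h : Inp τ X Y W T) : X (-1) ≤ W (-1) := by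
  have := h.YW (-1)
  have e : Y (-1) = X (-1) := by
    have := h.Yo (-1)
    have e0 : (2 * (-1) + 1 : ℤ) = -1 := by norm_num
    rwa [e0] at this
  rwa [e] at this

/-- `E₁` as a double -/
theorem dE (h : Inp τ X Y W T) : Dbl τ (EK W) (EK Y) :=
  dSup h.toGen (dSup h.toGen (dW h.toGen 0) 1 (base h).i01 (c01 h).symm.nz) 2 (base h).i012
    ((c02 h).sup (c12 h)).symm.nz

theorem wm1E (h : Inp τ X Y W T) : Cm (W (-1)) (EK W) := ((d10 h).sup' (d11 h)).sup' (d12 h)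

/-- `W₋₁ E₁` as a double -/
theorem dR (h : Inp τ X Y W T) : Dbl τ (RK W) (RK Y) := dSup h.toGen (dE h) (-1) (base h).i1 (wm1E h).nz

theorem wm2R (h : Inp τ X Y W T) : Cm (W (-2)) (RK W) :=
  (((d20 h).sup' (d2p h)).sup' (d22 h)).sup' (d21 h)

/-- `A₀` as a double -/
theorem dQ (h : Inp τ X Y W T) : Dbl τ (Q2 W) (Q2 Y) := dSup h.toGen (dR h) (-2) (base h).i2 (wm2R h).nz

end Rel

/-! ### fixed point free elements -/

section Free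

variable {τ : G →* G} {X Y W T : ℤ → Subgroup G}

theorem free_W (h : Gen τ X Y W T) {j : ℤ} {t : G} (ht : τ t = t) (h1 : ∀ x ∈ X j, t * x * t⁻¹ = x → x = 1) :
    ∀ w ∈ W j, t * w * t⁻¹ = w → w = 1 :=
  free_of_brk ht (fun y hy => h1 y (h.YX j hy)) (h.Wf j) fun w hw _ hb =>
    h1 _ (h.YX j (brk_mem h.tt (h.Wab j) (h.Wsq j) (h.Wt j) (h.Wf j) hw)) hb

theorem free_B [Finite G] (h : Gen τ X Y W T) {j : ℤ} {B : Subgroup G} (D : DB τ B (X j) (W j) (Y j)) {t : G}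
    (ht : τ t = t) (tX : ∀ x ∈ X j, t * x * t⁻¹ ∈ X j) (tY : ∀ x ∈ Y j, t * x * t⁻¹ ∈ Y j)
    (tW : ∀ x ∈ W j, t * x * t⁻¹ ∈ W j)
    (h1 : ∀ x ∈ X j, t * x * t⁻¹ = x → x = 1) : ∀ b ∈ B, t * b * t⁻¹ = b → b = 1 := by
  refine free_of_brk ht h1 D.fix fun b hb _ hb2 => ?_
  obtain ⟨x, hx, w, hw, e⟩ := D.brk b hb
  rw [e] at hb2 ⊢
  have e1 : (t * x * t⁻¹) * (t * w * t⁻¹) = x * w := by rw [← hb2]; group
  -- `x⁻¹ (t x t⁻¹) ∈ W j`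
  have e2 : x⁻¹ * (t * x * t⁻¹) = w * (t * w * t⁻¹)⁻¹ := by
    calc x⁻¹ * (t * x * t⁻¹) = x⁻¹ * ((t * x * t⁻¹) * (t * w * t⁻¹)) * (t * w * t⁻¹)⁻¹ := by group
      _ = _ := by rw [e1]; group
  have e3 : x⁻¹ * (t * x * t⁻¹) ∈ Y j := by
    apply h.Wf j
    · rw [e2]; exact mul_mem hw (inv_mem (tW w hw))
    · exact h.tX j _ (mul_mem (inv_mem hx) (tX x hx))
  -- on `Y j` the map `y ↦ y⁻¹ (t y t⁻¹)` is onto
  let g : Y j → Y j := fun y => ⟨(y : G)⁻¹ * (t * y * t⁻¹), mul_mem (inv_mem y.2) (tY y y.2)⟩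
  have inj : ∀ a ∈ X j, ∀ b ∈ X j, a⁻¹ * (t * a * t⁻¹) = b⁻¹ * (t * b * t⁻¹) → a = b := by
    intro a ha b hb hab
    have e5 : t * (b * a⁻¹) * t⁻¹ = b * a⁻¹ := by
      calc t * (b * a⁻¹) * t⁻¹ = b * (b⁻¹ * (t * b * t⁻¹)) * (t * a * t⁻¹)⁻¹ := by group
        _ = b * (a⁻¹ * (t * a * t⁻¹)) * (t * a * t⁻¹)⁻¹ := by rw [hab]
        _ = b * a⁻¹ := by group
    exact (mul_inv_eq_one.1 (h1 _ (mul_mem hb (inv_mem ha)) e5)).symm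
  have hinj : Function.Injective g := fun a b hab =>
    Subtype.ext (inj a (h.YX j a.2) b (h.YX j b.2) (congrArg Subtype.val hab))
  obtain ⟨y, hy⟩ := Finite.surjective_of_injective hinj ⟨_, e3⟩
  have e4 : x = y := inj x hx y (h.YX j y.2) (congrArg Subtype.val hy).symm
  have hxW : x ∈ W j := by rw [e4]; exact h.YW j y.2
  exact free_W h ht h1 _ (mul_mem hxW hw) hb2

end Free

/-! ### homomorphisms from `B` -/

theorem hom_DB {τ : G →* G} (tt : ∀ x, τ (τ x) = x) {B X W Y Z T' : Subgroup G} (D : DB τ B X W Y)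
    (YX : Y ≤ X) (hs : ∀ y ∈ Y, ∃ w ∈ W, w⁻¹ * τ w = y)
    (tT : ∀ h ∈ T', τ h = h) (TX : Nz T' X) (TW : Nz T' W) (TB : Nz T' B)
    (nh : ∀ f : G → G, (∀ a ∈ X, f a ∈ Z) → (∀ a ∈ X, ∀ b ∈ X, f (a * b) = f a * f b) →
      (∀ a ∈ Y, f a = 1) → (∀ h ∈ T', ∀ a ∈ X, f (h * a * h⁻¹) = h * f a * h⁻¹) → ∀ a ∈ X, f a = 1)
    (φ : G → G) (φZ : ∀ b ∈ B, φ b ∈ Z) (φm : ∀ a ∈ B, ∀ b ∈ B, φ (a * b) = φ a * φ b)
    (φX : ∀ x ∈ X, φ x = 1) (φW : ∀ w ∈ W, φ w = 1)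
    (φT : ∀ h ∈ T', ∀ b ∈ B, φ (h * b * h⁻¹) = h * φ b * h⁻¹) : ∀ b ∈ B, φ b = 1 := by
  have hn := D.nzW
  have key : ∀ b ∈ B, ∀ b' ∈ B, ∀ x ∈ X, x⁻¹ * (b⁻¹ * τ b) ∈ W → x⁻¹ * (b'⁻¹ * τ b') ∈ W → φ b = φ b' := by
    intro b hb b' hb' x hx h1 h2
    have e : (b * b'⁻¹)⁻¹ * τ (b * b'⁻¹) =
        b' * (x * ((x⁻¹ * (b⁻¹ * τ b)) * (x⁻¹ * (b'⁻¹ * τ b'))⁻¹) * x⁻¹) * b'⁻¹ := by
      rw [map_mul, map_inv]; group
    have h3 : (b * b'⁻¹)⁻¹ * τ (b * b'⁻¹) ∈ W := by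
      rw [e]
      exact hn b' hb' _ (hn x (D.XB hx) _ (mul_mem h1 (inv_mem h2)))
    obtain ⟨x1, hx1, w1, hw1, e1⟩ := D.mem_of_brk tt (mul_mem hb (inv_mem hb')) h3
    have e2 : φ (b * b'⁻¹) = 1 := by
      rw [e1, φm _ (D.XB hx1) _ (D.WB hw1), φX _ hx1, φW _ hw1, one_mul]
    have e3 : b = b * b'⁻¹ * b' := by group
    rw [e3, φm _ (mul_mem hb (inv_mem hb')) _ hb', e2, one_mul]
  -- the induced map on `X`
  have hch : ∀ x, ∃ b, x ∈ X → b ∈ B ∧ x⁻¹ * (b⁻¹ * τ b) ∈ W := by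
    intro x
    by_cases hx : x ∈ X
    · obtain ⟨b, hb, w, hw, e⟩ := D.surj x hx
      exact ⟨b, fun _ => ⟨hb, by rw [e, inv_mul_cancel_left]; exact hw⟩⟩
    · exact ⟨1, fun h => absurd h hx⟩
  choose g hg using hch
  have hf := nh (fun x => φ (g x)) (fun a ha => φZ _ (hg a ha).1) ?_ ?_ ?_
  · intro b hb
    obtain ⟨x, hx, w, hw, e⟩ := D.brk b hb
    rw [key b hb (g x) (hg x hx).1 x hx (by rw [e, inv_mul_cancel_left]; exact hw) (hg x hx).2]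
    exact hf x hx
  · intro a ha b hb
    show φ (g (a * b)) = φ (g a) * φ (g b)
    rw [← φm _ (hg a ha).1 _ (hg b hb).1]
    refine key _ (hg _ (mul_mem ha hb)).1 _ (mul_mem (hg a ha).1 (hg b hb).1) (a * b) (mul_mem ha hb)
      (hg _ (mul_mem ha hb)).2 ?_
    -- `(a b)⁻¹ ((g a g b)⁻¹ τ (g a g b)) ∈ W`
    obtain ⟨u, hu⟩ : ∃ u, u = g a := ⟨_, rfl⟩
    obtain ⟨v, hv⟩ : ∃ v, v = g b := ⟨_, rfl⟩
    have hub := (hg a ha).1
    have hvb := (hg b hb).1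
    have hua := (hg a ha).2
    have hva := (hg b hb).2
    rw [← hu] at hub hua
    rw [← hv] at hvb hva
    rw [← hu, ← hv]
    have e : (a * b)⁻¹ * ((u * v)⁻¹ * τ (u * v)) =
        b⁻¹ * (a⁻¹ * v⁻¹ * a * v) * (v⁻¹ * (a⁻¹ * (u⁻¹ * τ u)) * v) * b * (b⁻¹ * (v⁻¹ * τ v)) := by
      rw [map_mul]; group
    rw [e]
    refine mul_mem ?_ hva
    have h1 : a⁻¹ * v⁻¹ * a * v ∈ W := by
      have := D.comm a⁻¹ (inv_mem (D.XB ha)) v⁻¹ (inv_mem hvb)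
      rwa [inv_inv, inv_inv] at this
    have h2 : v⁻¹ * (a⁻¹ * (u⁻¹ * τ u)) * v ∈ W := hn.inv hvb hua
    have e3 : b⁻¹ * (a⁻¹ * v⁻¹ * a * v) * (v⁻¹ * (a⁻¹ * (u⁻¹ * τ u)) * v) * b =
        b⁻¹ * ((a⁻¹ * v⁻¹ * a * v) * (v⁻¹ * (a⁻¹ * (u⁻¹ * τ u)) * v)) * b := by group
    rw [e3]
    exact hn.inv (D.XB hb) (mul_mem h1 h2)
  · intro y hy
    show φ (g y) = 1
    obtain ⟨w, hw, e⟩ := hs y hy
    rw [key (g y) (hg y (YX hy)).1 w (D.WB hw) y (YX hy) (hg y (YX hy)).2 (by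
      rw [e, inv_mul_cancel]; exact one_mem _)]
    exact φW w hw
  · intro t ht a ha
    show φ (g (t * a * t⁻¹)) = t * φ (g a) * t⁻¹
    rw [← φT t ht _ (hg a ha).1]
    refine key _ (hg _ (TX t ht a ha)).1 _ (TB t ht _ (hg a ha).1) (t * a * t⁻¹) (TX t ht a ha)
      (hg _ (TX t ht a ha)).2 ?_
    have e : (t * a * t⁻¹)⁻¹ * ((t * g a * t⁻¹)⁻¹ * τ (t * g a * t⁻¹)) =
        t * (a⁻¹ * ((g a)⁻¹ * τ (g a))) * t⁻¹ := by
      rw [map_mul, map_mul, map_inv, tT t ht]; group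
    rw [e]
    exact TW t ht _ (hg a ha).2

end Cfsg.Agent.OddHalf.D7TwF4.Growth.AlBase
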