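import Cfsg.Agent.OddHalf.D7TwF4.Growth.Inp

/-!
# Growth for `²F₄(q)`: averaging over a group of odd order (helper702)
-/

set_option autoImplicit false
set_option linter.unusedVariables false

namespace Cfsg.Agent.OddHalf.D7TwF4.Growth.Avg

open Cfsg.Agent.OddHalf.D7TwF4.Growth.Defs Cfsg.Agent.OddHalf.D7TwF4.Growth.Tools

/-- averaging in an elementary abelian group -/
theorem avg {G T : Type*} [Group G] [Group T] [Finite T] (hodd : Odd (Nat.card T)) (ψ : T →* G) {V : Subgroup G}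
    (hV : Cm V V) (h2 : ∀ v ∈ V, v * v = 1) (hTV : ∀ t, ∀ v ∈ V, ψ t * v * (ψ t)⁻¹ ∈ V) {n : G}
    (hn : ∀ t, n⁻¹ * (ψ t * n * (ψ t)⁻¹) ∈ V) :
    ∃ v ∈ V, ∀ t, ψ t * (n * v) * (ψ t)⁻¹ = n * v := by
  classical
  let _ : CommGroup V := { (inferInstance : Group V) with
    mul_comm := fun x y => Subtype.ext (hV x x.2 y y.2) }
  have := Fintype.ofFinite T
  let e : T → V := fun t => ⟨n⁻¹ * (ψ t * n * (ψ t)⁻¹), hn t⟩
  let c : T → V →* V := fun t =>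
    { toFun := fun v => ⟨ψ t * v * (ψ t)⁻¹, hTV t v v.2⟩
      map_one' := Subtype.ext (by show ψ t * ((1 : V) : G) * (ψ t)⁻¹ = ((1 : V) : G); simp)
      map_mul' := fun a b => Subtype.ext (by
        show ψ t * ((a * b : V) : G) * (ψ t)⁻¹ = (ψ t * (a : G) * (ψ t)⁻¹) * (ψ t * (b : G) * (ψ t)⁻¹)
        rw [Subgroup.coe_mul]; group) }
  have he : ∀ g h, e (g * h) = e g * c g (e h) := by
    intro g h
    apply Subtype.ext
    show n⁻¹ * (ψ (g * h) * n * (ψ (g * h))⁻¹) =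
      (n⁻¹ * (ψ g * n * (ψ g)⁻¹)) * (ψ g * (n⁻¹ * (ψ h * n * (ψ h)⁻¹)) * (ψ g)⁻¹)
    rw [map_mul]; group
  have hsq : ∀ v : V, v * v = 1 := fun v => Subtype.ext (h2 v v.2)
  have hpow : ∀ v : V, v ^ Nat.card T = v := by
    intro v
    obtain ⟨k, hk⟩ := hodd
    rw [hk, pow_succ, pow_mul, pow_two, hsq, one_pow, one_mul]
  let s : V := ∏ t : T, e t
  have hs : ∀ g, s = e g * c g s := by
    intro g
    have h1 : s = ∏ t : T, e (g * t) := (Fintype.prod_equiv (Equiv.mulLeft g) _ _ (fun t => rfl)).symm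
    have h3 : ∏ t : T, e (g * t) = (e g) ^ Nat.card T * c g s := by
      simp only [he]
      rw [Finset.prod_mul_distrib, Finset.prod_const, Finset.card_univ, Nat.card_eq_fintype_card, map_prod]
    rw [h3, hpow] at h1
    exact h1
  refine ⟨s, s.2, fun t => ?_⟩
  have h1 : (s : G) = (n⁻¹ * (ψ t * n * (ψ t)⁻¹)) * (ψ t * s * (ψ t)⁻¹) := congrArg Subtype.val (hs t)
  calc ψ t * (n * s) * (ψ t)⁻¹ = n * ((n⁻¹ * (ψ t * n * (ψ t)⁻¹)) * (ψ t * s * (ψ t)⁻¹)) := by group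
    _ = n * s := by rw [← h1]

/-- the version for a subgroup `T` -/
theorem avg' {G : Type*} [Group G] {T V : Subgroup G} [Finite T] (hodd : Odd (Nat.card T)) (hV : Cm V V)
    (h2 : ∀ v ∈ V, v * v = 1) (hTV : Nz T V) {n : G} (hn : ∀ t ∈ T, n⁻¹ * (t * n * t⁻¹) ∈ V) :
    ∃ v ∈ V, ∀ t ∈ T, t * (n * v) = n * v * t := by
  obtain ⟨v, hv, h1⟩ := avg hodd T.subtype hV h2 (fun t v hv => hTV t t.2 v hv) (fun t => hn t t.2)
  exact ⟨v, hv, fun t ht => mul_inv_eq_iff_eq_mul.1 (h1 ⟨t, ht⟩)⟩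

/-- two steps: `E ≤ V`, `E` and `V / E` elementary abelian -/
theorem avg2 {G : Type*} [Group G] {T E V : Subgroup G} [Finite T] (hodd : Odd (Nat.card T)) (hE : Cm E E)
    (h2 : ∀ v ∈ E, v * v = 1) (hTE : Nz T E) (hEV : E ≤ V) (hV : Cl V V E) (hV2 : ∀ v ∈ V, v * v ∈ E)
    (hTV : Nz T V) {n : G} (hnE : n ∈ Subgroup.normalizer (E : Set G))
    (hn : ∀ t ∈ T, n⁻¹ * (t * n * t⁻¹) ∈ V) :
    ∃ v ∈ V, ∀ t ∈ T, t * (n * v) = n * v * t := by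
  have hVE : V ≤ Subgroup.normalizer (E : Set G) := (hV.mono le_rfl hEV le_rfl).nz le_rfl |>.le
  let H : Subgroup G := Subgroup.normalizer (E : Set G)
  let Q := H ⧸ E.subgroupOf H
  let π : H →* Q := QuotientGroup.mk' (E.subgroupOf H)
  have hker : ∀ x : H, π x = 1 ↔ (x : G) ∈ E := by
    intro x
    rw [QuotientGroup.mk'_apply, QuotientGroup.eq_one_iff, Subgroup.mem_subgroupOf]
  have hTH : T ≤ H := hTE.le
  let ψ : T →* Q := π.comp (Subgroup.inclusion hTH)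
  let V' : Subgroup Q := (V.subgroupOf H).map π
  have hV' : Cm V' V' := by
    rintro _ ⟨a, ha, rfl⟩ _ ⟨b, hb, rfl⟩
    have : π (a * b * a⁻¹ * b⁻¹) = 1 := (hker _).2 (hV _ (Subgroup.mem_subgroupOf.1 ha) _ (Subgroup.mem_subgroupOf.1 hb))
    simp only [map_mul, map_inv] at this
    have h3 := mul_inv_eq_one.1 this
    exact mul_inv_eq_iff_eq_mul.1 h3
  have hV2' : ∀ v ∈ V', v * v = 1 := by
    rintro _ ⟨a, ha, rfl⟩
    rw [← map_mul]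
    exact (hker _).2 (hV2 _ (Subgroup.mem_subgroupOf.1 ha))
  obtain ⟨v', hv', h1⟩ := avg hodd ψ hV' hV2' (by
      rintro t _ ⟨a, ha, rfl⟩
      exact ⟨⟨t, hTH t.2⟩ * a * ⟨t, hTH t.2⟩⁻¹, Subgroup.mem_subgroupOf.2 (hTV t t.2 _ (Subgroup.mem_subgroupOf.1 ha)), by
        simp only [map_mul, map_inv]; rfl⟩) (n := π ⟨n, hnE⟩) (by
      intro t
      refine ⟨⟨n, hnE⟩⁻¹ * (⟨t, hTH t.2⟩ * ⟨n, hnE⟩ * ⟨t, hTH t.2⟩⁻¹), Subgroup.mem_subgroupOf.2 (hn t t.2), ?_⟩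
      simp only [map_mul, map_inv]; rfl)
  obtain ⟨a, ha, rfl⟩ := hv'
  have haV : (a : G) ∈ V := Subgroup.mem_subgroupOf.1 ha
  obtain ⟨v, hv, h3⟩ := avg' hodd hE h2 hTE (n := n * a) (by
    intro t ht
    have h4 := h1 ⟨t, ht⟩
    have h5 : π ((⟨n, hnE⟩ * a)⁻¹ * (⟨t, hTH ht⟩ * (⟨n, hnE⟩ * a) * ⟨t, hTH ht⟩⁻¹)) = 1 := by
      have e : (⟨n, hnE⟩ : H) * a = (⟨n, hnE⟩ * a : H) := rfl
      simp only [map_mul, map_inv]
      rw [inv_mul_eq_one]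
      simp only [← map_mul, ← map_inv]
      have h6 : π ⟨t, hTH ht⟩ * (π ⟨n, hnE⟩ * π a) * (π ⟨t, hTH ht⟩)⁻¹ = π ⟨n, hnE⟩ * π a := h4
      rw [← map_inv, ← map_mul, ← map_mul, ← map_mul] at h6
      exact h6.symm
    exact (hker _).1 h5)
  exact ⟨a * v, mul_mem haV (hEV hv), fun t ht => by rw [← mul_assoc n]; exact h3 t ht⟩

end Cfsg.Agent.OddHalf.D7TwF4.Growth.Avg
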