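import Cfsg.Agent.OddHalf.D7TwF4.Growth.Mq

/-!
# Growth for `²F₄(q)`: `D₀`, `P`, `N''`, `Q'` are `t`-free (helper702)
-/

set_option autoImplicit false
set_option linter.unusedVariables false

namespace Cfsg.Agent.OddHalf.D7TwF4.Growth.Dq

open Cfsg.Agent.OddHalf.D7TwF4.Growth.Defs Cfsg.Agent.OddHalf.D7TwF4.Growth.Tools
open Cfsg.Agent.OddHalf.D7TwF4.Growth.Frame Cfsg.Agent.OddHalf.D7TwF4.Growth.Two
open Cfsg.Agent.OddHalf.D7TwF4.Growth.Inp Cfsg.Agent.OddHalf.D7TwF4.Growth.AlBase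
open Cfsg.Agent.OddHalf.D7TwF4.Growth.Al Cfsg.Agent.OddHalf.D7TwF4.Growth.Mq

variable {G : Type*} [Group G] {τ : G →* G} {X Y W T B N : ℤ → Subgroup G}

theorem EK_neg_le (W : ℤ → Subgroup G) : W (-1) ≤ EK (F 0 (-1) W) := by
  have h := e1 (F 0 (-1) W)
  exact h

/-- `D₀` -/
theorem dD (h : Inp2 τ X Y W T B N) : Dbl τ (D W B) (Q1 X Y) :=
  ((dQ h.toInp).sup_B h.tt (db0 h) (((e0 W).trans (er _)).trans (rq _)) (base h.toInp).i3 (b0A h).nz).1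

/-- `⁅B₂, W₋₁⁆ ≤ W₀` -/
theorem b2wm1 [Finite G] (h : Inp2 τ X Y W T B N) : Cl (B 2) (W (-1)) (W 0) := by
  have h1 := bm2w1 (rf2 h 0)
  exact h1

theorem b2wm2 [Finite G] (h : Inp2 τ X Y W T B N) : Cm (B 2) (W (-2)) := by
  have h1 := bm2w2 (rf2 h 0)
  exact h1

theorem b2b0 [Finite G] (h : Inp2 τ X Y W T B N) : Cl (B 2) (B 0) (W 1) := by
  have h1 := bm2b0 (rf2 h 0)
  exact h1

theorem b2E (h : Inp2 τ X Y W T B N) : Cm (B 2) (EK W) := by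
  have h1 := (base2 (rf2 h 1)).bA.mono le_rfl ((er _).trans (rq _))
  rw [EK_ref] at h1
  exact h1

/-- `B₂` normalises `D₀` -/
theorem b2D [Finite G] (h : Inp2 τ X Y W T B N) : Nz (B 2) (D W B) := by
  have hQ : Q2 W ≤ D W B := le_sup_left
  have hE : EK W ≤ D W B := ((er W).trans (rq W)).trans hQ
  have f1 : Nl (B 2) (EK W) (D W B) := nl_cm (b2E h) hE
  have f2 : Nl (B 2) (W (-1)) (D W B) := nl_cl (b2wm1 h) ((e0 W).trans hE) (((r1 W).trans (rq W)).trans hQ)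
  have f3 : Nl (B 2) (W (-2)) (D W B) := nl_cm (b2wm2 h) ((q2 W).trans hQ)
  have f4 : Nl (B 2) (B 0) (D W B) := nl_cl (b2b0 h) ((e1 W).trans hE) le_sup_right
  exact (((f1.sup f2).sup f3).sup f4)

/-- `P` -/
theorem dP [Finite G] (h : Inp2 τ X Y W T B N) : Dbl τ (P W B) (PK X Y) := by
  have hE : EK W ≤ D W B := ((er W).trans (rq W)).trans le_sup_left
  exact ((dD h).sup_B h.tt (db2 h) ((e2 W).trans hE) (base h.toInp).i4 (b2D h)).1

theorem w3P (h : Inp2 τ X Y W T B N) : Nz (W 3) (P W B) := by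
  have hP : P W B ≤ N 1 := (le_sup_left : P W B ≤ M W B).trans (MN h)
  have hE : EK W ≤ P W B := (((er W).trans (rq W)).trans le_sup_left).trans le_sup_left
  have h1 : Cl (W 3) (P W B) (P W B) := ((base2 h).ncomm.mono ((W3M W B).trans (MN h)) hP le_rfl).mono3 hE
  exact h1.nz le_rfl

/-- `N''` -/
theorem dM [Finite G] (h : Inp2 τ X Y W T B N) : Dbl τ (M W B) (MK X Y) :=
  dSup h.toGen (dP h) 3 (base h.toInp).i5 (w3P h)

/-- `Q'` -/
theorem dQp [Finite G] (h : Inp2 τ X Y W T B N) : Dbl τ (Qp W B) (QpK X Y) :=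
  ((dM h).sup_B h.tt (dbm2 h) ((q2 W).trans (QM W B)) (base h.toInp).i6 (bm2M h)).1

end Cfsg.Agent.OddHalf.D7TwF4.Growth.Dq
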