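import Cfsg.Agent.OddHalf.D7TwF4.Growth.Inp

/-!
# Growth for `²F₄(q)`: level 5, interface of (s1) - (r4) (helper583; text bb ODD 13178)

`FiveA.base5A : Inp5 τ X Y W T B N → Base5A τ X Y W T B N` (in all frames by `inp5`).
-/

set_option autoImplicit false
set_option linter.unusedVariables false

namespace Cfsg.Agent.OddHalf.D7TwF4.Growth.FiveDef

open Cfsg.Agent.OddHalf.D7TwF4.Growth.Defs Cfsg.Agent.OddHalf.D7TwF4.Growth.Tools
open Cfsg.Agent.OddHalf.D7TwF4.Growth.Frame Cfsg.Agent.OddHalf.D7TwF4.Growth.Two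
open Cfsg.Agent.OddHalf.D7TwF4.Growth.Inp

variable {G : Type*} [Group G]

/-- Level 5 (s1) - (r4): relations of `W₋₃`, `W₃` with `X₋₃ W₋₃`, `W₁ W₂` -/
structure Base5A (τ : G →* G) (X Y W T B N : ℤ → Subgroup G) : Prop where
  /-- (s1) -/
  s1 : Cl (W 3) (X (-3)) (D W B)
  /-- (s2) -/
  s2 : Cl (W (-3)) (X 3) (D W B)
  /-- (s3) -/
  s3 : Cl (W 3) (W (-3)) (D W B)
  /-- (r2) -/
  r2 : Cl (W (-3)) (W 1) (W 0)
  /-- (r3) -/
  r3 : Cl (W (-3)) (Y 2) (W 0)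
  /-- (r4) -/
  r4 : Cl (W (-3)) (W 2) (W 0)

end Cfsg.Agent.OddHalf.D7TwF4.Growth.FiveDef
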