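import Cfsg.Agent.OddHalf.D7TwF4.Growth.Three
import Cfsg.Agent.OddHalf.D7TwF4.Growth.AlBase
import Cfsg.Agent.OddHalf.D7TwF4.Growth.FiveDef

/-!
# Growth for `²F₄(q)`: level 5 (s1) - (r4) (helper583; text bb ODD 13178)

`base5A : Inp5 τ X Y W T B N → Base5A τ X Y W T B N`.
-/

set_option autoImplicit false
set_option linter.unusedVariables false

namespace Cfsg.Agent.OddHalf.D7TwF4.Growth.FiveA

open Cfsg.Agent.OddHalf.D7TwF4.Growth.Defs Cfsg.Agent.OddHalf.D7TwF4.Growth.Tools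
open Cfsg.Agent.OddHalf.D7TwF4.Growth.Frame Cfsg.Agent.OddHalf.D7TwF4.Growth.Two
open Cfsg.Agent.OddHalf.D7TwF4.Growth.Inp Cfsg.Agent.OddHalf.D7TwF4.Growth.FiveDef
open Cfsg.Agent.OddHalf.D7TwF4.Growth.NOne
open Cfsg.Agent.OddHalf.D7TwF4.Growth

variable {G : Type*} [Group G] {τ : G →* G} {X Y W T B N : ℤ → Subgroup G}

/-! ### positions -/

theorem Fk {c e k j : ℤ} (Z : ℤ → Subgroup G) (hj : 2 * c + e * k = j) : F c e Z k = Z j := by subst hj; rfl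

theorem nX3 : F 0 (-1) X (-3) = X 3 := Fk X (by norm_num)
theorem nX3' : F 0 (-1) X 3 = X (-3) := Fk X (by norm_num)
theorem nX2 : F 0 (-1) X (-2) = X 2 := Fk X (by norm_num)

theorem EK_neg (W : ℤ → Subgroup G) : EK (F 0 (-1) W) = W 0 ⊔ W (-1) ⊔ W (-2) := by
  show F 0 (-1) W 0 ⊔ F 0 (-1) W 1 ⊔ F 0 (-1) W 2 = _
  rw [Fk (j := 0) W (by norm_num), Fk (j := -1) W (by norm_num), Fk (j := -2) W (by norm_num)]

theorem Q2_neg (W : ℤ → Subgroup G) : Q2 (F 0 (-1) W) = Q2 W := by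
  show EK (F 0 (-1) W) ⊔ F 0 (-1) W (-1) ⊔ F 0 (-1) W (-2) = W 0 ⊔ W 1 ⊔ W 2 ⊔ W (-1) ⊔ W (-2)
  rw [EK_neg, Fk (j := 1) W (by norm_num), Fk (j := 2) W (by norm_num)]
  ac_rfl

theorem D_neg (W B : ℤ → Subgroup G) : D (F 0 (-1) W) (F 0 (-1) B) = D W B := by
  show Q2 (F 0 (-1) W) ⊔ F 0 (-1) B 0 = Q2 W ⊔ B 0
  rw [Q2_neg, Fk (j := 0) B (by norm_num)]

/-! ### odd indices -/

theorem X3W (h : Gen τ X Y W T) : X 3 ≤ W 3 := by
  have e : Y 3 = X 3 := h.Yo 1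
  rw [← e]; exact h.YW 3

theorem Xm3Y (h : Gen τ X Y W T) : Y (-3) = X (-3) := by
  have e := h.Yo (-2)
  norm_num at e; exact e

theorem Xm3W (h : Gen τ X Y W T) : X (-3) ≤ W (-3) := by
  rw [← Xm3Y h]; exact h.YW _

theorem Xm1Y (h : Gen τ X Y W T) : Y (-1) = X (-1) := by
  have e := h.Yo (-1)
  norm_num at e; exact e

theorem X1Y (h : Gen τ X Y W T) : Y 1 = X 1 := h.Yo 0

theorem X1Q (h : Gen τ X Y W T) : X 1 ≤ Q2 W := by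
  rw [← X1Y h]; exact (h.YW 1).trans ((y1E W).trans (EQ2 W))

theorem Xm1Q (h : Gen τ X Y W T) : X (-1) ≤ Q2 W := by
  rw [← Xm1Y h]; exact (h.YW (-1)).trans (ym1Q2 W)

theorem W0Q : W 0 ≤ Q2 W := (y0E W).trans (EQ2 W)
theorem W1Q : W 1 ≤ Q2 W := (y1E W).trans (EQ2 W)
theorem W2Q : W 2 ≤ Q2 W := (y2E W).trans (EQ2 W)

/-! ### `D₀` -/

theorem cD (h : Inp2 τ X Y W T B N) : Cm (D W B) (Q2 W) := (Three.cA h.toInp).sup (base2 h).bA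

theorem dD (h : Inp2 τ X Y W T B N) : Dbl τ (D W B) (Q1 X Y) :=
  ((Three.dQ2 h.toInp).sup_B h.tt (base2 h).db W0Q (base h.toInp).i3 (base2 h).bA.nz).1

theorem D_le_N (h : Inp2 τ X Y W T B N) : D W B ≤ N 1 := sup_le (base2 h).nA (base2 h).nB

theorem W3_le_N (h : Inp2 τ X Y W T B N) : W 3 ≤ N 1 := by
  rw [(base2 h).ndec]
  exact le_sup_right.trans le_sup_left

theorem E_le_D (W B : ℤ → Subgroup G) : EK W ≤ D W B := (EQ2 W).trans le_sup_left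

theorem nzN (h : Inp2 τ X Y W T B N) : Nz (N 1) (D W B) :=
  ((base2 h).ncomm.mono le_rfl (D_le_N h) le_rfl).nz (E_le_D W B)

theorem nz3 (h : Inp2 τ X Y W T B N) : Nz (W 3) (D W B) := (nzN h).mono (W3_le_N h)

theorem nzm3 (h : Inp2 τ X Y W T B N) : Nz (W (-3)) (D W B) := by
  have h1 := nz3 (rf2 h 0)
  rwa [D_neg, Fk (j := -3) W (by norm_num)] at h1

theorem nzT (h : Inp2 τ X Y W T B N) (i : ℤ) : Nz (T i) (D W B) :=
  (((((h.TW i 0).sup' (h.TW i 1)).sup' (h.TW i 2)).sup' (h.TW i (-1))).sup' (h.TW i (-2))).sup' ((base2 h).bTn i)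

/-- `X₋₃` normalises `Q1` -/
theorem nzQ1 (h : Inp2 τ X Y W T B N) : Nz (X (-3)) (Q1 X Y) :=
  Three.nz_fix (dD h) (h.tX _) ((nzm3 h).mono (Xm3W h.toGen))

theorem Q1_le_D (h : Inp2 τ X Y W T B N) : Q1 X Y ≤ D W B := (dD h).le

/-! ### the centraliser of `W₀`, `X₁`, `X₋₁`, `Z₂` -/

theorem w32 (h : Inp τ X Y W T) : Cm (W 3) (W 2) := (base (sh h 1)).w01.symm
theorem w31 (h : Inp τ X Y W T) : Cm (W 3) (W 1) := (base (sh h 1)).w11.symm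
theorem w30 (h : Inp τ X Y W T) : Cm (W 3) (W 0) := (base (rf h 1)).w12

theorem wm30 (h : Inp τ X Y W T) : Cm (W (-3)) (W 0) := by
  have h1 := w30 (rf h 0)
  rwa [Fk (j := -3) W (by norm_num), Fk (j := 0) W (by norm_num)] at h1

theorem wm31 (h : Inp τ X Y W T) : Cm (W (-3)) (W (-1)) := by
  have h1 := w31 (rf h 0)
  rwa [Fk (j := -3) W (by norm_num), Fk (j := -1) W (by norm_num)] at h1

theorem nr33 (h : Inp2 τ X Y W T B N) : Cl (X (-3)) (Y 3) (Q1 X Y ⊔ Y 3) := by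
  have e : Y 3 = X 3 := h.Yo 1
  rw [e]
  refine (base h.toInp).r33.symm.mono3 (le_trans ?_ le_sup_left)
  exact sup_le ((ym1Q2 Y).trans le_sup_left) (((y1E Y).trans (EQ2 Y)).trans le_sup_left)

theorem nzQ13 (h : Inp2 τ X Y W T B N) : Nz (X (-3)) (Q1 X Y ⊔ Y 3) := by
  rw [sup_comm]
  exact Cl.nz' (by rw [sup_comm]; exact nr33 h) (nzQ1 h)

/-- (k5) without the part in `X₋₃` -/
theorem k5' (h : Inp2 τ X Y W T B N) {c : G} (hc : τ c = c) (h0 : ∀ w ∈ W 0, c * w = w * c)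
    (h1 : ∀ x ∈ X (-1), c * x = x * c) (h2 : ∀ x ∈ X 1, c * x = x * c) (h3 : ∀ y ∈ Y 2, c * y = y * c) :
    c ∈ Q1 X Y ⊔ Y 3 := by
  have b := base h.toInp
  obtain ⟨q, hq, y, hy, rfl⟩ := mem_sup (by rw [Xm3Y h.toGen]; exact nzQ13 h) (b.k5 c hc h0 h1 h2)
  have hq2 : ∀ z ∈ Y 2, q * z = z * q := by
    have h4 : Cm (Q1 X Y ⊔ Y 3) (Y 2) := by
      refine Cm.sup ?_ (((w32 h.toInp).mono (h.YW 3) (h.YW 2)))
      exact (cD h).mono (Q1_le_D h) ((h.YW 2).trans W2Q)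
    exact h4 q hq
  have hy1 : y = 1 := b.kc y (by rw [← Xm3Y h.toGen]; exact hy) fun z hz => comm_of_mul (h3 z hz) (hq2 z hz)
  rw [hy1, mul_one]
  exact hq

/-! ### (s1) -/

theorem xm3_w2 (h : Inp τ X Y W T) : Cl (W 2) (X (-3)) (W 0) := by
  have h1 := (base (rf h 0)).c23
  rwa [Fk (j := 2) W (by norm_num), Fk (j := -3) X (by norm_num), Fk (j := 0) W (by norm_num)] at h1

/-- `[X₋₃, W₁] = 1` -/
theorem xm3_w1 (h : Inp2 τ X Y W T B N) : Cm (W 1) (X (-3)) := by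
  have h1 := (base2 (sh2 h (-1))).o4
  rwa [Fk (j := 1) W (by norm_num), Fk (j := -3) X (by norm_num)] at h1

/-- `[W₋₃, X₁] = 1` -/
theorem wm3_x1 (h : Inp2 τ X Y W T B N) : Cm (W (-3)) (X 1) := by
  have h1 := (base2 (rf2 h 0)).o4
  rwa [Fk (j := -3) W (by norm_num), Fk (j := 1) X (by norm_num)] at h1

/-- a commutator commutes with `y`: `y a y⁻¹ ∈ a R`, `R` centralises `b` -/
theorem cc_left {R : Subgroup G} {a b y : G} (ha : a⁻¹ * y * a * y⁻¹ ∈ R) (hb : b * y = y * b)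
    (hR : ∀ r ∈ R, r * b = b * r) : (a * b * a⁻¹ * b⁻¹) * y = y * (a * b * a⁻¹ * b⁻¹) :=
  comm_comm_left (g := a⁻¹ * y * a * y⁻¹) (by group) hb (hR _ ha)

theorem cc_right {R : Subgroup G} {a b y : G} (hb : b⁻¹ * y * b * y⁻¹ ∈ R) (ha : a * y = y * a)
    (hR : ∀ r ∈ R, r * a = a * r) : (a * b * a⁻¹ * b⁻¹) * y = y * (a * b * a⁻¹ * b⁻¹) :=
  comm_comm_right (g := b⁻¹ * y * b * y⁻¹) (by group) ha (hR _ hb)

theorem s1_mem (h : Inp2 τ X Y W T B N) {w x : G} (hw : w ∈ W 3) (hx : x ∈ X (-3)) :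
    w * x * w⁻¹ * x⁻¹ ∈ D W B ⊔ Y 3 := by
  have b := base h.toInp
  have nw := (nz3 h).le hw
  have nx := (nzm3 h).le (Xm3W h.toGen hx)
  have tx : τ x = x := h.tX _ x hx
  have hy : w⁻¹ * τ w ∈ Y 3 := One.brkW h.toGen 3 hw
  have hy' : w⁻¹ * τ w ∈ X 3 := h.YX 3 hy
  have hD : (w * x * w⁻¹ * x⁻¹)⁻¹ * τ (w * x * w⁻¹ * x⁻¹) ∈ D W B := by
    refine tau_comm (a' := w⁻¹ * τ w) (b' := 1) (by group) (by rw [tx, mul_one]) nw nx ?_ (by simp) (by simp)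
    refine (le_trans ?_ (Q1_le_D h)) (b.r33 _ hy' x hx)
    exact sup_le ((ym1Q2 Y).trans le_sup_left) (((y1E Y).trans (EQ2 Y)).trans le_sup_left)
  obtain ⟨r, hr, hcr⟩ := (dD h).exists_fix h.tt hD
  have hrA : ∀ a ∈ Q2 W, r * a = a * r := cD h r hr
  have c0 : ∀ z ∈ W 0, (w * x * w⁻¹ * x⁻¹) * z = z * (w * x * w⁻¹ * x⁻¹) := fun z hz =>
    comm_comm (w30 h.toInp w hw z hz) (wm30 h.toInp x (Xm3W h.toGen hx) z hz)
  have c1 : ∀ z ∈ X (-1), (w * x * w⁻¹ * x⁻¹) * z = z * (w * x * w⁻¹ * x⁻¹) := fun z hz =>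
    comm_comm ((base2 h).o4 w hw z hz) (wm31 h.toInp x (Xm3W h.toGen hx) z (by
      rw [← Xm1Y h.toGen] at hz; exact h.YW _ hz))
  have c2 : ∀ z ∈ X 1, (w * x * w⁻¹ * x⁻¹) * z = z * (w * x * w⁻¹ * x⁻¹) := fun z hz =>
    comm_comm (w31 h.toInp w hw z (by rw [← X1Y h.toGen] at hz; exact h.YW _ hz))
      (wm3_x1 h x (Xm3W h.toGen hx) z hz)
  have c3 : ∀ z ∈ Y 2, (w * x * w⁻¹ * x⁻¹) * z = z * (w * x * w⁻¹ * x⁻¹) := fun z hz => by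
    have hz2 := h.YW 2 hz
    refine cc_right (R := W 0) ?_ (w32 h.toInp w hw z hz2) fun r hr => ((w30 h.toInp) w hw r hr).symm
    have h1 := (xm3_w2 h.toInp).symm x⁻¹ (inv_mem hx) z hz2
    rwa [inv_inv] at h1
  have hk := k5' h hcr (fun z hz => comm_mul (c0 z hz) (hrA z (W0Q hz)))
    (fun z hz => comm_mul (c1 z hz) (hrA z (Xm1Q h.toGen hz)))
    (fun z hz => comm_mul (c2 z hz) (hrA z (X1Q h.toGen hz)))
    (fun z hz => comm_mul (c3 z hz) (hrA z (W2Q (h.YW 2 hz))))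
  have e : w * x * w⁻¹ * x⁻¹ = (w * x * w⁻¹ * x⁻¹ * r) * r⁻¹ := by group
  rw [e]
  exact mul_mem ((sup_le_sup_right (Q1_le_D h) _) hk) (Subgroup.mem_sup_left (inv_mem hr))

theorem s1 [Finite G] (h : Inp2 τ X Y W T B N) : Cl (W 3) (X (-3)) (D W B) := by
  refine Cl.symm fun x hx w hw => ?_
  obtain ⟨t, ht, h1⟩ := h.hf 3 (-3) (by norm_num)
  refine kill (B := X (-3)) (R := D W B) (h := t) (x := w) (h.TX 3 (-3) t ht) h1 (h.TWc 3 t ht w hw)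
    ((nzm3 h).mono (Xm3W h.toGen)) (nz3 h w hw) (fun x hx => ?_) x hx
  have h2 := inv_mem (s1_mem h hw hx)
  have e : (w * x * w⁻¹ * x⁻¹)⁻¹ = x * w * x⁻¹ * w⁻¹ := by group
  rw [e] at h2
  exact AlBase.brk_sup ((nz3 h).mono (h.YW 3)) (nzT h 3 t ht) (fun a ha => h.TWc 3 t ht a (h.YW 3 ha)) h2

/-! ### (s2) -/

theorem s2 [Finite G] (h : Inp2 τ X Y W T B N) : Cl (W (-3)) (X 3) (D W B) := by
  have h1 := s1 (rf2 h 0)
  rwa [D_neg, Fk (j := -3) W (by norm_num), Fk (j := 3) X (by norm_num)] at h1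

/-! ### (s3) -/

theorem s3_mem [Finite G] (h : Inp2 τ X Y W T B N) {w v : G} (hw : w ∈ W 3) (hv : v ∈ W (-3)) :
    w * v * w⁻¹ * v⁻¹ ∈ D W B ⊔ Y 3 ⊔ Y (-3) := by
  have b := base h.toInp
  have nw := (nz3 h).le hw
  have nv := (nzm3 h).le hv
  have hy : w⁻¹ * τ w ∈ X 3 := h.YX 3 (One.brkW h.toGen 3 hw)
  have hy' : v⁻¹ * τ v ∈ X (-3) := h.YX _ (One.brkW h.toGen (-3) hv)
  have hD : (w * v * w⁻¹ * v⁻¹)⁻¹ * τ (w * v * w⁻¹ * v⁻¹) ∈ D W B := by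
    refine tau_comm (a' := w⁻¹ * τ w) (b' := v⁻¹ * τ v) (by group) (by group) nw nv ((s2 h).symm _ hy v hv)
      (s1 h w hw _ hy') (s1 h _ (X3W h.toGen hy) _ hy')
  obtain ⟨r, hr, hcr⟩ := (dD h).exists_fix h.tt hD
  have hrA : ∀ a ∈ Q2 W, r * a = a * r := cD h r hr
  have c0 : ∀ z ∈ W 0, (w * v * w⁻¹ * v⁻¹) * z = z * (w * v * w⁻¹ * v⁻¹) := fun z hz =>
    comm_comm (w30 h.toInp w hw z hz) (wm30 h.toInp v hv z hz)
  have c1 : ∀ z ∈ X (-1), (w * v * w⁻¹ * v⁻¹) * z = z * (w * v * w⁻¹ * v⁻¹) := fun z hz =>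
    comm_comm ((base2 h).o4 w hw z hz) (wm31 h.toInp v hv z (by
      rw [← Xm1Y h.toGen] at hz; exact h.YW _ hz))
  have c2 : ∀ z ∈ X 1, (w * v * w⁻¹ * v⁻¹) * z = z * (w * v * w⁻¹ * v⁻¹) := fun z hz =>
    comm_comm (w31 h.toInp w hw z (by rw [← X1Y h.toGen] at hz; exact h.YW _ hz)) (wm3_x1 h v hv z hz)
  have hk := b.k5 _ hcr (fun z hz => comm_mul (c0 z hz) (hrA z (W0Q hz)))
    (fun z hz => comm_mul (c1 z hz) (hrA z (Xm1Q h.toGen hz)))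
    (fun z hz => comm_mul (c2 z hz) (hrA z (X1Q h.toGen hz)))
  have e : w * v * w⁻¹ * v⁻¹ = (w * v * w⁻¹ * v⁻¹ * r) * r⁻¹ := by group
  rw [e]
  exact mul_mem ((sup_le_sup_right (sup_le_sup_right (Q1_le_D h) _) _) hk)
    (Subgroup.mem_sup_left (Subgroup.mem_sup_left (inv_mem hr)))

theorem s3 [Finite G] (h : Inp2 τ X Y W T B N) : Cl (W 3) (W (-3)) (D W B) := by
  have e3 : Y 3 = X 3 := h.Yo 1
  -- `W₋₃` normalises `D₀ X₃`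
  have n1 : Nz (W (-3)) (D W B ⊔ Y 3) := by
    rw [sup_comm, e3]
    exact Cl.nz' ((s2 h).mono3 le_sup_right) (nzm3 h)
  have n2 : Nz (W 3) (D W B ⊔ Y 3) := (nz3 h).sup' ((h.Wab 3).mono le_rfl (h.YW 3)).nz
  have tn (i : ℤ) : Nz (T i) (D W B ⊔ Y 3) := (nzT h i).sup' (h.TY i 3)
  -- in `D₀ X₃`
  have k1 : Cl (W 3) (W (-3)) (D W B ⊔ Y 3) := by
    intro w hw v hv
    obtain ⟨t, ht, h1⟩ := h.hf (-3) 3 (by norm_num)
    have h1' : ∀ x ∈ W 3, t * x * t⁻¹ = x → x = 1 :=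
      AlBase.free_W h.toGen (h.tT _ t ht) h1
    refine kill (B := W 3) (R := D W B ⊔ Y 3) (h := t) (x := v) (h.TW _ 3 t ht) h1' (h.TWc (-3) t ht v hv)
      n2 (n1 v hv) (fun w hw => ?_) w hw
    exact AlBase.brk_sup (n1.mono (h.YW _)) (tn _ t ht) (fun a ha => h.TWc _ t ht a (h.YW _ ha)) (s3_mem h hw hv)
  refine Cl.symm fun v hv w hw => ?_
  obtain ⟨t, ht, h1⟩ := h.hf 3 (-3) (by norm_num)
  have h1' : ∀ x ∈ W (-3), t * x * t⁻¹ = x → x = 1 :=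
    AlBase.free_W h.toGen (h.tT _ t ht) h1
  refine kill (B := W (-3)) (R := D W B) (h := t) (x := w) (h.TW _ (-3) t ht) h1' (h.TWc 3 t ht w hw)
    (nzm3 h) (nz3 h w hw) (fun v hv => ?_) v hv
  exact AlBase.brk_sup ((nz3 h).mono (h.YW 3)) (nzT h 3 t ht) (fun a ha => h.TWc 3 t ht a (h.YW 3 ha))
    (k1.symm v hv w hw)

/-! ### (r2), (r3), (r4) -/

/-- `E₋₁` -/
theorem Em_le : EK (F 0 (-1) W) ≤ Q2 W := by
  rw [EK_neg]
  exact sup_le (sup_le W0Q (ym1Q2 W)) (ym2Q2 W)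

theorem Wm3_le_N (h : Inp2 τ X Y W T B N) : W (-3) ≤ F 0 (-1) N 1 := by
  have h1 := W3_le_N (rf2 h 0)
  rwa [Fk (j := -3) W (by norm_num)] at h1

theorem A_le_N (h : Inp2 τ X Y W T B N) : Q2 W ≤ F 0 (-1) N 1 := by
  have h1 := (base2 (rf2 h 0)).nA
  rwa [Q2_neg] at h1

/-- commutators of `W₋₃` and `A₀` -/
theorem comm_Em (h : Inp2 τ X Y W T B N) {v w : G} (hv : v ∈ W (-3)) (hw : w ∈ Q2 W) :
    v * w * v⁻¹ * w⁻¹ ∈ EK (F 0 (-1) W) :=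
  (base2 (rf2 h 0)).ncomm v (Wm3_le_N h hv) w (A_le_N h hw)

/-- the elements of `E₋₁` fixed by `τ` and commuting with `X₂`, `X₃` -/
theorem mem_Y0 (h : Inp2 τ X Y W T B N) {c : G} (hc : c ∈ EK (F 0 (-1) W)) (hτ : τ c = c)
    (h2 : ∀ x ∈ X 2, c * x = x * c) (h3 : ∀ x ∈ X 3, c * x = x * c) : c ∈ Y 0 := by
  have b := base h.toInp
  have h1 : c ∈ EK (F 0 (-1) Y) := (One.dE (rf h.toInp 0)).fix c hc hτ
  have hE : EK (F 0 (-1) Y) ≤ Q2 Y := by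
    rw [EK_neg]
    exact sup_le (sup_le ((y0E Y).trans (EQ2 Y)) (ym1Q2 Y)) (ym2Q2 Y)
  have h4 : c ∈ RK Y := b.kb c (hE h1) h3
  have h5 := (base (rf h.toInp 0)).ka c h1 (by rw [nX2]; exact h2)
  rw [Fk (j := 0) Y (by norm_num), Fk (j := -2) Y (by norm_num)] at h5
  have n1 : Nz (Y (-2)) (Y 0) := by
    have h6 : Cm (Q2 W) (Q2 W) := Three.cA h.toInp
    exact (h6.mono ((h.YW _).trans (ym2Q2 W)) ((h.YW 0).trans W0Q)).nz
  obtain ⟨a, ha, y, hy, rfl⟩ := mem_sup n1 h5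
  have h7 : y ∈ RK Y ⊓ Y (-2) := by
    refine Subgroup.mem_inf.2 ⟨?_, hy⟩
    have e : y = a⁻¹ * (a * y) := by group
    have ha' : a ∈ RK Y := (show Y 0 ≤ RK Y from (y0E Y).trans le_sup_left) ha
    rw [e]
    exact mul_mem (inv_mem ha') h4
  rw [b.i2, Subgroup.mem_bot] at h7
  rw [h7, mul_one]
  exact ha

/-- `[W₋₃, X₂] ≤ E₋₁` -/
theorem wm3_x2 (h : Inp4 τ X Y W T B N) : Cl (W (-3)) (X 2) (EK (F 0 (-1) W)) := by
  have h1 := (h.fr4 (-1) 1 (Or.inl rfl)).r54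
  have d := (h.fr2 1 1 (Or.inl rfl)).db.XB
  rw [Fk (j := 2) X (by norm_num), Fk (j := 2) B (by norm_num)] at d
  rw [Fk (j := -3) W (by norm_num), Fk (j := 2) B (by norm_num)] at h1
  have e : EK (F (-1) 1 W) = EK (F 0 (-1) W) := by
    rw [EK_neg]
    show F (-1) 1 W 0 ⊔ F (-1) 1 W 1 ⊔ F (-1) 1 W 2 = _
    rw [Fk (j := -2) W (by norm_num), Fk (j := -1) W (by norm_num), Fk (j := 0) W (by norm_num)]
    ac_rfl
  rw [e] at h1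
  exact h1.mono le_rfl d le_rfl

/-- commutators of `W₋₃` with an element of `A₀` commuting with `X₂`, `X₃` commute with `X₂`, `X₃` -/
theorem comm_23 [Finite G] (h : Inp4 τ X Y W T B N) {v w : G} (hv : v ∈ W (-3)) (hw : w ∈ Q2 W)
    (h2 : ∀ x ∈ X 2, w * x = x * w) (h3 : ∀ x ∈ X 3, w * x = x * w) :
    (∀ x ∈ X 2, (v * w * v⁻¹ * w⁻¹) * x = x * (v * w * v⁻¹ * w⁻¹)) ∧
    ∀ x ∈ X 3, (v * w * v⁻¹ * w⁻¹) * x = x * (v * w * v⁻¹ * w⁻¹) := by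
  refine ⟨fun x hx => ?_, fun x hx => ?_⟩
  · refine cc_left (R := EK (F 0 (-1) W)) ?_ (h2 x hx) fun r hr =>
      Three.cA h.toInp r (Em_le hr) w hw
    have h1 := wm3_x2 h v⁻¹ (inv_mem hv) x hx
    rwa [inv_inv] at h1
  · refine cc_left (R := D W B) ?_ (h3 x hx) fun r hr => cD h.toInp2 r hr w hw
    have h1 := s2 h.toInp2 v⁻¹ (inv_mem hv) x hx
    rwa [inv_inv] at h1

theorem x2w0 (h : Inp τ X Y W T) : Cm (X 2) (W 0) := by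
  have h1 := (base (rf h 1)).x0w2
  rwa [Fk (j := 2) X (by norm_num), Fk (j := 0) W (by norm_num)] at h1

theorem x2w1 (h : Inp τ X Y W T) : Cm (X 2) (W 1) := by
  have h1 := (base (rf h 1)).x0w1
  rwa [Fk (j := 2) X (by norm_num), Fk (j := 1) W (by norm_num)] at h1

theorem x2w2 (h : Inp τ X Y W T) : Cm (X 2) (W 2) := by
  have h1 := (base (rf h 1)).x0w0
  rwa [Fk (j := 2) X (by norm_num), Fk (j := 2) W (by norm_num)] at h1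

theorem r2' [Finite G] (h : Inp4 τ X Y W T B N) : Cl (W (-3)) (W 1) (Y 0) := by
  intro v hv w hw
  have hy : v⁻¹ * τ v ∈ X (-3) := h.YX _ (One.brkW h.toGen (-3) hv)
  have hy' : w⁻¹ * τ w ∈ X 1 := h.YX _ (One.brkW h.toGen 1 hw)
  have nb : ∀ a : G, a ∈ Subgroup.normalizer ((⊥ : Subgroup G) : Set G) := fun a =>
    (nz_of_le (A := ⊤) (R := ⊥) (by
      rw [Subgroup.normalizer_eq_top_iff.2 (by infer_instance)])).le (Subgroup.mem_top a)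
  have cb : ∀ a b : G, a * b = b * a → a * b * a⁻¹ * b⁻¹ ∈ (⊥ : Subgroup G) := by
    intro a b hab
    rw [Subgroup.mem_bot, hab, mul_inv_cancel_right, mul_inv_cancel]
  have hτ : τ (v * w * v⁻¹ * w⁻¹) = v * w * v⁻¹ * w⁻¹ := by
    have h1 := tau_comm (τ := τ) (R := ⊥) (a := v) (b := w) (a' := v⁻¹ * τ v) (b' := w⁻¹ * τ w) (by group)
      (by group) (nb v) (nb w) (cb _ _ (xm3_w1 h.toInp2 w hw _ hy).symm) (cb _ _ (wm3_x1 h.toInp2 v hv _ hy'))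
      (cb _ _ (wm3_x1 h.toInp2 _ (Xm3W h.toGen hy) _ hy'))
    rw [Subgroup.mem_bot] at h1
    exact (inv_mul_eq_one.1 h1).symm
  have h2 := comm_23 h hv (W1Q hw) (fun x hx => (x2w1 h.toInp x hx w hw).symm)
    (fun x hx => (w31 h.toInp x (X3W h.toGen hx) w hw).symm)
  exact mem_Y0 h.toInp2 (comm_Em h.toInp2 hv (W1Q hw)) hτ h2.1 h2.2

theorem r2 [Finite G] (h : Inp4 τ X Y W T B N) : Cl (W (-3)) (W 1) (W 0) := (r2' h).mono3 (h.YW 0)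

/-- the step for (r3), (r4) -/
theorem r_step [Finite G] (h : Inp4 τ X Y W T B N) {v w : G} (hv : v ∈ W (-3)) (hw : w ∈ W 2)
    (h2 : v * (w⁻¹ * τ w) * v⁻¹ * (w⁻¹ * τ w)⁻¹ ∈ W 0) : v * w * v⁻¹ * w⁻¹ ∈ W 0 := by
  have hy : v⁻¹ * τ v ∈ X (-3) := h.YX _ (One.brkW h.toGen (-3) hv)
  have hy' : w⁻¹ * τ w ∈ W 2 := h.YW _ (One.brkW h.toGen 2 hw)
  have n1 : Nz (W (-3)) (W 0) := (wm30 h.toInp).nz
  have n2 : Nz (W 2) (W 0) := (base h.toInp).w02.symm.nz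
  have h1 : (v * w * v⁻¹ * w⁻¹)⁻¹ * τ (v * w * v⁻¹ * w⁻¹) ∈ W 0 :=
    tau_comm (a' := v⁻¹ * τ v) (b' := w⁻¹ * τ w) (by group) (by group) (n1.le hv) (n2.le hw)
      ((xm3_w2 h.toInp).symm _ hy w hw) h2 ((xm3_w2 h.toInp).symm _ hy _ hy')
  obtain ⟨r, hr, hcr⟩ := (One.dW h.toGen 0).exists_fix h.tt h1
  have h3 := comm_23 h hv (W2Q hw) (fun x hx => (x2w2 h.toInp x hx w hw).symm)
    (fun x hx => (w32 h.toInp x (X3W h.toGen hx) w hw).symm)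
  have hE : W 0 ≤ EK (F 0 (-1) W) := by rw [EK_neg]; exact le_sup_left.trans le_sup_left
  have h4 := mem_Y0 h.toInp2 (mul_mem (comm_Em h.toInp2 hv (W2Q hw)) (hE hr)) hcr
    (fun x hx => comm_mul (h3.1 x hx) (x2w0 h.toInp x hx r hr).symm)
    (fun x hx => comm_mul (h3.2 x hx) ((base h.toInp).x3w0 x hx r hr).symm)
  have e : v * w * v⁻¹ * w⁻¹ = (v * w * v⁻¹ * w⁻¹ * r) * r⁻¹ := by group
  rw [e]
  exact mul_mem (h.YW 0 h4) (inv_mem hr)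

theorem r3 [Finite G] (h : Inp4 τ X Y W T B N) : Cl (W (-3)) (Y 2) (W 0) := by
  intro v hv z hz
  refine r_step h hv (h.YW 2 hz) ?_
  rw [h.tX 2 z (h.YX 2 hz), inv_mul_cancel]
  simp

theorem r4 [Finite G] (h : Inp4 τ X Y W T B N) : Cl (W (-3)) (W 2) (W 0) := fun v hv w hw =>
  r_step h hv hw (r3 h v hv _ (One.brkW h.toGen 2 hw))

/-- Level 5 (s1) - (r4) from level 4 (a) - (l). -/
theorem base5A' [Finite G] (h : Inp4 τ X Y W T B N) : Base5A τ X Y W T B N where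
  s1 := s1 h.toInp2
  s2 := s2 h.toInp2
  s3 := s3 h.toInp2
  r2 := r2 h
  r3 := r3 h
  r4 := r4 h

/-- Level 5 (s1) - (r4). -/
theorem base5A [Finite G] (h : Inp5 τ X Y W T B N) : Base5A τ X Y W T B N := base5A' h.toInp4

end Cfsg.Agent.OddHalf.D7TwF4.Growth.FiveA
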