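import Cfsg.Agent.OddHalf.D7TwF4.Growth.WDefs
import Cfsg.Agent.OddHalf.D7TwF4.Growth.KRel
import Cfsg.Agent.OddHalf.D7TwF4.KCent
import Cfsg.Agent.OddHalf.D7TwF4.Defs

/-!
# Growth for `²F₄(q)`: centralisers in `C(t)` (helper401)

* `lift0` : an element of `C(t)` centralising the double of `Z_4` lies in `i PL`;
* `kcen` : the fields `k1`, …, `k8`, in the standard position.
-/

set_option autoImplicit false
set_option linter.unusedSectionVars false
set_option linter.unusedVariables false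

namespace Cfsg.Agent.OddHalf.D7TwF4.Growth.KCen

open Cfsg.Agent.KFacts.TwF4 Cfsg.Agent.SplitTwo.ZS Cfsg.Agent.OddHalf.D7TwF4.Growth.Defs
open Cfsg.Agent.OddHalf.D7TwF4.Defs Cfsg.Agent.OddHalf.D7TwF4.Growth.KInst

universe u v w

variable {F : Type w} [Field F] {σ : F →+* F} {Y : Type u} [Group Y] {G : Type v} [Group G]
variable {S : Full σ Y} {i : Y →* G} {t : G} {W : ℤ → Subgroup G}

/-- conjugation by `t` -/
def tau (t : G) : G →* G := (MulAut.conj t).toMonoidHom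

theorem tau_apply (t x : G) : tau t x = t * x * t⁻¹ := rfl

theorem tau_eq (P : Pos S i t) (x : G) : tau t x = t * x * t := by rw [tau_apply, P.t_inv]

theorem tau_iff {c : G} : tau t c = c ↔ c * t = t * c := by
  rw [tau_apply, mul_inv_eq_iff_eq_mul]
  exact eq_comm

theorem exists_unit (P : Pos S i t) : ∃ c : Fˣ, c ≠ 1 := by
  classical
  have := P.finF
  have h := P.big
  have : Fintype F := Fintype.ofFinite F
  have h1 : 1 < Fintype.card Fˣ := by
    rw [Fintype.card_units, ← Nat.card_eq_fintype_card]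
    omega
  exact Fintype.exists_ne_of_one_lt_card h1 1

theorem exists_sigma (P : Pos S i t) : ∃ q : F, σ q ≠ q := by
  obtain ⟨c, hc⟩ := exists_unit P
  refine ⟨c, fun h => hc ?_⟩
  have h1 := S.sq (c : F)
  rw [h, h] at h1
  have h2 : (c : F) * c = c := by rw [← pow_two]; exact h1.symm
  exact Units.ext (mul_left_cancel₀ c.ne_zero (h2.trans (mul_one _).symm))

theorem exists_tor (P : Pos S i t) : ∃ h ∈ S.Tk 4, h ≠ 1 := by
  obtain ⟨c, hc⟩ := exists_unit P
  have h1 : S.h 1 c ∈ S.Tk 0 := S.mem_Tk_zero.2 ⟨c, rfl⟩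
  refine ⟨S.ck 2 (S.h 1 c), ?_, fun h => ?_⟩
  · have := S.ck_Tk 2 h1
    rwa [show (0 : ℤ) + 2 * 2 = 4 by norm_num] at this
  · have h2 := (MulEquiv.map_eq_one_iff _).1 h
    rw [← S.h_one] at h2
    exact hc (S.h_inj _ _ _ _ h2).2

/-- `i Z_4 ≤ W 2` -/
theorem Z4_W (P : Pos S i t) (D : WData S i t W) {z : Y} (hz : z ∈ S.Zc 2) : i z ∈ W 2 := by
  rw [D.mem]
  have hz' : z ∈ S.Zc ((2 : ℤ) : ZMod 8) := hz
  refine ⟨?_, ?_, ⟨1, one_mem _, ?_⟩, ?_⟩
  · rw [← map_mul]
    obtain ⟨u, rfl⟩ := hz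
    rw [S.e_mul_Zc, S.add_self, S.e_zero, map_one]
  · intro y hy
    rw [← map_mul, ← map_mul, hy z hz']
  · rw [map_one, mul_one, P.ti, mul_assoc, P.tt, mul_one]
  · rintro ⟨z', -, h⟩
    exact P.t_mul_ne h.symm

/-- **the lift** -/
theorem lift0 (P : Pos S i t) (D : WData S i t W) {c : G} (hc : tau t c = c) (hw : ∀ w ∈ W 2, c * w = w * c) :
    ∃ y ∈ S.PL, c = i y := by
  have := P.finF
  have hct := tau_iff.1 hc
  obtain ⟨y, hy⟩ := P.cZ c hct fun z hz => hw _ (Z4_W P D hz)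
  have hyz : ∀ z ∈ S.Zc 2, y * z = z * y := by
    intro z hz
    apply P.inj
    rw [map_mul, map_mul]
    have h1 := hw _ (Z4_W P D hz)
    rcases hy with rfl | rfl
    · exact h1
    · have h2 : t * (i y * i z) = t * (i z * i y) := by
        calc t * (i y * i z) = t * i y * i z := by group
          _ = i z * (t * i y) := h1
          _ = (i z * t) * i y := by group
          _ = t * (i z * i y) := by rw [← P.ti]; group
      exact mul_left_cancel h2
  have hyP : y ∈ S.PL := by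
    rw [← S.centralizer_z (z := S.e 2 0 1) ⟨1, rfl⟩ (fun h => one_ne_zero (S.e_eq_one h).2),
      Subgroup.mem_centralizer_singleton_iff]
    exact hyz _ ⟨1, rfl⟩
  refine ⟨y, hyP, ?_⟩
  rcases hy with rfl | rfl
  · rfl
  · exfalso
    obtain ⟨w, hw', h3⟩ := D.sur 2 (S.e 2 0 1) ⟨1, rfl⟩
    have h4 := hw w hw'
    have h5 : w * i y = i y * w := D.cent hw' hyz
    have h6 : t * w = w * t := by
      have h7 : t * w * i y = w * t * i y := by
        calc t * w * i y = t * (w * i y) := by group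
          _ = t * i y * w := by rw [h5]; group
          _ = w * (t * i y) := h4
          _ = _ := by group
      exact mul_right_cancel h7
    have h7 : w = w * i (S.e 2 0 1) := by
      rw [← h3, h6, mul_assoc, P.tt, mul_one]
    have h8 : i (S.e 2 0 1) = 1 := mul_eq_left.1 h7.symm
    have h9 : S.e 2 0 1 = 1 := P.inj (by rw [h8, map_one])
    exact one_ne_zero (S.e_eq_one h9).2

theorem down {A : Subgroup Y} (P : Pos S i t) {y : Y} (h : ∀ x ∈ A.map i, i y * x = x * i y) : ∀ x ∈ A, y * x = x * y :=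
  fun x hx => P.inj (by rw [map_mul, map_mul]; exact h _ ⟨x, hx, rfl⟩)

/-- **The centraliser fields.** -/
theorem kcen (P : Pos S i t) (D : WData S i t W) {V : ℤ → Subgroup G} (hV : ∀ w ∈ W 2, w ∈ V 0) :
    KCen (tau t) (fun k => (Xf S k).map i) (fun k => (Yf S k).map i) V (fun k => (Tf S k).map i) where
  k1 c hc hw h1 h2 := by
    obtain ⟨y, hy, rfl⟩ := lift0 P D hc (fun w hw' => hw w (hV w hw'))
    have g1 := down P h1
    have g2 := down P h2
    rw [Yf2] at g2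
    rw [NK_map i (Xf S) (Yf S), NK_eq]
    exact ⟨y, KCent.k1 S (fun z hz => S.comm_PL hy hz) g1 g2, rfl⟩
  k4 c hc hw h1 := by
    obtain ⟨y, hy, rfl⟩ := lift0 P D hc (fun w hw' => hw w (hV w hw'))
    have g1 := down P h1
    obtain ⟨s, hs, hs1⟩ := exists_tor P
    obtain ⟨x, hx, h, hh, e⟩ := S.centralizer_Tk hy hs hs1 (g1 s hs)
    exact ⟨i x, ⟨x, hx, rfl⟩, i h, ⟨h, hh, rfl⟩, by rw [← map_mul, e]⟩
  k5 c hc hw h1 h2 := by
    obtain ⟨y, hy, rfl⟩ := lift0 P D hc (fun w hw' => hw w (hV w hw'))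
    have g1 := down P h1
    have g2 := down P h2
    have h3 := KCent.k5 S hy g1 g2
    rw [Q1_map i (Xf S) (Yf S), Q1_eq]
    show i y ∈ S.Q1.map i ⊔ (Yf S 3).map i ⊔ (Yf S (-3)).map i
    rw [← Subgroup.map_sup, ← Subgroup.map_sup, Yf3, Yfm3]
    exact ⟨y, h3, rfl⟩
  k6a c hc hw h1 h2 := by
    obtain ⟨y, hy, rfl⟩ := lift0 P D hc (fun w hw' => hw w (hV w hw'))
    have g1 := down P h1
    have g2 := down P h2
    rw [Yf2] at g2
    have h3 := KCent.k6a S (exists_sigma P) g1 g2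
    rw [Q2_map i (Yf S), Growth.KInst.Q2_eq]
    show i y ∈ S.Q2.map i ⊔ (Xf S 4).map i
    rw [← Subgroup.map_sup]
    exact ⟨y, h3, rfl⟩
  k6b c hc hw h1 h2 := by
    obtain ⟨y, hy, rfl⟩ := lift0 P D hc (fun w hw' => hw w (hV w hw'))
    have g1 := down P h1
    have g2 := down P h2
    have h3 := KCent.k6b S (exists_sigma P) hy g1 g2
    show i y ∈ (Yf S 0).map i ⊔ (Yf S 2).map i ⊔ (Yf S 4).map i
    rw [← Subgroup.map_sup, ← Subgroup.map_sup, Yf0, Yf2, Yf4]
    exact ⟨y, h3, rfl⟩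
  k7 c hc hw h1 := by
    obtain ⟨y, hy, rfl⟩ := lift0 P D hc (fun w hw' => hw w (hV w hw'))
    have g1 := down P h1
    rw [Yf2] at g1
    have h3 := KCent.k7 S (fun z hz => S.comm_PL hy hz) g1
    rw [QpK_map i (Xf S) (Yf S), QpK_eq]
    show i y ∈ (J S.XZ 2 7).map i ⊔ (Xf S 4).map i
    rw [← Subgroup.map_sup]
    refine ⟨y, ?_, rfl⟩
    obtain ⟨x, hx, y', hy', rfl⟩ := KCent.split_at S (a := 2) (b := 8) (c := 7) (by norm_num) (by norm_num)
      (by norm_num) h3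
    exact mul_mem (Subgroup.mem_sup_right hx) (Subgroup.mem_sup_left hy')
  k8 c hc hw h1 := by
    obtain ⟨y, hy, rfl⟩ := lift0 P D hc (fun w hw' => hw w (hV w hw'))
    rw [Q2_map i (Yf S), Growth.KInst.Q2_eq] at h1
    rw [Q0_map i (Xf S) (Yf S), Q0_eq]
    refine ⟨y, KCent.k8 S hy fun x hx => ?_, rfl⟩
    obtain ⟨z, hz, e⟩ := h1 _ ⟨x, hx, rfl⟩
    have e' : i z = i (y * x * y⁻¹ * x⁻¹) := by
      rw [map_mul, map_mul, map_mul, map_inv, map_inv]; exact e
    have hz' : z ∈ Yf S 0 := hz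
    rw [Yf0] at hz'
    rw [← P.inj e']
    exact hz'

end Cfsg.Agent.OddHalf.D7TwF4.Growth.KCen
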