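import Cfsg.Agent.OddHalf.D7TwF4.Growth.Defs

/-!
# Growth of the doubled root groups of `²F₄(q)`: the fields of `Base` inside `K` (helper517)

* `KBase X Y T` : the fields of `Growth.Defs.Base` which only speak about the root groups and the torus;
* `KBase.map` : the image under an injective homomorphism.
-/

set_option autoImplicit false

namespace Cfsg.Agent.OddHalf.D7TwF4.Growth.Defs

variable {G : Type*} [Group G]

/-- The fields of `Base` which only speak about the root groups and the torus of `K`. -/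
structure KBase (X Y T : ℤ → Subgroup G) : Prop where
  -- relations in `K`
  x13 : Cm (X (-1)) (X 3)
  x04 : Cm (X 0) (X 4)
  r14 : Cl (X (-1)) (X 4) (EK Y)
  r24z : Cl (Y (-2)) (X 4) (RK Y)
  r24 : Cl (X (-2)) (X 4) (MK X Y)
  r33 : Cl (X 3) (X (-3)) (Y (-1) ⊔ Y 1)
  r34z : Cl (X (-3)) (Y 4) (MK X Y)
  r34 : Cl (X (-3)) (X 4) (QpK X Y)
  nk5 : Nz (X 5) (NK X Y)
  nk4 : Nz (X 4) (NK X Y)
  ka : ∀ c ∈ EK Y, (∀ x ∈ X (-2), c * x = x * c) → c ∈ Y 0 ⊔ Y 2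
  kb : ∀ c ∈ Q2 Y, (∀ x ∈ X 3, c * x = x * c) → c ∈ RK Y
  kc : ∀ c ∈ X (-3), (∀ y ∈ Y 2, c * y = y * c) → c = 1
  kJ : ∀ c ∈ NK X Y, (∀ x ∈ X 0, c * x = x * c) → c ∈ Q2 Y ⊔ Y 4
  kT : ∀ c ∈ NK X Y, (∀ h ∈ T 0, c * h = h * c) → c ∈ X 0
  tf : ∀ h ∈ T 0, (∀ y ∈ X (-1), h * y = y * h) → h = 1
  k2 : NK X Y ≤ Subgroup.closure {g | g ∈ Y 4 ∨ ∃ x ∈ X 5, ∃ y ∈ Y (-2), g = x * y * x⁻¹} ⊔ EK Y
  -- independence of the root groups
  i01 : Y 0 ⊓ Y 1 = ⊥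
  i012 : (Y 0 ⊔ Y 1) ⊓ Y 2 = ⊥
  i1 : EK Y ⊓ Y (-1) = ⊥
  i2 : RK Y ⊓ Y (-2) = ⊥
  i3 : Q2 Y ⊓ X 0 ≤ Y 0
  i4 : Q1 X Y ⊓ X 2 ≤ Y 2
  i5 : PK X Y ⊓ Y 3 = ⊥
  i6 : MK X Y ⊓ X (-2) ≤ Y (-2)
  i7 : QpK X Y ⊓ Y (-3) = ⊥
  i8 : Q0 X Y ⊓ Y 4 = ⊥
  i9 : (Q0 X Y ⊔ Y 4) ⊓ X 4 ≤ Y 4
  -- weights
  nh1 : ∀ f : G → G, (∀ a ∈ X 3, f a ∈ Y 2) → (∀ a ∈ X 3, ∀ b ∈ X 3, f (a * b) = f a * f b) →
    (∀ h ∈ T (-1), ∀ a ∈ X 3, f (h * a * h⁻¹) = h * f a * h⁻¹) → ∀ a ∈ X 3, f a = 1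
  nh2 : ∀ f : G → G, (∀ a ∈ X 0, f a ∈ Q2 Y) → (∀ a ∈ X 0, ∀ b ∈ X 0, f (a * b) = f a * f b) →
    (∀ a ∈ Y 0, f a = 1) →
    (∀ h ∈ T 4, ∀ a ∈ X 0, f (h * a * h⁻¹) = h * f a * h⁻¹) → ∀ a ∈ X 0, f a = 1

section map

variable {G' : Type*} [Group G'] (f : G →* G')

theorem Cm.map {A B : Subgroup G} (h : Cm A B) : Cm (A.map f) (B.map f) := by
  rintro _ ⟨a, ha, rfl⟩ _ ⟨b, hb, rfl⟩
  rw [← map_mul, ← map_mul, h a ha b hb]

theorem Cl.map {A B C : Subgroup G} (h : Cl A B C) : Cl (A.map f) (B.map f) (C.map f) := by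
  rintro _ ⟨a, ha, rfl⟩ _ ⟨b, hb, rfl⟩
  exact ⟨_, h a ha b hb, by rw [map_mul, map_mul, map_mul, map_inv, map_inv]⟩

theorem Nz.map {A R : Subgroup G} (h : Nz A R) : Nz (A.map f) (R.map f) := by
  rintro _ ⟨a, ha, rfl⟩ _ ⟨b, hb, rfl⟩
  exact ⟨_, h a ha b hb, by rw [map_mul, map_mul, map_inv]⟩

variable (X Y : ℤ → Subgroup G)

theorem EK_map : EK (fun k => (Y k).map f) = (EK Y).map f := by
  unfold EK; rw [Subgroup.map_sup, Subgroup.map_sup]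

theorem RK_map : RK (fun k => (Y k).map f) = (RK Y).map f := by
  unfold RK; rw [Subgroup.map_sup, EK_map]

theorem Q2_map : Q2 (fun k => (Y k).map f) = (Q2 Y).map f := by
  unfold Q2; rw [Subgroup.map_sup, RK_map]

theorem Q1_map : Q1 (fun k => (X k).map f) (fun k => (Y k).map f) = (Q1 X Y).map f := by
  unfold Q1; rw [Subgroup.map_sup, Q2_map]

theorem PK_map : PK (fun k => (X k).map f) (fun k => (Y k).map f) = (PK X Y).map f := by
  unfold PK; rw [Subgroup.map_sup, Q1_map]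

theorem MK_map : MK (fun k => (X k).map f) (fun k => (Y k).map f) = (MK X Y).map f := by
  unfold MK; rw [Subgroup.map_sup, PK_map]

theorem NK_map : NK (fun k => (X k).map f) (fun k => (Y k).map f) = (NK X Y).map f := by
  unfold NK; rw [Subgroup.map_sup, MK_map]

theorem QpK_map : QpK (fun k => (X k).map f) (fun k => (Y k).map f) = (QpK X Y).map f := by
  unfold QpK; rw [Subgroup.map_sup, MK_map]

theorem Q0_map : Q0 (fun k => (X k).map f) (fun k => (Y k).map f) = (Q0 X Y).map f := by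
  unfold Q0; rw [Subgroup.map_sup, QpK_map]

variable {f}

theorem inf_map_bot (hf : Function.Injective f) {A B : Subgroup G} (h : A ⊓ B = ⊥) : A.map f ⊓ B.map f = ⊥ := by
  rw [← Subgroup.map_inf_eq _ _ _ hf, h, Subgroup.map_bot]

theorem inf_map_le (hf : Function.Injective f) {A B C : Subgroup G} (h : A ⊓ B ≤ C) : A.map f ⊓ B.map f ≤ C.map f := by
  rw [← Subgroup.map_inf_eq _ _ _ hf]
  exact Subgroup.map_mono h

theorem comm_map_mem (hf : Function.Injective f) {A B C : Subgroup G}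
    (h : ∀ c ∈ A, (∀ x ∈ B, c * x = x * c) → c ∈ C) :
    ∀ c ∈ A.map f, (∀ x ∈ B.map f, c * x = x * c) → c ∈ C.map f := by
  rintro _ ⟨c, hc, rfl⟩ h1
  refine ⟨c, h c hc fun x hx => hf ?_, rfl⟩
  rw [map_mul, map_mul]
  exact h1 (f x) ⟨x, hx, rfl⟩

theorem comm_map_one (hf : Function.Injective f) {A B : Subgroup G}
    (h : ∀ c ∈ A, (∀ x ∈ B, c * x = x * c) → c = 1) :
    ∀ c ∈ A.map f, (∀ x ∈ B.map f, c * x = x * c) → c = 1 := by
  rintro _ ⟨c, hc, rfl⟩ h1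
  rw [h c hc fun x hx => hf (by rw [map_mul, map_mul]; exact h1 (f x) ⟨x, hx, rfl⟩), map_one]

/-- equivariant maps -/
theorem weight_map (hf : Function.Injective f) {A B T Z : Subgroup G}
    (h : ∀ g : G → G, (∀ a ∈ A, g a ∈ B) → (∀ a ∈ A, ∀ b ∈ A, g (a * b) = g a * g b) → (∀ a ∈ Z, g a = 1) →
      (∀ t ∈ T, ∀ a ∈ A, g (t * a * t⁻¹) = t * g a * t⁻¹) → ∀ a ∈ A, g a = 1) :
    ∀ g : G' → G', (∀ a ∈ A.map f, g a ∈ B.map f) → (∀ a ∈ A.map f, ∀ b ∈ A.map f, g (a * b) = g a * g b) →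
      (∀ a ∈ Z.map f, g a = 1) → (∀ t ∈ T.map f, ∀ a ∈ A.map f, g (t * a * t⁻¹) = t * g a * t⁻¹) →
      ∀ a ∈ A.map f, g a = 1 := by
  classical
  intro g g1 g2 g3 g4
  let g' : G → G := fun a => if h : ∃ b, f b = g (f a) then h.choose else 1
  have key : ∀ a b, f b = g (f a) → g' a = b := by
    intro a b hb
    have hex : ∃ b, f b = g (f a) := ⟨b, hb⟩
    apply hf
    show f (if h : ∃ b, f b = g (f a) then h.choose else 1) = f b
    rw [dif_pos hex, hex.choose_spec, hb]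
  have key2 : ∀ a ∈ A, f (g' a) = g (f a) := by
    intro a ha
    obtain ⟨b, -, hb⟩ := g1 (f a) ⟨a, ha, rfl⟩
    rw [key a b hb, hb]
  rintro _ ⟨a, ha, rfl⟩
  rw [← key2 a ha]
  have h1 := h g' ?_ ?_ ?_ ?_ a ha
  · rw [h1, map_one]
  · intro a ha
    obtain ⟨b, hb, hb'⟩ := g1 (f a) ⟨a, ha, rfl⟩
    rw [key a b hb']
    exact hb
  · intro a ha b hb
    apply key
    rw [map_mul, key2 a ha, key2 b hb, map_mul, g2 _ ⟨a, ha, rfl⟩ _ ⟨b, hb, rfl⟩]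
  · intro a ha
    apply key
    rw [map_one, g3 _ ⟨a, ha, rfl⟩]
  · intro t ht a ha
    apply key
    rw [map_mul, map_mul, key2 a ha, map_mul, map_mul, map_inv, g4 _ ⟨t, ht, rfl⟩ _ ⟨a, ha, rfl⟩]

/-- **The image of `KBase`.** -/
theorem KBase.map {X Y T : ℤ → Subgroup G} (H : KBase X Y T) (hf : Function.Injective f) :
    KBase (fun k => (X k).map f) (fun k => (Y k).map f) (fun k => (T k).map f) where
  x13 := H.x13.map f
  x04 := H.x04.map f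
  r14 := by rw [EK_map]; exact H.r14.map f
  r24z := by rw [RK_map]; exact H.r24z.map f
  r24 := by rw [MK_map]; exact H.r24.map f
  r33 := by
    show Cl ((X 3).map f) ((X (-3)).map f) ((Y (-1)).map f ⊔ (Y 1).map f)
    rw [← Subgroup.map_sup]; exact H.r33.map f
  r34z := by rw [MK_map]; exact H.r34z.map f
  r34 := by rw [QpK_map]; exact H.r34.map f
  nk5 := by rw [NK_map]; exact H.nk5.map f
  nk4 := by rw [NK_map]; exact H.nk4.map f
  ka := by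
    rw [EK_map]
    show ∀ c ∈ (EK Y).map f, (∀ x ∈ (X (-2)).map f, c * x = x * c) → c ∈ (Y 0).map f ⊔ (Y 2).map f
    rw [← Subgroup.map_sup]
    exact comm_map_mem hf H.ka
  kb := by rw [Q2_map, RK_map]; exact comm_map_mem hf H.kb
  kc := comm_map_one hf H.kc
  kJ := by
    rw [NK_map, Q2_map]
    show ∀ c ∈ (NK X Y).map f, (∀ x ∈ (X 0).map f, c * x = x * c) → c ∈ (Q2 Y).map f ⊔ (Y 4).map f
    rw [← Subgroup.map_sup]
    exact comm_map_mem hf H.kJ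
  kT := by rw [NK_map]; exact comm_map_mem hf H.kT
  tf := comm_map_one hf H.tf
  k2 := by
    rw [NK_map, EK_map]
    refine (Subgroup.map_mono H.k2).trans ?_
    rw [Subgroup.map_sup, MonoidHom.map_closure]
    refine sup_le_sup ((Subgroup.closure_le _).2 ?_) le_rfl
    rintro _ ⟨g, hg, rfl⟩
    refine Subgroup.subset_closure ?_
    rcases hg with hg | ⟨x, hx, y, hy, rfl⟩
    · exact Or.inl ⟨g, hg, rfl⟩
    · exact Or.inr ⟨f x, ⟨x, hx, rfl⟩, f y, ⟨y, hy, rfl⟩, by rw [map_mul, map_mul, map_inv]⟩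
  i01 := inf_map_bot hf H.i01
  i012 := by
    show ((Y 0).map f ⊔ (Y 1).map f) ⊓ (Y 2).map f = ⊥
    rw [← Subgroup.map_sup]; exact inf_map_bot hf H.i012
  i1 := by rw [EK_map]; exact inf_map_bot hf H.i1
  i2 := by rw [RK_map]; exact inf_map_bot hf H.i2
  i3 := by rw [Q2_map]; exact inf_map_le hf H.i3
  i4 := by rw [Q1_map]; exact inf_map_le hf H.i4
  i5 := by rw [PK_map]; exact inf_map_bot hf H.i5
  i6 := by rw [MK_map]; exact inf_map_le hf H.i6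
  i7 := by rw [QpK_map]; exact inf_map_bot hf H.i7
  i8 := by rw [Q0_map]; exact inf_map_bot hf H.i8
  i9 := by
    rw [Q0_map]
    show ((Q0 X Y).map f ⊔ (Y 4).map f) ⊓ (X 4).map f ≤ (Y 4).map f
    rw [← Subgroup.map_sup]
    exact inf_map_le hf H.i9
  nh1 := by
    intro g g1 g2 g3
    refine weight_map hf (A := X 3) (B := Y 2) (T := T (-1)) (Z := ⊥) (fun g' h1 h2 _ h4 => H.nh1 g' h1 h2 h4) g g1 g2
      ?_ g3
    rw [Subgroup.map_bot]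
    intro a ha
    rw [Subgroup.mem_bot] at ha
    subst ha
    have h1 := g2 1 (one_mem _) 1 (one_mem _)
    rw [mul_one] at h1
    exact left_eq_mul.1 h1
  nh2 := by
    intro g g1
    rw [Q2_map] at g1
    exact weight_map hf (A := X 0) (B := Q2 Y) (T := T 4) (Z := Y 0) (fun g' h1 h2 h3 h4 => H.nh2 g' h1 h2 h3 h4) g g1

end map

end Cfsg.Agent.OddHalf.D7TwF4.Growth.Defs
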