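import Cfsg.Agent.OddHalf.D7TwF4.Growth.KRel

/-!
# Growth of the doubled root groups of `²F₄(q)`: coordinates and weights (helper517)

* `qq u s v w z` : the elements of `Q2 = Z_2 X_3 Z_4 X_5 Z_6`;
* `kb`, `kJ`, `kT`, `tf`, `i3`, `i4`;
* `NH` : the weight lemma; `nh1`, `nh2`.
-/

set_option autoImplicit false
set_option linter.unusedSectionVars false

namespace Cfsg.Agent.OddHalf.D7TwF4.Growth.KInst

open Cfsg.Agent.KFacts.TwF4 Cfsg.Agent.SplitTwo.ZS Cfsg.Agent.OddHalf.D7TwF4.Growth.Defs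
open scoped commutatorElement

universe u

variable {F : Type*} [Field F] {σ : F →+* F} {G : Type u} [Group G] (S : Full σ G)

theorem uniq {a b : ℤ} (hb : b < a + 8) {x x' y y' : G} (hx : x ∈ S.XZ a) (hx' : x' ∈ S.XZ a)
    (hy : y ∈ J S.XZ (a + 1) b) (hy' : y' ∈ J S.XZ (a + 1) b) (h : x * y = x' * y') : x = x' ∧ y = y' := by
  have h1 : x'⁻¹ * x = y' * y⁻¹ := by
    rw [eq_mul_inv_iff_mul_eq, mul_assoc, h, inv_mul_cancel_left]
  have h2 : x'⁻¹ * x = 1 := by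
    refine S.zsys8.inter a _ (mul_mem (inv_mem hx') hx) ?_
    rw [h1]
    exact J_mono le_rfl (by omega) (mul_mem hy' (inv_mem hy))
  have h3 : x = x' := (inv_mul_eq_one.1 h2).symm
  subst h3
  exact ⟨rfl, mul_left_cancel h⟩

theorem mmc {a₁ R₁ a₂ R₂ : G} (h : R₁ * a₂ = a₂ * R₁) : (a₁ * R₁) * (a₂ * R₂) = (a₁ * a₂) * (R₁ * R₂) := by
  calc (a₁ * R₁) * (a₂ * R₂) = a₁ * (R₁ * a₂) * R₂ := by group
    _ = _ := by rw [h]; group

/-! ### the elements of `Q2` -/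

/-- the elements of `Q2` -/
def qq (u s v w z : F) : G := S.e 1 0 u * (S.o 1 s * (S.e 2 0 v * (S.o 2 w * S.e 3 0 z)))

theorem Q2c {x y : G} (hx : x ∈ S.Q2) (hy : y ∈ S.Q2) : x * y = y * x := S.Q1_comm (Subgroup.mem_sup_right hx) hy

theorem qq_mem (u s v w z : F) : qq S u s v w z ∈ S.Q2 :=
  mul_mem (S.q2_1 u) (mul_mem (S.q2_2 s) (mul_mem (S.q2_3 v) (mul_mem (S.q2_4 w) (S.q2_5 z))))

theorem qq_mul (u s v w z u' s' v' w' z' : F) :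
    qq S u s v w z * qq S u' s' v' w' z' = qq S (u + u') (s + s') (v + v') (w + w') (z + z') := by
  unfold qq
  rw [mmc (Q2c S (mul_mem (S.q2_2 s) (mul_mem (S.q2_3 v) (mul_mem (S.q2_4 w) (S.q2_5 z)))) (S.q2_1 u')),
    mmc (Q2c S (mul_mem (S.q2_3 v) (mul_mem (S.q2_4 w) (S.q2_5 z))) (S.q2_2 s')),
    mmc (Q2c S (mul_mem (S.q2_4 w) (S.q2_5 z)) (S.q2_3 v')), mmc (Q2c S (S.q2_5 z) (S.q2_4 w')), S.e_mul_Zc, S.o_add,
    S.e_mul_Zc, S.o_add, S.e_mul_Zc]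

theorem qq_zero : qq S 0 0 0 0 0 = 1 := by
  unfold qq
  rw [S.e_zero, S.e_zero, S.e_zero, S.o_zero, S.o_zero]
  simp

theorem qq_sq (u s v w z : F) : qq S u s v w z * qq S u s v w z = 1 := by
  rw [qq_mul, S.add_self, S.add_self, S.add_self, S.add_self, S.add_self, qq_zero]

theorem mem_Q2 {g : G} : g ∈ S.Q2 ↔ ∃ u s v w z, qq S u s v w z = g := by
  constructor
  · let K : Subgroup G :=
      { carrier := {g | ∃ u s v w z, qq S u s v w z = g}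
        one_mem' := ⟨0, 0, 0, 0, 0, qq_zero S⟩
        mul_mem' := by
          rintro _ _ ⟨u, s, v, w, z, rfl⟩ ⟨u', s', v', w', z', rfl⟩
          exact ⟨_, _, _, _, _, (qq_mul S u s v w z u' s' v' w' z').symm⟩
        inv_mem' := by
          rintro _ ⟨u, s, v, w, z, rfl⟩
          exact ⟨u, s, v, w, z, (inv_eq_of_mul_eq_one_left (qq_sq S u s v w z)).symm⟩ }
    have hK : S.Q2 ≤ K := by
      refine S.Q2_le (fun u => ⟨u, 0, 0, 0, 0, ?_⟩) (fun t => ⟨0, t, 0, 0, 0, ?_⟩) (fun u => ⟨0, 0, u, 0, 0, ?_⟩)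
        (fun t => ⟨0, 0, 0, t, 0, ?_⟩) (fun u => ⟨0, 0, 0, 0, u, ?_⟩) <;> unfold qq <;>
        simp only [S.e_zero, S.o_zero, mul_one, one_mul]
    intro hg
    exact hK hg
  · rintro ⟨u, s, v, w, z, rfl⟩
    exact qq_mem S u s v w z

theorem qq_inj {u s v w z u' s' v' w' z' : F} (h : qq S u s v w z = qq S u' s' v' w' z') :
    u = u' ∧ s = s' ∧ v = v' ∧ w = w' ∧ z = z' := by
  unfold qq at h
  have m6 : ∀ z, S.e 3 0 z ∈ J S.XZ (5 + 1) 6 := fun z => mem_J (S.mX6 0 z) (by norm_num) (by norm_num)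
  have m5 : ∀ w z, S.o 2 w * S.e 3 0 z ∈ J S.XZ (4 + 1) 6 := fun w z =>
    mul_mem (mem_J (S.mX5 w) (by norm_num) (by norm_num)) (J_mono (by norm_num) (by norm_num) (m6 z))
  have m4 : ∀ v w z, S.e 2 0 v * (S.o 2 w * S.e 3 0 z) ∈ J S.XZ (3 + 1) 6 := fun v w z =>
    mul_mem (mem_J (S.mX4 0 v) (by norm_num) (by norm_num)) (J_mono (by norm_num) (by norm_num) (m5 w z))
  have m3 : ∀ s v w z, S.o 1 s * (S.e 2 0 v * (S.o 2 w * S.e 3 0 z)) ∈ J S.XZ (2 + 1) 6 := fun s v w z =>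
    mul_mem (mem_J (S.mX3 s) (by norm_num) (by norm_num)) (J_mono (by norm_num) (by norm_num) (m4 v w z))
  obtain ⟨h1, h⟩ := uniq S (a := 2) (b := 6) (by norm_num) (S.mX2 0 u) (S.mX2 0 u') (m3 _ _ _ _) (m3 _ _ _ _) h
  obtain ⟨h2, h⟩ := uniq S (a := 3) (b := 6) (by norm_num) (S.mX3 s) (S.mX3 s') (m4 _ _ _) (m4 _ _ _) h
  obtain ⟨h3, h⟩ := uniq S (a := 4) (b := 6) (by norm_num) (S.mX4 0 v) (S.mX4 0 v') (m5 _ _) (m5 _ _) h
  obtain ⟨h4, h⟩ := uniq S (a := 5) (b := 6) (by norm_num) (S.mX5 w) (S.mX5 w') (m6 _) (m6 _) h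
  exact ⟨(S.injE 1 _ _ _ _ h1).2, S.injO 1 h2, (S.injE 2 _ _ _ _ h3).2, S.injO 2 h4, (S.injE 3 _ _ _ _ h).2⟩

theorem conj_mul' (t x y : G) : t * (x * y) * t⁻¹ = (t * x * t⁻¹) * (t * y * t⁻¹) := by group

theorem qq_conj (c d : Fˣ) (u s v w z : F) : S.h c d * qq S u s v w z * (S.h c d)⁻¹ =
    qq S ((chE σ 1 c d : F) * σ (chE σ 1 c d : F) * u) ((chO σ 1 c d : F) * s)
      ((chE σ 2 c d : F) * σ (chE σ 2 c d : F) * v) ((chO σ 2 c d : F) * w)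
      ((chE σ 3 c d : F) * σ (chE σ 3 c d : F) * z) := by
  unfold qq
  rw [conj_mul', conj_mul', conj_mul', conj_mul', S.h_e, S.h_e, S.h_e, S.h_o, S.h_o, mul_zero, mul_zero, mul_zero]

/-! ### centralisers -/

theorem kb : ∀ c ∈ Q2 (Yf S), (∀ x ∈ Xf S 3, c * x = x * c) → c ∈ RK (Yf S) := by
  intro c hc h
  rw [Q2_eq] at hc
  obtain ⟨u, s, v, w, z, rfl⟩ := (mem_Q2 S).1 hc
  have h1 := h (S.o 3 1) (S.mX7 1)
  unfold qq at h1 ⊢
  set R := S.o 1 s * (S.e 2 0 v * (S.o 2 w * S.e 3 0 z)) with hR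
  have r3 : S.o 1 s * S.o 3 1 = S.o 3 1 * S.o 1 s := S.o_o2 1 s 1
  have r4 := S.comm_Z4 (k := 7) (by norm_num) (by norm_num) (S.mX7 1) v
  have r5 : S.o 2 w * S.o 3 1 = S.o 3 1 * S.o 2 w := S.o_o1 2 w 1
  have r6 := S.comm_Z6 (k := 7) (by norm_num) (by norm_num) (S.mX7 1) z
  have hR3 : R * S.o 3 1 = S.o 3 1 * R := by
    have e1 : Commute (S.o 1 s) (S.o 3 1) := r3
    have e2 : Commute (S.e 2 0 v) (S.o 3 1) := r4.symm
    have e3 : Commute (S.o 2 w) (S.o 3 1) := r5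
    have e4 : Commute (S.e 3 0 z) (S.o 3 1) := r6.symm
    exact e1.mul_left (e2.mul_left (e3.mul_left e4))
  have h2 : S.e 1 0 u * S.o 3 1 = S.o 3 1 * S.e 1 0 u := by
    have h3 : S.e 1 0 u * S.o 3 1 * R = S.o 3 1 * S.e 1 0 u * R := by
      calc S.e 1 0 u * S.o 3 1 * R = S.e 1 0 u * R * S.o 3 1 := by rw [mul_assoc, ← hR3, ← mul_assoc]
        _ = _ := by rw [h1, mul_assoc]
    exact mul_right_cancel h3
  have r1 : S.e 1 0 u * S.o 3 1 = S.o 3 1 * S.e 1 0 u * S.e 2 0 (0 * σ 0 * 1 + u * 1) * S.o 2 (σ 0 * 1) *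
      S.e 3 0 (0 * σ 1) := S.e_o2 1 0 u 1
  rw [map_zero, zero_mul, zero_mul, zero_mul, zero_add, S.o_zero, S.e_zero, mul_one, mul_one, mul_one, h2] at r1
  have h4 := (S.e_eq_one (left_eq_mul.1 r1)).2
  rw [h4, S.e_zero, one_mul]
  exact mul_mem (RK_three S s) (mul_mem (EK_le_RK S (EK_four S v)) (mul_mem (EK_le_RK S (EK_five S w))
    (EK_le_RK S (EK_six S z))))

theorem i3 : Q2 (Yf S) ⊓ Xf S 0 ≤ Yf S 0 := by
  rw [Q2_eq, Yf0]
  rintro x ⟨h1, h2⟩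
  have h2' : x ∈ S.XZ 4 := h2
  obtain ⟨u, s, v, w, z, rfl⟩ := (mem_Q2 S).1 h1
  have m5 : ∀ w z, S.o 2 w * S.e 3 0 z ∈ J S.XZ (4 + 1) 6 := fun w z =>
    mul_mem (mem_J (S.mX5 w) (by norm_num) (by norm_num)) (mem_J (S.mX6 0 z) (by norm_num) (by norm_num))
  have m4 : ∀ v w z, S.e 2 0 v * (S.o 2 w * S.e 3 0 z) ∈ J S.XZ (3 + 1) 6 := fun v w z =>
    mul_mem (mem_J (S.mX4 0 v) (by norm_num) (by norm_num)) (J_mono (by norm_num) (by norm_num) (m5 w z))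
  have m3 : ∀ s v w z, S.o 1 s * (S.e 2 0 v * (S.o 2 w * S.e 3 0 z)) ∈ J S.XZ (2 + 1) 6 := fun s v w z =>
    mul_mem (mem_J (S.mX3 s) (by norm_num) (by norm_num)) (J_mono (by norm_num) (by norm_num) (m4 v w z))
  obtain ⟨x, hx⟩ : ∃ x, x = qq S u s v w z := ⟨_, rfl⟩
  rw [← hx] at h2' ⊢
  have e0 : S.e 1 0 u * (S.o 1 s * (S.e 2 0 v * (S.o 2 w * S.e 3 0 z))) = 1 * x := by rw [one_mul, hx]; rfl
  obtain ⟨-, e1⟩ := uniq S (a := 2) (b := 6) (by norm_num) (S.mX2 0 u) (one_mem _) (m3 _ _ _ _)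
    (mem_J h2' (by norm_num) (by norm_num)) e0
  have e1' : S.o 1 s * (S.e 2 0 v * (S.o 2 w * S.e 3 0 z)) = 1 * x := by rw [e1, one_mul]
  obtain ⟨-, e2⟩ := uniq S (a := 3) (b := 6) (by norm_num) (S.mX3 s) (one_mem _) (m4 _ _ _)
    (mem_J h2' (by norm_num) (by norm_num)) e1'
  have e2' : S.e 2 0 v * (S.o 2 w * S.e 3 0 z) = x * 1 := by rw [e2, mul_one]
  obtain ⟨e3, -⟩ := uniq S (a := 4) (b := 6) (by norm_num) (S.mX4 0 v) h2' (m5 _ _) (one_mem _) e2'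
  exact ⟨v, e3⟩

theorem i4 : Q1 (Xf S) (Yf S) ⊓ Xf S 2 ≤ Yf S 2 := by
  rw [Q1_eq, Yf2]
  rintro x ⟨h1, h2⟩
  have h2' : x ∈ S.XZ 6 := h2
  obtain ⟨a, ha, b, hb, rfl⟩ := mem_sup_of_norm (A := S.XZ 4) (B := S.Q2) (fun a ha b hb => by
    rw [S.Q1_comm (Subgroup.mem_sup_left ha) hb, mul_inv_cancel_right]; exact hb) h1
  obtain ⟨u, s, v, w, z, rfl⟩ := (mem_Q2 S).1 hb
  have e : a * qq S u s v w z * (S.e 3 0 z)⁻¹ = a * (S.e 1 0 u * (S.o 1 s * (S.e 2 0 v * S.o 2 w))) := by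
    unfold qq; group
  have h3 : a * qq S u s v w z * (S.e 3 0 z)⁻¹ ∈ J S.XZ (6 - 8 + 1) (6 - 1) := by
    rw [e]
    exact mul_mem (mem_J ha (by norm_num) (by norm_num)) (mul_mem (mem_J (S.mX2 0 u) (by norm_num) (by norm_num))
      (mul_mem (mem_J (S.mX3 s) (by norm_num) (by norm_num)) (mul_mem (mem_J (S.mX4 0 v) (by norm_num) (by norm_num))
        (mem_J (S.mX5 w) (by norm_num) (by norm_num)))))
  have h4 := S.zsys8.inter' (mul_mem h2' (inv_mem (S.mX6 0 z))) h3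
  rw [mul_inv_eq_one] at h4
  exact ⟨z, h4.symm⟩

include S in
/-- the fixed field of `σ` -/
theorem fix_σ {x : F} (h : x + σ x = 0) : x = 0 ∨ x = 1 := by
  have h1 : σ x = x := by
    have h2 := S.add_self x
    have h3 : x + σ x = x + x := by rw [h, h2]
    exact add_left_cancel h3
  have h2 := S.sq x
  rw [h1, h1, pow_two] at h2
  by_cases hx : x = 0
  · exact Or.inl hx
  · right
    have h3 : x * x = x * 1 := by rw [← h2, mul_one]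
    exact mul_left_cancel₀ hx h3

include S in
theorem exists_moved (hq : 2 < Nat.card F) : ∃ x : F, x ≠ 0 ∧ x ≠ 1 ∧ x + σ x ≠ 0 := by
  classical
  have : Finite F := Nat.finite_of_card_ne_zero (by omega)
  have := Fintype.ofFinite F
  rw [Nat.card_eq_fintype_card] at hq
  by_contra hcon
  push Not at hcon
  have h1 : (Finset.univ : Finset F) ⊆ {0, 1} := by
    intro a _
    rw [Finset.mem_insert, Finset.mem_singleton]
    by_cases ha : a = 0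
    · exact Or.inl ha
    · by_cases ha1 : a = 1
      · exact Or.inr ha1
      · exact fix_σ S (hcon a ha ha1)
  have h2 := Finset.card_le_card h1
  rw [Finset.card_univ] at h2
  have h3 : ({0, 1} : Finset F).card ≤ 2 := Finset.card_le_two
  omega

/-- the commutator of `r ∈ X_3 ⋯ X_7` with `x ∈ X_4` -/
theorem kJ_aux {a p w b p' w' s q : F}
    (h : S.o 1 a * (S.e 2 p w * (S.o 2 b * (S.e 3 p' w' * S.o 3 s))) * S.e 2 q 0 =
      S.e 2 q 0 * (S.o 1 a * (S.e 2 p w * (S.o 2 b * (S.e 3 p' w' * S.o 3 s))))) :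
    p * σ q + q * σ p = 0 ∧ q * p' = 0 ∧ q * s = 0 := by
  obtain ⟨x, hx⟩ : ∃ x, x = S.e 2 q 0 := ⟨_, rfl⟩
  rw [← hx] at h
  have c3 : x * S.o 1 a = S.o 1 a * x := by rw [hx]; exact (S.o_e1 1 a q 0).symm
  have c5 : x * S.o 2 b = S.o 2 b * x := by rw [hx]; exact S.e_o0 2 q 0 b
  have c6 : x * S.e 3 p' w' = S.e 3 p' w' * x * S.o 2 (q * p') := by rw [hx]; exact S.e_e1 2 q 0 p' w'
  have c7 : x * S.o 3 s = S.o 3 s * x * S.e 3 0 (q * s) := by rw [hx]; exact S.e_o1 2 q 0 s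
  have c4 : x * S.e 2 p w = S.e 2 p w * x * S.e 2 0 (p * σ q + q * σ p) := by
    rw [hx, S.e_mul, S.e_mul, S.e_mul]
    have h2 := S.add_self (p * σ q)
    congr 1
    · ring
    · rw [map_zero]; linear_combination -h2
  have c57 : S.o 2 (q * p') * S.o 3 s = S.o 3 s * S.o 2 (q * p') := S.o_o1 2 _ s
  have cz : ∀ y ∈ J S.XZ 2 8, y * S.e 2 0 (p * σ q + q * σ p) = S.e 2 0 (p * σ q + q * σ p) * y := fun y hy =>
    S.W46_comm hy (S.Z4_W46 _)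
  have h1 : x * (S.o 1 a * (S.e 2 p w * (S.o 2 b * (S.e 3 p' w' * S.o 3 s)))) =
      (S.o 1 a * (S.e 2 p w * (S.o 2 b * (S.e 3 p' w' * S.o 3 s))) * x) *
        (S.e 3 0 (q * s) * S.o 2 (q * p') * S.e 2 0 (p * σ q + q * σ p)) := by
    have m : S.o 2 b * (S.e 3 p' w' * S.o 3 s) ∈ J S.XZ 2 8 :=
      mul_mem (mem_J (S.mX5 b) (by norm_num) (by norm_num)) (mul_mem (mem_J (S.mX6 p' w') (by norm_num) (by norm_num))
        (mem_J (S.mX7 s) (by norm_num) (by norm_num)))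
    have e1 : x * (S.o 2 b * (S.e 3 p' w' * S.o 3 s)) =
        (S.o 2 b * (S.e 3 p' w' * S.o 3 s) * x) * (S.e 3 0 (q * s) * S.o 2 (q * p')) := by
      calc x * (S.o 2 b * (S.e 3 p' w' * S.o 3 s)) = (x * S.o 2 b) * S.e 3 p' w' * S.o 3 s := by group
        _ = S.o 2 b * (x * S.e 3 p' w') * S.o 3 s := by rw [c5]; group
        _ = S.o 2 b * S.e 3 p' w' * x * (S.o 2 (q * p') * S.o 3 s) := by rw [c6]; group
        _ = S.o 2 b * S.e 3 p' w' * (x * S.o 3 s) * S.o 2 (q * p') := by rw [c57]; group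
        _ = _ := by rw [c7]; group
    calc x * (S.o 1 a * (S.e 2 p w * (S.o 2 b * (S.e 3 p' w' * S.o 3 s)))) =
        (x * S.o 1 a) * S.e 2 p w * (S.o 2 b * (S.e 3 p' w' * S.o 3 s)) := by group
      _ = S.o 1 a * (x * S.e 2 p w) * (S.o 2 b * (S.e 3 p' w' * S.o 3 s)) := by rw [c3]; group
      _ = S.o 1 a * S.e 2 p w * x * (S.e 2 0 (p * σ q + q * σ p) * (S.o 2 b * (S.e 3 p' w' * S.o 3 s))) := by
        rw [c4]; group
      _ = S.o 1 a * S.e 2 p w * (x * (S.o 2 b * (S.e 3 p' w' * S.o 3 s))) * S.e 2 0 (p * σ q + q * σ p) := by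
        rw [← cz _ m]; group
      _ = _ := by rw [e1]; group
  rw [← h] at h1
  have h2 := left_eq_mul.1 h1
  have m6 : S.e 3 0 (q * s) * S.o 2 (q * p') = S.o 2 (q * p') * S.e 3 0 (q * s) :=
    (S.comm_Z6 (k := 5) (by norm_num) (by norm_num) (S.mX5 _) _).symm
  have h3 : qq S 0 0 (p * σ q + q * σ p) (q * p') (q * s) = qq S 0 0 0 0 0 := by
    rw [qq_zero, ← h2]
    unfold qq
    rw [S.e_zero, S.o_zero, one_mul, one_mul, m6]
    exact (cz _ (mul_mem (mem_J (S.mX5 _) (by norm_num) (by norm_num)) (mem_J (S.mX6 0 _) (by norm_num) (by norm_num)))).symm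
  obtain ⟨-, -, k1, k2, k3⟩ := qq_inj S h3
  exact ⟨k1, k2, k3⟩

/-- the generic element of `X_3 ⋯ X_7` -/
def rr (a p w b p' w' s : F) : G := S.o 1 a * (S.e 2 p w * (S.o 2 b * (S.e 3 p' w' * S.o 3 s)))

theorem exists_rr {r : G} (hr : r ∈ J S.XZ 3 7) : ∃ a p w b p' w' s, r = rr S a p w b p' w' s := by
  have Z8 := S.zsys8
  obtain ⟨x3, hx3, r3, hr3, rfl⟩ := Z8.split_ll (a := 3) (b := 7) (by norm_num) (by norm_num) hr
  obtain ⟨x4, hx4, r4, hr4, rfl⟩ := Z8.split_ll (a := 4) (b := 7) (by norm_num) (by norm_num)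
    (show r3 ∈ J S.XZ 4 7 from hr3)
  obtain ⟨x5, hx5, r5, hr5, rfl⟩ := Z8.split_ll (a := 5) (b := 7) (by norm_num) (by norm_num)
    (show r4 ∈ J S.XZ 5 7 from hr4)
  obtain ⟨x6, hx6, r6, hr6, rfl⟩ := Z8.split_ll (a := 6) (b := 7) (by norm_num) (by norm_num)
    (show r5 ∈ J S.XZ 6 7 from hr5)
  have hr : r6 ∈ J S.XZ 7 7 := hr6
  have hx7 := mem_of_J_self hr (by norm_num)
  obtain ⟨a, rfl⟩ := S.X3 hx3
  obtain ⟨p, w, rfl⟩ := S.X4 hx4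
  obtain ⟨b, rfl⟩ := S.X5 hx5
  obtain ⟨p', w', rfl⟩ := S.X6 hx6
  obtain ⟨s, rfl⟩ := S.X7 hx7
  exact ⟨a, p, w, b, p', w', s, rfl⟩

theorem rr_zero (u a w b w' : F) : S.e 1 0 u * rr S a 0 w b 0 w' 0 = qq S u a w b w' := by
  unfold rr qq
  rw [S.o_zero, mul_one]

theorem kJ_mid {u v q : F} {r : G} (h1 : S.e 1 0 u * r * S.e 4 0 v * S.e 2 q 0 = S.e 2 q 0 * (S.e 1 0 u * r * S.e 4 0 v)) :
    r * S.e 2 q 0 = S.e 2 q 0 * r := by
  have a1 : S.e 1 0 u * S.e 2 q 0 = S.e 2 q 0 * S.e 1 0 u := by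
    have : S.e 1 0 u * S.e 2 q 0 = S.e 2 q 0 * S.e 1 0 u * S.o 1 (0 * q) := S.e_e1 1 0 u q 0
    rwa [zero_mul, S.o_zero, mul_one] at this
  have a2 : S.e 2 q 0 * S.e 4 0 v = S.e 4 0 v * S.e 2 q 0 := by
    have := S.e_e2 2 q 0 0 v
    exact this
  have h2 : S.e 1 0 u * (r * S.e 2 q 0) * S.e 4 0 v = S.e 1 0 u * (S.e 2 q 0 * r) * S.e 4 0 v := by
    calc S.e 1 0 u * (r * S.e 2 q 0) * S.e 4 0 v = S.e 1 0 u * r * (S.e 2 q 0 * S.e 4 0 v) := by group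
      _ = S.e 1 0 u * r * S.e 4 0 v * S.e 2 q 0 := by rw [a2]; group
      _ = (S.e 2 q 0 * S.e 1 0 u) * r * S.e 4 0 v := by rw [h1]; group
      _ = _ := by rw [← a1]; group
  exact mul_left_cancel (mul_right_cancel h2)

theorem kJ (hq : 2 < Nat.card F) : ∀ c ∈ NK (Xf S) (Yf S), (∀ x ∈ Xf S 0, c * x = x * c) → c ∈ Q2 (Yf S) ⊔ Yf S 4 := by
  intro c hc h
  rw [NK_eq] at hc
  rw [Q2_eq, Yf4]
  obtain ⟨u, v, r, hr, rfl⟩ := S.mem_NO_iff.1 hc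
  obtain ⟨a, p, w, b, p', w', s, rfl⟩ := exists_rr S hr
  have key : ∀ q, rr S a p w b p' w' s * S.e 2 q 0 = S.e 2 q 0 * rr S a p w b p' w' s := fun q =>
    kJ_mid S (u := u) (v := v) (h (S.e 2 q 0) (S.mX4 q 0))
  obtain ⟨k1, k2, k3⟩ := kJ_aux S (q := 1) (key 1)
  rw [map_one, mul_one, one_mul] at k1
  rw [one_mul] at k2 k3
  have hp : p = 0 := by
    rcases fix_σ S k1 with h0 | h0
    · exact h0
    · exfalso
      obtain ⟨q, hq0, hq1, hq2⟩ := exists_moved S hq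
      obtain ⟨k4, -, -⟩ := kJ_aux S (q := q) (key q)
      rw [h0, map_one, one_mul, mul_one, add_comm] at k4
      exact hq2 k4
  subst hp k2 k3
  rw [rr_zero]
  exact mul_mem (Subgroup.mem_sup_left (qq_mem S u a w b w')) (Subgroup.mem_sup_right ⟨v, rfl⟩)

theorem exists_Tk_ne (hq : 2 < Nat.card F) (k : ℤ) : ∃ t ∈ S.Tk k, t ≠ 1 := by
  obtain ⟨x, hx0, hx1, -⟩ := exists_moved S hq
  have hu : Units.mk0 x hx0 ≠ 1 := fun h => hx1 (congrArg Units.val h)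
  obtain ⟨a, h | h⟩ := Int.even_or_odd' k
  · refine ⟨S.ck a (S.h 1 (Units.mk0 x hx0)), ?_, ?_⟩
    · have := S.ck_Tk a (k := 0) (t := S.h 1 (Units.mk0 x hx0)) (S.mem_Tk_zero.2 ⟨_, rfl⟩)
      rw [h]
      rwa [zero_add] at this
    · intro h1
      rw [map_eq_one_iff _ (S.ck a).injective, ← S.h_one] at h1
      exact hu (S.h_inj _ _ _ _ h1).2
  · refine ⟨S.ck a (S.h (Units.mk0 x hx0) (Units.mk0 x hx0)⁻¹), ?_, ?_⟩
    · have := S.ck_Tk a (k := 1) (t := S.h (Units.mk0 x hx0) (Units.mk0 x hx0)⁻¹) (S.mem_Tk_one.2 ⟨_, rfl⟩)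
      rw [h]
      rwa [add_comm] at this
    · intro h1
      rw [map_eq_one_iff _ (S.ck a).injective, ← S.h_one] at h1
      exact hu (S.h_inj _ _ _ _ h1).1

theorem kT (hq : 2 < Nat.card F) : ∀ c ∈ NK (Xf S) (Yf S), (∀ h ∈ Tf S 0, c * h = h * c) → c ∈ Xf S 0 := by
  intro c hc h
  rw [NK_eq] at hc
  obtain ⟨t, ht, ht1⟩ := exists_Tk_ne S hq 4
  have h1 : t * c * t⁻¹ = c := by rw [← h t ht, mul_inv_cancel_right]
  exact S.fix_J (k := 4) ht ht1 (a := 2) (b := 8) (by norm_num) (by norm_num) (by norm_num) hc.1 h1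

theorem tf : ∀ h ∈ Tf S 0, (∀ y ∈ Xf S (-1), h * y = y * h) → h = 1 := by
  intro h hh hy
  by_contra h1
  have h2 : S.o 1 1 = 1 := S.fpf (k := 4) (j := 3) (by norm_num) hh h1 (S.mX3 1) (by
    rw [hy _ (S.mX3 1), mul_inv_cancel_right])
  exact one_ne_zero (S.o_eq_one h2)

end Cfsg.Agent.OddHalf.D7TwF4.Growth.KInst
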