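import Cfsg.Agent.OddHalf.D7TwF4.Growth.KNh

/-!
# Growth of the doubled root groups of `²F₄(q)`: generation of `NK` (helper517)

* `k2` : `NK` is generated by `Z_8`, the conjugates of `Z_2` under `X_9`, and `EK`.
-/

set_option autoImplicit false
set_option linter.unusedSectionVars false

namespace Cfsg.Agent.OddHalf.D7TwF4.Growth.KInst

open Cfsg.Agent.KFacts.TwF4 Cfsg.Agent.SplitTwo.ZS Cfsg.Agent.OddHalf.D7TwF4.Growth.Defs
open scoped commutatorElement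

universe u

variable {F : Type*} [Field F] {σ : F →+* F} {G : Type u} [Group G] (S : Full σ G)

include S in
/-- the algebra of `k2`, in an abelian group -/
theorem alg0 (hq : 4 < Nat.card F) {M : Type*} [AddCommGroup M] (f3 f4 f6 f7 : F →+ M)
    (h : ∀ t v, f7 (t * σ t * σ v) + f6 (σ t * v) + f4 (t * v) + f3 (t * σ v) = 0) :
    (∀ x, f3 x = 0) ∧ (∀ x, f4 x = 0) ∧ (∀ x, f6 x = 0) ∧ ∀ x, f7 x = 0 := by
  classical
  have hfin : Finite F := Nat.finite_of_card_ne_zero (by omega)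
  have hσs : Function.Surjective σ := Finite.surjective_of_injective σ.injective
  have c2 : ∀ (f : F →+ M) x, f x + f x = 0 := fun f x => by rw [← map_add, S.add_self, map_zero]
  obtain ⟨x, hx0, hx1, hx⟩ := exists_moved S (by omega)
  -- `f7 = 0`
  have h7 : ∀ y, f7 y = 0 := by
    intro y
    obtain ⟨v, hv⟩ := hσs (y / (x + σ x))
    have e1 := h (1 + x) v
    have e2 := h 1 v
    have e3 := h x v
    have e0 : (1 + x) * σ (1 + x) * σ v = 1 * σ 1 * σ v + x * σ x * σ v + y := by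
      have : y = (x + σ x) * σ v := by rw [hv, mul_div_cancel₀ _ hx]
      rw [this, map_add, map_one]; ring
    rw [e0, map_add σ, add_mul (σ 1), add_mul 1 x, add_mul 1 x, map_add, map_add, map_add, map_add, map_add] at e1
    have e4 : f7 y = (f7 (1 * σ 1 * σ v) + f7 (x * σ x * σ v) + f7 y + (f6 (σ 1 * v) + f6 (σ x * v)) +
      (f4 (1 * v) + f4 (x * v)) + (f3 (1 * σ v) + f3 (x * σ v))) -
      (f7 (1 * σ 1 * σ v) + f6 (σ 1 * v) + f4 (1 * v) + f3 (1 * σ v)) -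
      (f7 (x * σ x * σ v) + f6 (σ x * v) + f4 (x * v) + f3 (x * σ v)) := by abel
    rw [e4, e1, e2, e3, sub_zero, sub_zero]
  -- the form in `r`, `w`
  have hr : ∀ r : F, r ≠ 0 → ∀ w, f6 (r * w) + f4 w + f3 (r⁻¹ * σ w) = 0 := by
    intro r hr w
    have hσr : σ r ≠ 0 := (map_ne_zero σ).2 hr
    have e1 := h (r * σ r) (w / (r * σ r))
    rw [h7, zero_add] at e1
    have a1 : σ (r * σ r) * (w / (r * σ r)) = r * w := by
      rw [map_mul, S.sq]; field_simp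
    have a2 : r * σ r * (w / (r * σ r)) = w := by field_simp
    have a3 : r * σ r * σ (w / (r * σ r)) = r⁻¹ * σ w := by
      rw [map_div₀, map_mul, S.sq]; field_simp
    rw [a1, a2, a3] at e1
    exact e1
  -- `f4 w = f3 (κ σ w)`
  have hk : ∀ r : F, r ≠ 0 → r ≠ 1 → ∀ w, f4 w + f3 ((1 + r⁻¹ + (1 + r)⁻¹) * σ w) = 0 := by
    intro r hr0 hr1 w
    have hr2 : 1 + r ≠ 0 := by
      intro h0
      apply hr1
      have h2 := S.add_self (1 : F)
      linear_combination h0 - h2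
    have e1 := hr 1 one_ne_zero w
    have e2 := hr r hr0 w
    have e3 := hr (1 + r) hr2 w
    rw [add_mul, map_add] at e3
    rw [inv_one] at e1
    have e4 : f4 w + f3 ((1 + r⁻¹ + (1 + r)⁻¹) * σ w) = (f6 (1 * w) + f4 w + f3 (1 * σ w)) +
        (f6 (r * w) + f4 w + f3 (r⁻¹ * σ w)) + (f6 (1 * w) + f6 (r * w) + f4 w + f3 ((1 + r)⁻¹ * σ w)) -
        (f6 (1 * w) + f6 (1 * w)) - (f6 (r * w) + f6 (r * w)) - (f4 w + f4 w) := by
      rw [add_mul, add_mul, map_add, map_add]; abel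
    rw [e4, e1, e2, e3, c2, c2, c2]
    simp
  -- `f3 = 0`
  have h3 : ∀ y, f3 y = 0 := by
    obtain ⟨y, hy⟩ : ∃ y : F, y ∉ ({0, 1, x, x + 1} : Finset F) := by
      by_contra hcon
      push Not at hcon
      have := Fintype.ofFinite F
      have h1 : (Finset.univ : Finset F) ⊆ {0, 1, x, x + 1} := fun a _ => hcon a
      have h2 := Finset.card_le_card h1
      rw [Finset.card_univ, ← Nat.card_eq_fintype_card] at h2
      have h3 : ({0, 1, x, x + 1} : Finset F).card ≤ 4 := Finset.card_le_four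
      omega
    simp only [Finset.mem_insert, Finset.mem_singleton, not_or] at hy
    obtain ⟨hy0, hy1, hy2, hy3⟩ := hy
    have n1 : 1 + x ≠ 0 := by
      intro h0
      apply hx1
      have h2 := S.add_self (1 : F)
      linear_combination h0 - h2
    have n2 : 1 + y ≠ 0 := by
      intro h0
      apply hy1
      have h2 := S.add_self (1 : F)
      linear_combination h0 - h2
    have n3 : x + y ≠ 0 := by
      intro h0
      apply hy2
      have h2 := S.add_self (x : F)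
      linear_combination h0 - h2
    have n4 : 1 + x + y ≠ 0 := by
      intro h0
      apply hy3
      have h2 := S.add_self (1 + x : F)
      linear_combination h0 - h2
    have k1 : (1 + x⁻¹ + (1 + x)⁻¹) - (1 + y⁻¹ + (1 + y)⁻¹) ≠ 0 := by
      have e : ((1 + x⁻¹ + (1 + x)⁻¹) - (1 + y⁻¹ + (1 + y)⁻¹)) * (x * (1 + x) * y * (1 + y)) =
          (x + y) * (1 + x + y) := by
        have h2 : (1 : F) + 1 = 0 := S.add_self 1
        have e1 : (1 + x⁻¹ + (1 + x)⁻¹) * (x * (1 + x)) = x * (1 + x) + (1 + x) + x := by field_simp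
        have e2 : (1 + y⁻¹ + (1 + y)⁻¹) * (y * (1 + y)) = y * (1 + y) + (1 + y) + y := by field_simp
        linear_combination (y * (1 + y)) * e1 - (x * (1 + x)) * e2 + (-x - x^2 - x*y + x*y^2 - x^2*y) * h2
      intro h0
      rw [h0, zero_mul] at e
      exact mul_ne_zero n3 n4 e.symm
    intro z
    obtain ⟨w, hw⟩ := hσs (z / ((1 + x⁻¹ + (1 + x)⁻¹) - (1 + y⁻¹ + (1 + y)⁻¹)))
    have e1 := hk x hx0 hx1 w
    have e2 := hk y hy0 hy1 w
    have e3 : z = (1 + x⁻¹ + (1 + x)⁻¹) * σ w - (1 + y⁻¹ + (1 + y)⁻¹) * σ w := by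
      rw [← sub_mul, hw, mul_div_cancel₀ _ k1]
    rw [e3, map_sub]
    have e4 := congrArg₂ (fun a b => a - b) e1 e2
    simp only [add_sub_add_left_eq_sub, sub_zero] at e4
    exact e4
  have h4 : ∀ w, f4 w = 0 := by
    intro w
    have := hk x hx0 hx1 w
    rwa [h3, add_zero] at this
  refine ⟨h3, h4, fun w => ?_, h7⟩
  have := hr 1 one_ne_zero w
  rwa [h3, h4, add_zero, add_zero, one_mul] at this

include S in
/-- the algebra of `k2` -/
theorem alg (hq : 4 < Nat.card F) {M : Type*} [AddCommGroup M] (B : AddSubgroup M) (f3 f4 f6 f7 : F →+ M)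
    (h : ∀ t v, f7 (t * σ t * σ v) + f6 (σ t * v) + f4 (t * v) + f3 (t * σ v) ∈ B) :
    (∀ x, f3 x ∈ B) ∧ (∀ x, f4 x ∈ B) ∧ (∀ x, f6 x ∈ B) ∧ ∀ x, f7 x ∈ B := by
  have h1 := alg0 S hq ((QuotientAddGroup.mk' B).comp f3) ((QuotientAddGroup.mk' B).comp f4)
    ((QuotientAddGroup.mk' B).comp f6) ((QuotientAddGroup.mk' B).comp f7) (fun t v => by
      simp only [AddMonoidHom.comp_apply]
      rw [← map_add, ← map_add, ← map_add]
      exact (QuotientAddGroup.eq_zero_iff _).2 (h t v))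
  exact ⟨fun x => (QuotientAddGroup.eq_zero_iff _).1 (h1.1 x), fun x => (QuotientAddGroup.eq_zero_iff _).1 (h1.2.1 x),
    fun x => (QuotientAddGroup.eq_zero_iff _).1 (h1.2.2.1 x), fun x => (QuotientAddGroup.eq_zero_iff _).1 (h1.2.2.2 x)⟩


/-! ### the group -/

/-- `X_3 ⋯ X_7` centralises `EK` -/
theorem EK_cent {y : G} (hy : y ∈ J S.XZ 3 7) {E : G} (hE : E ∈ EK (Yf S)) : y * E = E * y := by
  have h5 : ∀ b, J S.XZ 3 7 ≤ Subgroup.centralizer {S.o 2 b} := by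
    intro b
    refine J_le fun k h1 h2 x hx => Subgroup.mem_centralizer_singleton_iff.2 ?_
    interval_cases k
    · obtain ⟨t, rfl⟩ := S.X3 hx
      exact S.o_o1 1 t b
    · obtain ⟨p, u, rfl⟩ := S.X4 hx
      exact S.e_o0 2 p u b
    · obtain ⟨t, rfl⟩ := S.X5 hx
      rw [S.o_add, S.o_add, add_comm]
    · obtain ⟨p, u, rfl⟩ := S.X6 hx
      exact (S.o_e1 2 b p u).symm
    · obtain ⟨t, rfl⟩ := S.X7 hx
      exact (S.o_o1 2 b t).symm
  have hy' : y ∈ J S.XZ 2 8 := J_mono (by norm_num) (by norm_num) hy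
  have h : EK (Yf S) ≤ Subgroup.centralizer {y} := by
    rw [EK_eq]
    refine sup_le (sup_le ?_ ?_) ?_
    · rintro _ ⟨u, rfl⟩
      exact Subgroup.mem_centralizer_singleton_iff.2 (S.W46_comm hy' (S.Z4_W46 u)).symm
    · intro x hx
      obtain ⟨t, rfl⟩ := S.X5 hx
      exact Subgroup.mem_centralizer_singleton_iff.2 (Subgroup.mem_centralizer_singleton_iff.1 (h5 t hy)).symm
    · rintro _ ⟨u, rfl⟩
      exact Subgroup.mem_centralizer_singleton_iff.2 (S.W46_comm hy' (S.Z6_W46 u)).symm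
  exact (Subgroup.mem_centralizer_singleton_iff.1 (h hE)).symm

/-- representatives of `X_3 ⋯ X_7` modulo `EK` -/
def rq (a p c s : F) : G := S.o 1 a * (S.e 2 p 0 * (S.e 3 c 0 * S.o 3 s))

theorem rq_mem (a p c s : F) : rq S a p c s ∈ J S.XZ 3 7 :=
  mul_mem (mem_J (S.mX3 a) (by norm_num) (by norm_num)) (mul_mem (mem_J (S.mX4 p 0) (by norm_num) (by norm_num))
    (mul_mem (mem_J (S.mX6 c 0) (by norm_num) (by norm_num)) (mem_J (S.mX7 s) (by norm_num) (by norm_num))))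

theorem mmE {a₁ R₁ a₂ R₂ E : G} (h : R₁ * a₂ = a₂ * R₁ * E) (hE : R₂ * E = E * R₂) :
    (a₁ * R₁) * (a₂ * R₂) = (a₁ * a₂) * (R₁ * R₂) * E := by
  calc (a₁ * R₁) * (a₂ * R₂) = a₁ * (R₁ * a₂) * R₂ := by group
    _ = a₁ * (a₂ * R₁) * (E * R₂) := by rw [h]; group
    _ = _ := by rw [← hE]; group

theorem inv_self_mul {x c z : G} {y : G} (h : x * y = y * x * c) (hc : c * c = 1) (hz : x * y = z) : y * x = z * c := by
  rw [← hz, h, mul_assoc, hc, mul_one]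

theorem rq_mul (a p c s a' p' c' s' : F) : ∃ E ∈ EK (Yf S), rq S a p c s * rq S a' p' c' s' =
    rq S (a + a') (p + p') (c + c') (s + s') * E := by
  have j3 : ∀ t, S.o 1 t ∈ J S.XZ 3 7 := fun t => mem_J (S.mX3 t) (by norm_num) (by norm_num)
  have j4 : ∀ t u, S.e 2 t u ∈ J S.XZ 3 7 := fun t u => mem_J (S.mX4 t u) (by norm_num) (by norm_num)
  have j6 : ∀ t u, S.e 3 t u ∈ J S.XZ 3 7 := fun t u => mem_J (S.mX6 t u) (by norm_num) (by norm_num)
  have j7 : ∀ t, S.o 3 t ∈ J S.XZ 3 7 := fun t => mem_J (S.mX7 t) (by norm_num) (by norm_num)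
  have sq4 : ∀ u, S.e 2 0 u * S.e 2 0 u = 1 := fun u => by rw [S.e_mul_Zc, S.add_self, S.e_zero]
  have sq6 : ∀ u, S.e 3 0 u * S.e 3 0 u = 1 := fun u => by rw [S.e_mul_Zc, S.add_self, S.e_zero]
  have sq5 : ∀ u, S.o 2 u * S.o 2 u = 1 := fun u => by rw [S.o_add, S.add_self, S.o_zero]
  -- the last two factors
  have l1 : (S.e 3 c 0 * S.o 3 s) * (S.e 3 c' 0 * S.o 3 s') =
      (S.e 3 (c + c') 0 * S.o 3 (s + s')) * S.e 3 0 (c * σ c') := by
    rw [mmc (S.e_o0 3 c' 0 s).symm, S.o_add, S.e_mul, zero_add, zero_add]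
    have e1 : S.e 3 (c + c') (c * σ c') = S.e 3 (c + c') 0 * S.e 3 0 (c * σ c') := by rw [S.e_mul]; simp
    rw [e1, mul_assoc, mul_assoc, EK_cent S (j7 _) (EK_six S _)]
  -- the last three
  have c76 : S.o 3 s * S.e 2 p' 0 = S.e 2 p' 0 * S.o 3 s * S.e 3 0 (p' * s) := by
    have h1 : S.e 2 p' 0 * S.o 3 s = S.o 3 s * S.e 2 p' 0 * S.e 3 0 (p' * s) := S.e_o1 2 p' 0 s
    exact inv_self_mul h1 (sq6 _) rfl
  have c64 : S.e 3 c 0 * S.e 2 p' 0 = S.e 2 p' 0 * S.e 3 c 0 * S.o 2 (p' * c) := by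
    have h1 : S.e 2 p' 0 * S.e 3 c 0 = S.e 3 c 0 * S.e 2 p' 0 * S.o 2 (p' * c) := S.e_e1 2 p' 0 c 0
    exact inv_self_mul h1 (sq5 _) rfl
  have r2 : (S.e 3 c 0 * S.o 3 s) * S.e 2 p' 0 = S.e 2 p' 0 * (S.e 3 c 0 * S.o 3 s) *
      (S.o 2 (p' * c) * S.e 3 0 (p' * s)) := by
    calc (S.e 3 c 0 * S.o 3 s) * S.e 2 p' 0 = S.e 3 c 0 * (S.o 3 s * S.e 2 p' 0) := by group
      _ = (S.e 3 c 0 * S.e 2 p' 0) * S.o 3 s * S.e 3 0 (p' * s) := by rw [c76]; group
      _ = S.e 2 p' 0 * S.e 3 c 0 * (S.o 2 (p' * c) * S.o 3 s) * S.e 3 0 (p' * s) := by rw [c64]; group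
      _ = _ := by rw [← EK_cent S (j7 _) (EK_five S _)]; group
  have E2 : S.o 2 (p' * c) * S.e 3 0 (p' * s) ∈ EK (Yf S) := mul_mem (EK_five S _) (EK_six S _)
  have l2 : (S.e 2 p 0 * (S.e 3 c 0 * S.o 3 s)) * (S.e 2 p' 0 * (S.e 3 c' 0 * S.o 3 s')) =
      (S.e 2 (p + p') 0 * (S.e 3 (c + c') 0 * S.o 3 (s + s'))) *
        (S.e 2 0 (p * σ p') * S.e 3 0 (c * σ c') * (S.o 2 (p' * c) * S.e 3 0 (p' * s))) := by
    rw [mmE r2 (EK_cent S (mul_mem (j6 _ _) (j7 _)) E2), l1, S.e_mul, zero_add, zero_add]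
    have e1 : S.e 2 (p + p') (p * σ p') = S.e 2 (p + p') 0 * S.e 2 0 (p * σ p') := by rw [S.e_mul]; simp
    rw [e1]
    have e2 := EK_cent S (mul_mem (j6 (c + c') 0) (j7 (s + s'))) (EK_four S (p * σ p'))
    calc S.e 2 (p + p') 0 * S.e 2 0 (p * σ p') * (S.e 3 (c + c') 0 * S.o 3 (s + s') * S.e 3 0 (c * σ c')) *
          (S.o 2 (p' * c) * S.e 3 0 (p' * s)) =
        S.e 2 (p + p') 0 * (S.e 2 0 (p * σ p') * (S.e 3 (c + c') 0 * S.o 3 (s + s'))) * S.e 3 0 (c * σ c') *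
          (S.o 2 (p' * c) * S.e 3 0 (p' * s)) := by group
      _ = _ := by rw [← e2]; group
  -- all
  have c31 : S.o 3 s * S.o 1 a' = S.o 1 a' * S.o 3 s := (S.o_o2 1 a' s).symm
  have c63 : S.e 3 c 0 * S.o 1 a' = S.o 1 a' * S.e 3 c 0 * S.e 2 0 (a' * c) := by
    have h1 : S.o 1 a' * S.e 3 c 0 = S.e 3 c 0 * S.o 1 a' * S.e 2 0 (a' * c) := S.o_e2 1 a' c 0
    exact inv_self_mul h1 (sq4 _) rfl
  have c43 : S.e 2 p 0 * S.o 1 a' = S.o 1 a' * S.e 2 p 0 := (S.o_e1 1 a' p 0).symm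
  have r1 : (S.e 2 p 0 * (S.e 3 c 0 * S.o 3 s)) * S.o 1 a' = S.o 1 a' * (S.e 2 p 0 * (S.e 3 c 0 * S.o 3 s)) *
      S.e 2 0 (a' * c) := by
    calc (S.e 2 p 0 * (S.e 3 c 0 * S.o 3 s)) * S.o 1 a' = S.e 2 p 0 * (S.e 3 c 0 * (S.o 3 s * S.o 1 a')) := by group
      _ = S.e 2 p 0 * (S.e 3 c 0 * S.o 1 a') * S.o 3 s := by rw [c31]; group
      _ = (S.e 2 p 0 * S.o 1 a') * S.e 3 c 0 * (S.e 2 0 (a' * c) * S.o 3 s) := by rw [c63]; group
      _ = _ := by rw [c43, ← EK_cent S (j7 _) (EK_four S _)]; group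
  refine ⟨(S.e 2 0 (p * σ p') * S.e 3 0 (c * σ c') * (S.o 2 (p' * c) * S.e 3 0 (p' * s))) * S.e 2 0 (a' * c),
    mul_mem (mul_mem (mul_mem (EK_four S _) (EK_six S _)) E2) (EK_four S _), ?_⟩
  unfold rq
  rw [mmE r1 (EK_cent S (mul_mem (j4 _ _) (mul_mem (j6 _ _) (j7 _))) (EK_four S _)), l2, S.o_add]
  group

/-- `⟨Z_8, Z_2^{X_9}⟩ EK` -/
noncomputable def AK : Subgroup G := Subgroup.closure {g | g ∈ Yf S 4 ∨ ∃ x ∈ Xf S 5, ∃ y ∈ Yf S (-2), g = x * y * x⁻¹} ⊔ EK (Yf S)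

theorem AK_EK {x : G} (h : x ∈ EK (Yf S)) : x ∈ AK S := Subgroup.mem_sup_right h

theorem AK_Z8 (v : F) : S.e 4 0 v ∈ AK S :=
  Subgroup.mem_sup_left (Subgroup.subset_closure (Or.inl (by rw [Yf4]; exact ⟨v, rfl⟩)))

theorem AK_conj (t v : F) : S.o 4 t * S.e 1 0 v * (S.o 4 t)⁻¹ ∈ AK S := by
  refine Subgroup.mem_sup_left (Subgroup.subset_closure (Or.inr ⟨S.o 4 t, ?_, S.e 1 0 v, ?_, rfl⟩))
  · have := S.o_mem 4 t
    exact this
  · rw [Yfm2]; exact ⟨v, rfl⟩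

theorem AK_Z2 (v : F) : S.e 1 0 v ∈ AK S := by
  have := AK_conj S 0 v
  rwa [S.o_zero, one_mul, inv_one, mul_one] at this

theorem e_inv (a : ZMod 8) (p u : F) : (S.e a p u)⁻¹ = S.e a p 0 * S.e a 0 (u + p * σ p) := by
  rw [inv_eq_iff_mul_eq_one, S.e_mul, S.e_mul, add_zero, S.add_self, map_zero, mul_zero, add_zero, zero_add]
  have h1 := S.add_self (u + p * σ p)
  rw [show u + (u + p * σ p) + p * σ p = u + p * σ p + (u + p * σ p) by ring, h1, S.e_zero]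

/-- the relation for `X_9` and `Z_2` -/
theorem rel9 (t v : F) : S.o 4 t * S.e 1 0 v = S.e 1 0 v * S.o 4 t * S.e 4 0 (t * σ t * v) * S.o 3 (t * σ t * σ v) *
    S.e 3 (σ t * v) (t * t * σ t * v * σ v) * S.o 2 (t * σ t * v * v) * S.e 2 (t * v) 0 * S.o 1 (t * σ v) := by
  have h1 := S.o_e4 0 t 0 v
  simp only [mul_zero, zero_mul, map_zero, zero_add, add_zero] at h1
  have h2 := congrArg (fun x => S.n1 * x * S.n1⁻¹) h1
  simp only [conj_mul', S.n1_o, S.n1_e] at h2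
  exact h2

/-- `⟨Z_8, Z_2^{X_9}⟩ EK` contains the commutators -/
theorem c_mem (t v : F) : rq S (t * σ v) (t * v) (σ t * v) (t * σ t * σ v) ∈ AK S := by
  have j3 : ∀ t, S.o 1 t ∈ J S.XZ 3 7 := fun t => mem_J (S.mX3 t) (by norm_num) (by norm_num)
  have j6 : ∀ t u, S.e 3 t u ∈ J S.XZ 3 7 := fun t u => mem_J (S.mX6 t u) (by norm_num) (by norm_num)
  have j7 : ∀ t, S.o 3 t ∈ J S.XZ 3 7 := fun t => mem_J (S.mX7 t) (by norm_num) (by norm_num)
  have h := rel9 S t v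
  generalize t * σ v = a at h ⊢
  generalize t * t * σ t * v * σ v = A3 at h
  generalize t * σ t * v * v = A4 at h
  generalize t * v = p at h ⊢
  generalize σ t * v = c at h ⊢
  generalize t * σ t * σ v = s at h ⊢
  generalize t * σ t * v = A1 at h
  have oi : ∀ (k : ZMod 8) x, (S.o k x)⁻¹ = S.o k x := fun k x => by
    rw [inv_eq_iff_mul_eq_one, S.o_add, S.add_self, S.o_zero]
  have e1 : S.o 3 s * S.e 3 c A3 * S.o 2 A4 * S.e 2 p 0 * S.o 1 a =
      (S.e 4 0 A1)⁻¹ * ((S.o 4 t)⁻¹ * (S.e 1 0 v)⁻¹ * S.o 4 t * S.e 1 0 v) := by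
    have e2 : (S.o 4 t)⁻¹ * (S.e 1 0 v)⁻¹ * S.o 4 t * S.e 1 0 v = (S.o 4 t)⁻¹ * (S.e 1 0 v)⁻¹ * (S.o 4 t * S.e 1 0 v) := by
      group
    rw [e2, h]
    group
  have m1 : S.o 3 s * S.e 3 c A3 * S.o 2 A4 * S.e 2 p 0 * S.o 1 a ∈ AK S := by
    rw [e1]
    refine mul_mem (inv_mem (AK_Z8 S _)) (mul_mem ?_ (AK_Z2 S v))
    have := inv_mem (AK_conj S t v)
    rw [mul_inv_rev, mul_inv_rev, inv_inv, ← mul_assoc] at this
    rw [oi] at this ⊢
    exact this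
  have m2 := inv_mem m1
  rw [mul_inv_rev, mul_inv_rev, mul_inv_rev, mul_inv_rev, oi, oi, oi, e_inv, e_inv, zero_add] at m2
  have e3 : S.o 1 a * (S.e 2 p 0 * S.e 2 0 (p * σ p) * (S.o 2 A4 * (S.e 3 c 0 * S.e 3 0 (A3 + c * σ c) * S.o 3 s))) =
      rq S a p c s * (S.e 2 0 (p * σ p) * S.o 2 A4 * S.e 3 0 (A3 + c * σ c)) := by
    have c1 := EK_cent S (j7 s) (EK_six S (A3 + c * σ c))
    have c2 := EK_cent S (mul_mem (j6 c 0) (j7 s)) (EK_five S A4)
    have c3 := EK_cent S (mul_mem (j6 c 0) (j7 s)) (EK_four S (p * σ p))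
    unfold rq
    calc S.o 1 a * (S.e 2 p 0 * S.e 2 0 (p * σ p) * (S.o 2 A4 * (S.e 3 c 0 * S.e 3 0 (A3 + c * σ c) * S.o 3 s))) =
        S.o 1 a * S.e 2 p 0 * S.e 2 0 (p * σ p) * S.o 2 A4 * S.e 3 c 0 * (S.e 3 0 (A3 + c * σ c) * S.o 3 s) := by group
      _ = S.o 1 a * S.e 2 p 0 * S.e 2 0 (p * σ p) * (S.o 2 A4 * (S.e 3 c 0 * S.o 3 s)) * S.e 3 0 (A3 + c * σ c) := by
        rw [← c1]; group
      _ = S.o 1 a * S.e 2 p 0 * (S.e 2 0 (p * σ p) * (S.e 3 c 0 * S.o 3 s)) * S.o 2 A4 * S.e 3 0 (A3 + c * σ c) := by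
        rw [← c2]; group
      _ = _ := by rw [← c3]; group
  rw [e3] at m2
  exact (Subgroup.mul_mem_cancel_right _ (AK_EK S (mul_mem (mul_mem (EK_four S _) (EK_five S _)) (EK_six S _)))).1 m2

/-- the parameters -/
noncomputable def BK : AddSubgroup (F × F × F × F) where
  carrier := {m | rq S m.1 m.2.1 m.2.2.1 m.2.2.2 ∈ AK S}
  zero_mem' := by
    show rq S 0 0 0 0 ∈ AK S
    unfold rq
    rw [S.o_zero, S.e_zero, S.e_zero, S.o_zero]
    simp only [mul_one]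
    exact one_mem _
  add_mem' := by
    rintro ⟨a, p, c, s⟩ ⟨a', p', c', s'⟩ h h'
    obtain ⟨E, hE, e⟩ := rq_mul S a p c s a' p' c' s'
    have h1 := mul_mem (show rq S a p c s ∈ AK S from h) (show rq S a' p' c' s' ∈ AK S from h')
    rw [e] at h1
    exact (Subgroup.mul_mem_cancel_right _ (AK_EK S hE)).1 h1
  neg_mem' := by
    rintro ⟨a, p, c, s⟩ h
    have hn : ∀ x : F, -x = x := fun x => by
      have := S.add_self x
      exact (neg_eq_of_add_eq_zero_left this)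
    show rq S (-a) (-p) (-c) (-s) ∈ AK S
    rw [hn, hn, hn, hn]
    exact h

theorem J37_le_AK (hq : 4 < Nat.card F) : J S.XZ 3 7 ≤ AK S := by
  obtain ⟨h3, h4, h6, h7⟩ := alg S hq (BK S) (AddMonoidHom.inl F (F × F × F))
    ((AddMonoidHom.inr F (F × F × F)).comp (AddMonoidHom.inl F (F × F)))
    ((AddMonoidHom.inr F (F × F × F)).comp ((AddMonoidHom.inr F (F × F)).comp (AddMonoidHom.inl F F)))
    ((AddMonoidHom.inr F (F × F × F)).comp ((AddMonoidHom.inr F (F × F)).comp (AddMonoidHom.inr F F))) (by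
      intro t v
      have := c_mem S t v
      have e : (((AddMonoidHom.inr F (F × F × F)).comp ((AddMonoidHom.inr F (F × F)).comp (AddMonoidHom.inr F F)))
          (t * σ t * σ v) + ((AddMonoidHom.inr F (F × F × F)).comp ((AddMonoidHom.inr F (F × F)).comp
          (AddMonoidHom.inl F F))) (σ t * v) + ((AddMonoidHom.inr F (F × F × F)).comp (AddMonoidHom.inl F (F × F)))
          (t * v) + (AddMonoidHom.inl F (F × F × F)) (t * σ v)) = (t * σ v, t * v, σ t * v, t * σ t * σ v) := by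
        simp
      rw [e]
      exact this)
  have k3 : ∀ x, S.o 1 x ∈ AK S := by
    intro x
    have : rq S x 0 0 0 ∈ AK S := h3 x
    unfold rq at this
    rw [S.e_zero, S.e_zero, S.o_zero, mul_one, mul_one, mul_one] at this
    exact this
  have k4 : ∀ x, S.e 2 x 0 ∈ AK S := by
    intro x
    have : rq S 0 x 0 0 ∈ AK S := h4 x
    unfold rq at this
    rw [S.e_zero, S.o_zero, S.o_zero, mul_one, mul_one, one_mul] at this
    exact this
  have k6 : ∀ x, S.e 3 x 0 ∈ AK S := by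
    intro x
    have : rq S 0 0 x 0 ∈ AK S := h6 x
    unfold rq at this
    rw [S.e_zero, S.o_zero, S.o_zero, mul_one, one_mul, one_mul] at this
    exact this
  have k7 : ∀ x, S.o 3 x ∈ AK S := by
    intro x
    have : rq S 0 0 0 x ∈ AK S := h7 x
    unfold rq at this
    rw [S.e_zero, S.e_zero, S.o_zero, one_mul, one_mul, one_mul] at this
    exact this
  refine J_le fun k h1 h2 x hx => ?_
  interval_cases k
  · obtain ⟨t, rfl⟩ := S.X3 hx
    exact k3 t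
  · obtain ⟨p, u, rfl⟩ := S.X4 hx
    have e : S.e 2 p u = S.e 2 p 0 * S.e 2 0 u := by rw [S.e_mul]; simp
    rw [e]
    exact mul_mem (k4 p) (AK_EK S (EK_four S u))
  · obtain ⟨t, rfl⟩ := S.X5 hx
    exact AK_EK S (EK_five S t)
  · obtain ⟨p, u, rfl⟩ := S.X6 hx
    have e : S.e 3 p u = S.e 3 p 0 * S.e 3 0 u := by rw [S.e_mul]; simp
    rw [e]
    exact mul_mem (k6 p) (AK_EK S (EK_six S u))
  · obtain ⟨t, rfl⟩ := S.X7 hx
    exact k7 t

theorem k2 (hq : 4 < Nat.card F) : NK (Xf S) (Yf S) ≤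
    Subgroup.closure {g | g ∈ Yf S 4 ∨ ∃ x ∈ Xf S 5, ∃ y ∈ Yf S (-2), g = x * y * x⁻¹} ⊔ EK (Yf S) := by
  rw [NK_eq]
  intro q hq'
  obtain ⟨u, v, r, hr, rfl⟩ := S.mem_NO_iff.1 hq'
  exact mul_mem (mul_mem (AK_Z2 S u) (J37_le_AK S hq hr)) (AK_Z8 S v)

end Cfsg.Agent.OddHalf.D7TwF4.Growth.KInst
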