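import Cfsg.Agent.OddHalf.D7TwF4.Growth.KForm
import Cfsg.Agent.KFacts.TwF4.AutTau

/-!
# Growth of the doubled root groups of `²F₄(q)`: weights (helper517)

* `NH` : the weight lemma; `nh1`, `nh2`.
-/

set_option autoImplicit false
set_option linter.unusedSectionVars false

namespace Cfsg.Agent.OddHalf.D7TwF4.Growth.KInst

open Cfsg.Agent.KFacts.TwF4 Cfsg.Agent.SplitTwo.ZS Cfsg.Agent.OddHalf.D7TwF4.Growth.Defs
open Cfsg.Agent.KFacts.TwF4.AutTau
open scoped commutatorElement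

universe u

variable {F : Type*} [Field F] {σ : F →+* F} {G : Type u} [Group G] (S : Full σ G)

include S in
/-- the weight lemma -/
theorem NH (hq : 2 < Nat.card F) (α β : F →+* F) (hα : Function.Surjective α) (f : F → F)
    (hadd : ∀ x y, f (x + y) = f x + f y) (hf : ∀ r : F, r ≠ 0 → ∀ x, f (α r * x) = β (r * σ r) * f x) (x : F) :
    f x = 0 := by
  obtain ⟨r, hr0, hr1, hr⟩ := exists_moved S hq
  have h1 : f 1 = 0 := by
    have e1 := hf r hr0 1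
    have hr2 : r + 1 ≠ 0 := by
      intro h
      apply hr1
      have h2 := S.add_self (1 : F)
      linear_combination h - h2
    have e2 := hf (r + 1) hr2 1
    rw [mul_one] at e1 e2
    rw [map_add, map_one, hadd, e1, map_add σ, map_one] at e2
    have e3 : β (r + σ r) * f 1 = 0 := by
      rw [show (r + 1) * (σ r + 1) = r * σ r + (r + σ r) + 1 by ring, map_add β, map_add β, map_one] at e2
      linear_combination -e2
    rcases mul_eq_zero.1 e3 with h | h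
    · exact absurd ((map_eq_zero β).1 h) hr
    · exact h
  by_cases hx : x = 0
  · have e1 := hadd 0 0
    rw [add_zero] at e1
    rw [hx]
    exact left_eq_add.1 e1
  · obtain ⟨s, rfl⟩ := hα x
    have hs : s ≠ 0 := fun h => hx (by rw [h, map_zero])
    have := hf s hs 1
    rw [mul_one, h1, mul_zero] at this
    exact this

theorem Tfm1 : Tf S (-1) = S.Tk (2 * 1 + 1) := by
  have e : (4 : ℤ) + -1 = 2 * 1 + 1 := by norm_num
  unfold Tf
  rw [e]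

theorem Tf4 : Tf S 4 = S.Tk (2 * 4) := by
  have e : (4 : ℤ) + 4 = 2 * 4 := by norm_num
  unfold Tf
  rw [e]

theorem T3_mem (R : Fˣ) : S.h R⁻¹ (R / Units.map (σ : F →* F) R) ∈ Tf S (-1) := by
  rw [Tfm1, mem_Tk_odd]
  have h1 : chO σ ((1 : ℤ) : ZMod 8) R⁻¹ (R / Units.map (σ : F →* F) R) =
      chE σ 1 R⁻¹ (R / Units.map (σ : F →* F) R) * chE σ 2 R⁻¹ (R / Units.map (σ : F →* F) R) := rfl
  rw [h1, chE_one, chE_two, map_div, map_map σ S.sq R, div_inv_eq_mul]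
  generalize Units.map (σ : F →* F) R = R'
  have h2 : R' / (R * R) * R = R' / R := by rw [div_mul_eq_mul_div, mul_div_mul_right_eq_div]
  rw [pow_two, h2, div_mul_div_cancel, div_self']

theorem T8_mem (R : Fˣ) : S.h 1 R ∈ Tf S 4 := by
  rw [Tf4, mem_Tk_even]
  have h1 : chE σ ((4 : ℤ) : ZMod 8) 1 R = 1⁻¹ := rfl
  rw [h1, inv_one]

theorem T3_act7 (R : Fˣ) (x : F) : S.h R⁻¹ (R / Units.map (σ : F →* F) R) * S.o 3 x *
    (S.h R⁻¹ (R / Units.map (σ : F →* F) R))⁻¹ = S.o 3 ((R : F) * (R : F) * x) := by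
  have h1 := S.h_o R⁻¹ (R / Units.map (σ : F →* F) R) 3 x
  have h2 : chO σ 3 R⁻¹ (R / Units.map (σ : F →* F) R) =
      chE σ 3 R⁻¹ (R / Units.map (σ : F →* F) R) * chE σ 4 R⁻¹ (R / Units.map (σ : F →* F) R) := rfl
  rw [h1, h2, chE_three, chE_four, map_inv, div_inv_eq_mul, div_mul_cancel, inv_inv, Units.val_mul]

theorem T3_act6 (R : Fˣ) (x : F) : S.h R⁻¹ (R / Units.map (σ : F →* F) R) * S.e 3 0 x *
    (S.h R⁻¹ (R / Units.map (σ : F →* F) R))⁻¹ = S.e 3 0 ((R : F) * σ (R : F) * x) := by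
  have h1 := S.h_e R⁻¹ (R / Units.map (σ : F →* F) R) 3 0 x
  have h2 : chE σ 3 R⁻¹ (R / Units.map (σ : F →* F) R) =
      (R / Units.map (σ : F →* F) R) / Units.map (σ : F →* F) R⁻¹ := rfl
  rw [h1, h2, map_inv, div_inv_eq_mul, div_mul_cancel, mul_zero]

theorem T8_act4 (R : Fˣ) (x : F) : S.h 1 R * S.e 2 x 0 * (S.h 1 R)⁻¹ = S.e 2 (σ (R : F) * x) 0 := by
  have h1 := S.h_e 1 R 2 x 0
  have h2 : chE σ 2 1 R = Units.map (σ : F →* F) R / 1 := rfl
  rw [h1, h2, div_one, mul_zero]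
  rfl

theorem T8_qq (R : Fˣ) (u s v w z : F) : S.h 1 R * qq S u s v w z * (S.h 1 R)⁻¹ =
    qq S ((R : F) * σ (R : F) * u) ((R : F) * σ (R : F) * s) (σ ((R : F) * σ (R : F)) * v) ((R : F) * σ (R : F) * w)
      ((R : F) * σ (R : F) * z) := by
  have e1 : chE σ 1 1 R = R := chE_one _ 1 R
  have e2 : chE σ 2 1 R = Units.map (σ : F →* F) R := by rw [chE_two, div_one]
  have e3 : chE σ 3 1 R = R := by rw [chE_three, map_one, div_one]
  have o1 : chO σ 1 1 R = R * Units.map (σ : F →* F) R := by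
    have : chO σ 1 1 R = chE σ 1 1 R * chE σ 2 1 R := rfl
    rw [this, e1, e2]
  have o2 : chO σ 2 1 R = R * Units.map (σ : F →* F) R := by
    have : chO σ 2 1 R = chE σ 2 1 R * chE σ 3 1 R := rfl
    rw [this, e2, e3, mul_comm]
  have m1 : ((Units.map (σ : F →* F) R : Fˣ) : F) = σ (R : F) := rfl
  rw [qq_conj, e1, e2, e3, o1, o2, Units.val_mul, m1, map_mul]

theorem nh1 (hq : 2 < Nat.card F) : ∀ f : G → G, (∀ a ∈ Xf S 3, f a ∈ Yf S 2) →
    (∀ a ∈ Xf S 3, ∀ b ∈ Xf S 3, f (a * b) = f a * f b) →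
    (∀ h ∈ Tf S (-1), ∀ a ∈ Xf S 3, f (h * a * h⁻¹) = h * f a * h⁻¹) → ∀ a ∈ Xf S 3, f a = 1 := by
  intro f f1 f2 f3
  rw [Yf2] at f1
  have : Finite F := Nat.finite_of_card_ne_zero (by omega)
  have hσs : Function.Surjective σ := Finite.surjective_of_injective σ.injective
  have ex : ∀ t, ∃ z, S.e 3 0 z = f (S.o 3 t) := fun t => by
    obtain ⟨z, hz⟩ := f1 _ (S.mX7 t)
    exact ⟨z, hz⟩
  choose g hg using ex
  have hadd : ∀ x y, g (x + y) = g x + g y := by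
    intro x y
    have h1 := f2 _ (S.mX7 x) _ (S.mX7 y)
    rw [S.o_add, ← hg, ← hg, ← hg, S.e_mul_Zc] at h1
    exact (S.injE 3 _ _ _ _ h1).2
  have hw : ∀ r : F, r ≠ 0 → ∀ x, g (σ (σ r) * x) = (r * σ r) * g x := by
    intro r hr x
    have h1 := f3 _ (T3_mem S (Units.mk0 r hr)) _ (S.mX7 x)
    rw [T3_act7, ← hg, ← hg, T3_act6] at h1
    have h2 := (S.injE 3 _ _ _ _ h1).2
    rw [Units.val_mk0] at h2
    rw [S.sq, pow_two]
    exact h2
  have key : ∀ t, g t = 0 := NH S hq (σ.comp σ) (RingHom.id F) (hσs.comp hσs) g hadd hw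
  intro a ha
  obtain ⟨t, rfl⟩ := S.X7 ha
  rw [← hg, key, S.e_zero]

theorem nh2 (hq : 2 < Nat.card F) : ∀ f : G → G, (∀ a ∈ Xf S 0, f a ∈ Q2 (Yf S)) →
    (∀ a ∈ Xf S 0, ∀ b ∈ Xf S 0, f (a * b) = f a * f b) → (∀ a ∈ Yf S 0, f a = 1) →
    (∀ h ∈ Tf S 4, ∀ a ∈ Xf S 0, f (h * a * h⁻¹) = h * f a * h⁻¹) → ∀ a ∈ Xf S 0, f a = 1 := by
  intro f f1 f2 f3 f4
  rw [Q2_eq] at f1
  rw [Yf0] at f3
  have : Finite F := Nat.finite_of_card_ne_zero (by omega)
  have hσs : Function.Surjective σ := Finite.surjective_of_injective σ.injective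
  have fz : ∀ p w, f (S.e 2 p w) = f (S.e 2 p 0) := by
    intro p w
    have e1 : S.e 2 p w = S.e 2 p 0 * S.e 2 0 w := by rw [S.e_mul]; simp
    rw [e1, f2 _ (S.mX4 p 0) _ (S.mX4 0 w), f3 _ ⟨w, rfl⟩, mul_one]
  have ex : ∀ p, ∃ u s v w z, qq S u s v w z = f (S.e 2 p 0) := fun p => (mem_Q2 S).1 (f1 _ (S.mX4 p 0))
  choose g1 g2 g3 g4 g5 hg using ex
  have hadd : ∀ x y, qq S (g1 (x + y)) (g2 (x + y)) (g3 (x + y)) (g4 (x + y)) (g5 (x + y)) =
      qq S (g1 x + g1 y) (g2 x + g2 y) (g3 x + g3 y) (g4 x + g4 y) (g5 x + g5 y) := by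
    intro x y
    rw [← qq_mul, hg, hg, hg, ← f2 _ (S.mX4 x 0) _ (S.mX4 y 0), S.e_mul]
    exact (fz (x + y) _).symm
  have hw : ∀ r : F, r ≠ 0 → ∀ x, qq S (g1 (σ r * x)) (g2 (σ r * x)) (g3 (σ r * x)) (g4 (σ r * x)) (g5 (σ r * x)) =
      qq S (r * σ r * g1 x) (r * σ r * g2 x) (σ (r * σ r) * g3 x) (r * σ r * g4 x) (r * σ r * g5 x) := by
    intro r hr x
    have h1 := f4 _ (T8_mem S (Units.mk0 r hr)) _ (S.mX4 x 0)
    rw [T8_act4, ← hg x, T8_qq] at h1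
    rw [hg]
    exact h1
  have k1 := NH S hq σ (RingHom.id F) hσs g1 (fun x y => (qq_inj S (hadd x y)).1)
    (fun r hr x => (qq_inj S (hw r hr x)).1)
  have k2 := NH S hq σ (RingHom.id F) hσs g2 (fun x y => (qq_inj S (hadd x y)).2.1)
    (fun r hr x => (qq_inj S (hw r hr x)).2.1)
  have k3 := NH S hq σ σ hσs g3 (fun x y => (qq_inj S (hadd x y)).2.2.1)
    (fun r hr x => (qq_inj S (hw r hr x)).2.2.1)
  have k4 := NH S hq σ (RingHom.id F) hσs g4 (fun x y => (qq_inj S (hadd x y)).2.2.2.1)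
    (fun r hr x => (qq_inj S (hw r hr x)).2.2.2.1)
  have k5 := NH S hq σ (RingHom.id F) hσs g5 (fun x y => (qq_inj S (hadd x y)).2.2.2.2)
    (fun r hr x => (qq_inj S (hw r hr x)).2.2.2.2)
  intro a ha
  obtain ⟨p, w, rfl⟩ := S.X4 ha
  rw [fz, ← hg, k1, k2, k3, k4, k5, qq_zero]

end Cfsg.Agent.OddHalf.D7TwF4.Growth.KInst
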