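import Cfsg.Agent.OddHalf.D7TwF4.Growth.One

/-!
# Growth for `²F₄(q)`: level 2, the group `N₁` (helper702; text bb ODD 13178)
-/

set_option autoImplicit false
set_option linter.unusedVariables false

namespace Cfsg.Agent.OddHalf.D7TwF4.Growth.NOne

open Cfsg.Agent.OddHalf.D7TwF4.Growth.Defs Cfsg.Agent.OddHalf.D7TwF4.Growth.Tools
open Cfsg.Agent.OddHalf.D7TwF4.Growth.Frame Cfsg.Agent.OddHalf.D7TwF4.Growth.Two
open Cfsg.Agent.OddHalf.D7TwF4.Growth.One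

variable {G : Type*} [Group G] {τ : G →* G} {X Y W T : ℤ → Subgroup G}

/-- the set of the elements of `N₁` -/
def Sc (τ : G →* G) (X Y W : ℤ → Subgroup G) : Set G :=
  {b | (∀ e ∈ EK W, b * e = e * b) ∧ b⁻¹ * τ b ∈ NK X Y ⊔ EK W}

/-- `N₁` -/
def Nc (τ : G →* G) (X Y W : ℤ → Subgroup G) : Subgroup G := Subgroup.closure (Sc τ X Y W)

/-- the generators `W₄`, `W₋₂ ^ X₅` -/
def gs (X W : ℤ → Subgroup G) : Set G := {g | g ∈ W 4 ∨ ∃ x ∈ X 5, ∃ w ∈ W (-2), g = x * w * x⁻¹}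

def Ng (X W : ℤ → Subgroup G) : Subgroup G := Subgroup.closure (gs X W ∪ EK W)

theorem E_le_Ng : EK W ≤ Ng X W := fun e he => Subgroup.subset_closure (Or.inr he)

/-- `g ∈ X₅` : `W₋₂ ^ g = W₄ ^ h`, `h ∈ X₋₃` -/
theorem tri' (h : Inp τ X Y W T) : ∀ g ∈ X 5, g ≠ 1 → ∃ k ∈ X (-3), ∀ w, w ∈ W (-2) ↔ k⁻¹ * (g * w * g⁻¹) * k ∈ W 4 :=
  (base (rf h 1)).tri

theorem cEgs (h : Inp τ X Y W T) : ∀ g ∈ gs X W, ∀ e ∈ EK W, g * e = e * g := by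
  rintro g (hg | ⟨x, hx, w, hw, rfl⟩) e he
  · exact c4E h g hg e he
  · have h1 : x⁻¹ * e * x ∈ EK W := (x5E h).inv hx he
    have h2 := cm2E h w hw _ h1
    calc x * w * x⁻¹ * e = x * (w * (x⁻¹ * e * x)) * x⁻¹ := by group
      _ = x * ((x⁻¹ * e * x) * w) * x⁻¹ := by rw [h2]
      _ = e * (x * w * x⁻¹) := by group

theorem cNg (h : Inp τ X Y W T) : Cm (Ng X W) (EK W) := by
  apply cm_of_le
  apply (Subgroup.closure_le _).2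
  rintro g (hg | hg)
  · exact Subgroup.mem_centralizer_iff.2 fun e he => (cEgs h g hg e he).symm
  · exact Subgroup.mem_centralizer_iff.2 fun e he => (cE h g hg e he).symm

/-- `⁅W₋₂, W₋₂ ^ x⁆ ≤ E` -/
theorem comm22 (h : Inp τ X Y W T) {x : G} (hx : x ∈ X 5) {u v : G} (hu : u ∈ W (-2)) (hv : v ∈ W (-2)) :
    u * (x * v * x⁻¹) * u⁻¹ * (x * v * x⁻¹)⁻¹ ∈ EK W := by
  by_cases h1 : x = 1
  · subst h1
    have e : u * (1 * v * 1⁻¹) * u⁻¹ * (1 * v * 1⁻¹)⁻¹ = u * v * u⁻¹ * v⁻¹ := by group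
    rw [e, h.Wab (-2) u hu v hv, mul_inv_cancel_right, mul_inv_cancel]
    exact one_mem _
  · obtain ⟨k, hk, hkw⟩ := tri' h x hx h1
    have h2 := (hkw v).1 hv
    obtain ⟨w, hw⟩ : ∃ w, w = k⁻¹ * (x * v * x⁻¹) * k := ⟨_, rfl⟩
    rw [← hw] at h2
    have e1 : x * v * x⁻¹ = k * w * k⁻¹ := by rw [hw]; group
    have hku : k * u = u * k := by
      have h0 := (base (rf h (-1))).w01
      have : Cm (W (-2)) (W (-3)) := h0
      exact (this u hu k (h.YW _ (by have := h.Yo (-2); exact this.symm ▸ hk))).symm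
    have e2 : u * (k * w * k⁻¹) * u⁻¹ * (k * w * k⁻¹)⁻¹ = k * (u * w * u⁻¹ * w⁻¹) * k⁻¹ := by
      have e3 : k⁻¹ * u⁻¹ = u⁻¹ * k⁻¹ := by rw [← mul_inv_rev, ← hku, mul_inv_rev]
      calc u * (k * w * k⁻¹) * u⁻¹ * (k * w * k⁻¹)⁻¹ = (u * k) * w * (k⁻¹ * u⁻¹) * k * w⁻¹ * k⁻¹ := by group
        _ = (k * u) * w * (u⁻¹ * k⁻¹) * k * w⁻¹ * k⁻¹ := by rw [hku, e3]
        _ = _ := by group
    rw [e1, e2]
    exact xm3E h k hk _ ((base h).w24 u hu w h2)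

theorem comm24 (h : Inp τ X Y W T) {x : G} (hx : x ∈ X 5) {u v : G} (hu : u ∈ W 4) (hv : v ∈ W (-2)) :
    (x * v * x⁻¹) * u * (x * v * x⁻¹)⁻¹ * u⁻¹ ∈ EK W := by
  have hxu : x * u = u * x := by
    have : Cm (W 4) (W 5) := (base (sh h 2)).w01
    exact (this u hu x (h.YW _ (by have := h.Yo 2; exact this.symm ▸ hx))).symm
  have e3 : x⁻¹ * u = u * x⁻¹ := comm_inv hxu
  have e4 : x⁻¹ * u⁻¹ = u⁻¹ * x⁻¹ := by rw [← mul_inv_rev, ← hxu, mul_inv_rev]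
  have e2 : (x * v * x⁻¹) * u * (x * v * x⁻¹)⁻¹ * u⁻¹ = x * (v * u * v⁻¹ * u⁻¹) * x⁻¹ := by
    calc (x * v * x⁻¹) * u * (x * v * x⁻¹)⁻¹ * u⁻¹ = x * v * (x⁻¹ * u) * x * v⁻¹ * (x⁻¹ * u⁻¹) := by group
      _ = x * v * (u * x⁻¹) * x * v⁻¹ * (u⁻¹ * x⁻¹) := by rw [e3, e4]
      _ = _ := by group
  rw [e2]
  exact x5E h x hx _ ((base h).w24 v hv u hu)

theorem inv_E {a b : G} (hab : a * b * a⁻¹ * b⁻¹ ∈ EK W) : b * a * b⁻¹ * a⁻¹ ∈ EK W := by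
  have := inv_mem hab
  have e : (a * b * a⁻¹ * b⁻¹)⁻¹ = b * a * b⁻¹ * a⁻¹ := by group
  rwa [e] at this

theorem comm_gs (h : Inp τ X Y W T) : ∀ a ∈ gs X W, ∀ b ∈ gs X W, a * b * a⁻¹ * b⁻¹ ∈ EK W := by
  rintro a (ha | ⟨x, hx, u, hu, rfl⟩) b (hb | ⟨y, hy, v, hv, rfl⟩)
  · rw [h.Wab 4 a ha b hb, mul_inv_cancel_right, mul_inv_cancel]
    exact one_mem _
  · exact inv_E (comm24 h hy ha hv)
  · exact comm24 h hx hb hu
  · have h1 := comm22 h (mul_mem (inv_mem hx) hy) hu hv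
    have h2 := x5E h x hx _ h1
    have e : x * (u * (x⁻¹ * y * v * (x⁻¹ * y)⁻¹) * u⁻¹ * (x⁻¹ * y * v * (x⁻¹ * y)⁻¹)⁻¹) * x⁻¹ =
        x * u * x⁻¹ * (y * v * y⁻¹) * (x * u * x⁻¹)⁻¹ * (y * v * y⁻¹)⁻¹ := by group
    rwa [e] at h2

theorem clNg (h : Inp τ X Y W T) : Cl (Ng X W) (Ng X W) (EK W) := by
  -- all generators
  have hg : ∀ a ∈ gs X W ∪ (EK W : Set G), ∀ b ∈ gs X W ∪ (EK W : Set G), a * b * a⁻¹ * b⁻¹ ∈ EK W := by
    rintro a ha b hb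
    rcases hb with hb | hb
    · rcases ha with ha | ha
      · exact comm_gs h a ha b hb
      · rw [← cEgs h b hb a ha, mul_inv_cancel_right, mul_inv_cancel]; exact one_mem _
    · have : a * b = b * a := cNg h a (Subgroup.subset_closure ha) b hb
      rw [this, mul_inv_cancel_right, mul_inv_cancel]; exact one_mem _
  have key : ∀ s : Set G, ∀ b : G, (∀ a ∈ s, a * b * a⁻¹ * b⁻¹ ∈ EK W) → s ⊆ Ng X W →
      ∀ a ∈ Subgroup.closure s, a * b * a⁻¹ * b⁻¹ ∈ EK W := by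
    intro s b hs hsN a ha
    have hsub : Subgroup.closure s ≤ Ng X W := (Subgroup.closure_le _).2 hsN
    have nE : ∀ a ∈ Ng X W, ∀ r ∈ EK W, a * r * a⁻¹ ∈ EK W := fun a ha r hr => by
      rw [cNg h a ha r hr, mul_inv_cancel_right]; exact hr
    have : a ∈ Ng X W ∧ a * b * a⁻¹ * b⁻¹ ∈ EK W := by
      refine Subgroup.closure_induction (p := fun a _ => a ∈ Ng X W ∧ a * b * a⁻¹ * b⁻¹ ∈ EK W) ?_ ?_ ?_ ?_ ha
      · intro x hx; exact ⟨hsN hx, hs x hx⟩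
      · exact ⟨one_mem _, by simp⟩
      · rintro x y _ _ ⟨hx, hx'⟩ ⟨hy, hy'⟩
        exact ⟨mul_mem hx hy, cl_mul hy' hx' (nE x hx)⟩
      · rintro x _ ⟨hx, hx'⟩
        refine ⟨inv_mem hx, ?_⟩
        have h2 := nE _ (inv_mem hx) _ (inv_mem hx')
        have e : x⁻¹ * (x * b * x⁻¹ * b⁻¹)⁻¹ * x⁻¹⁻¹ = x⁻¹ * b * x⁻¹⁻¹ * b⁻¹ := by group
        rwa [e] at h2
    exact this.2
  intro a ha b hb
  apply key _ b ?_ Subgroup.subset_closure a ha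
  intro a ha
  apply inv_E
  exact key _ a (fun b hb => hg b hb a ha) Subgroup.subset_closure b hb

theorem sqNg (h : Inp τ X Y W T) : ∀ n ∈ Ng X W, n * n ∈ EK W := by
  intro n hn
  have : n ∈ Ng X W ∧ n * n ∈ EK W := by
    refine Subgroup.closure_induction (p := fun a _ => a ∈ Ng X W ∧ a * a ∈ EK W) ?_ ?_ ?_ ?_ hn
    · rintro x (hx | hx)
      · refine ⟨Subgroup.subset_closure (Or.inl hx), ?_⟩
        rcases hx with hx | ⟨y, hy, w, hw, rfl⟩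
        · rw [h.Wsq 4 x hx]; exact one_mem _
        · have e : y * w * y⁻¹ * (y * w * y⁻¹) = y * (w * w) * y⁻¹ := by group
          rw [e, h.Wsq _ w hw, mul_one, mul_inv_cancel]; exact one_mem _
      · exact ⟨E_le_Ng hx, mul_mem hx hx⟩
    · exact ⟨one_mem _, by simp⟩
    · rintro x y _ _ ⟨hx, hx'⟩ ⟨hy, hy'⟩
      refine ⟨mul_mem hx hy, ?_⟩
      have e : x * y * (x * y) = (x * x) * (x⁻¹ * y * x⁻¹⁻¹ * y⁻¹) * (y * y) := by group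
      rw [e]
      exact mul_mem (mul_mem hx' (clNg h _ (inv_mem hx) _ hy)) hy'
    · rintro x _ ⟨hx, hx'⟩
      refine ⟨inv_mem hx, ?_⟩
      have e : x⁻¹ * x⁻¹ = (x * x)⁻¹ := by group
      rw [e]; exact inv_mem hx'
  exact this.2

theorem NK_le_Ng (h : Inp τ X Y W T) : NK X Y ≤ Ng X W := by
  refine (base h).k2.trans (sup_le ((Subgroup.closure_le _).2 ?_) ?_)
  · rintro g (hg | ⟨x, hx, y, hy, rfl⟩)
    · exact Subgroup.subset_closure (Or.inl (Or.inl (h.YW 4 hg)))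
    · exact Subgroup.subset_closure (Or.inl (Or.inr ⟨x, hx, y, h.YW _ hy, rfl⟩))
  · exact (dE h).le.trans E_le_Ng

theorem y4NK (Y : ℤ → Subgroup G) : Y 4 ≤ NK X Y := le_sup_right
theorem x3NK (Y : ℤ → Subgroup G) : Y 3 ≤ NK X Y := le_sup_of_le_left le_sup_right
theorem x2NK (Y : ℤ → Subgroup G) : X 2 ≤ NK X Y := le_sup_of_le_left (le_sup_of_le_left le_sup_right)
theorem x0NK (Y : ℤ → Subgroup G) : X 0 ≤ NK X Y :=
  le_sup_of_le_left (le_sup_of_le_left (le_sup_of_le_left le_sup_right))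
theorem Q2NK (Y : ℤ → Subgroup G) : Q2 Y ≤ NK X Y :=
  le_sup_of_le_left (le_sup_of_le_left (le_sup_of_le_left le_sup_left))
theorem ym2Q2 (Y : ℤ → Subgroup G) : Y (-2) ≤ Q2 Y := le_sup_right
theorem RQ2 (Y : ℤ → Subgroup G) : RK Y ≤ Q2 Y := le_sup_left
theorem ym1Q2 (Y : ℤ → Subgroup G) : Y (-1) ≤ Q2 Y := le_sup_of_le_left le_sup_right
theorem EQ2 (Y : ℤ → Subgroup G) : EK Y ≤ Q2 Y := le_sup_of_le_left le_sup_left
theorem y0E (Y : ℤ → Subgroup G) : Y 0 ≤ EK Y := le_sup_of_le_left le_sup_left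
theorem y1E (Y : ℤ → Subgroup G) : Y 1 ≤ EK Y := le_sup_of_le_left le_sup_right
theorem y2E (Y : ℤ → Subgroup G) : Y 2 ≤ EK Y := le_sup_right

/-- brackets: the map is multiplicative modulo `E` -/
theorem brk_mul (h : Inp τ X Y W T) {a b m k : G} (ha : a ∈ Ng X W) (hb : b ∈ Ng X W) (hm : m ∈ Ng X W)
    (hk : k ∈ Ng X W) (h1 : m⁻¹ * (a⁻¹ * τ a) ∈ EK W) (h2 : k⁻¹ * (b⁻¹ * τ b) ∈ EK W) :
    (m * k)⁻¹ * ((a * b)⁻¹ * τ (a * b)) ∈ EK W := by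
  obtain ⟨e, he⟩ : ∃ e, e = m⁻¹ * (a⁻¹ * τ a) := ⟨_, rfl⟩
  obtain ⟨f, hf⟩ : ∃ f, f = k⁻¹ * (b⁻¹ * τ b) := ⟨_, rfl⟩
  rw [← he] at h1
  rw [← hf] at h2
  have e1 : τ a = a * (m * e) := by rw [he]; group
  have e2 : τ b = b * (k * f) := by rw [hf]; group
  have e3 : (m * k)⁻¹ * ((a * b)⁻¹ * τ (a * b)) =
      (k⁻¹ * (m⁻¹ * b⁻¹ * m⁻¹⁻¹ * b⁻¹⁻¹) * k⁻¹⁻¹) * (((b * k)⁻¹ * e * (b * k)⁻¹⁻¹)) * f := by
    rw [map_mul, e1, e2]; group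
  rw [e3]
  have nE : ∀ a ∈ Ng X W, ∀ r ∈ EK W, a * r * a⁻¹ ∈ EK W := fun a ha r hr => by
    rw [cNg h a ha r hr, mul_inv_cancel_right]; exact hr
  refine mul_mem (mul_mem (nE _ (inv_mem hk) _ (clNg h _ (inv_mem hm) _ (inv_mem hb))) ?_) h2
  exact nE _ (inv_mem (mul_mem hb hk)) _ h1

theorem brk_inv (h : Inp τ X Y W T) {a m : G} (ha : a ∈ Ng X W) (hm : m ∈ Ng X W)
    (h1 : m⁻¹ * (a⁻¹ * τ a) ∈ EK W) : m⁻¹⁻¹ * (a⁻¹⁻¹ * τ a⁻¹) ∈ EK W := by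
  obtain ⟨e, he⟩ : ∃ e, e = m⁻¹ * (a⁻¹ * τ a) := ⟨_, rfl⟩
  rw [← he] at h1
  have e1 : τ a = a * (m * e) := by rw [he]; group
  have e3 : m⁻¹⁻¹ * (a⁻¹⁻¹ * τ a⁻¹) = m * (a * e⁻¹ * a⁻¹) * m⁻¹ * (m * a * m⁻¹ * a⁻¹) := by
    rw [map_inv, e1]; group
  rw [e3]
  have nE : ∀ a ∈ Ng X W, ∀ r ∈ EK W, a * r * a⁻¹ ∈ EK W := fun a ha r hr => by
    rw [cNg h a ha r hr, mul_inv_cancel_right]; exact hr
  exact mul_mem (nE _ hm _ (nE _ ha _ (inv_mem h1))) (clNg h _ hm _ ha)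

/-- brackets of elements of `Ng` -/
theorem brk_Ng (h : Inp τ X Y W T) : ∀ n ∈ Ng X W, ∃ m ∈ NK X Y, m⁻¹ * (n⁻¹ * τ n) ∈ EK W := by
  intro n hn
  have : n ∈ Ng X W ∧ ∃ m ∈ NK X Y, m⁻¹ * (n⁻¹ * τ n) ∈ EK W := by
    refine Subgroup.closure_induction (p := fun n _ => n ∈ Ng X W ∧ ∃ m ∈ NK X Y, m⁻¹ * (n⁻¹ * τ n) ∈ EK W)
      ?_ ?_ ?_ ?_ hn
    · rintro x (hx | hx)
      · refine ⟨Subgroup.subset_closure (Or.inl hx), x⁻¹ * τ x, ?_, by rw [inv_mul_cancel]; exact one_mem _⟩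
        rcases hx with hx | ⟨y, hy, w, hw, rfl⟩
        · exact y4NK Y (brkW h.toGen 4 hx)
        · have e : (y * w * y⁻¹)⁻¹ * τ (y * w * y⁻¹) = y * (w⁻¹ * τ w) * y⁻¹ := by
            simp only [map_mul, map_inv, h.tX 5 y hy]; group
          rw [e]
          exact (base h).nk5 y hy _ (Q2NK Y (ym2Q2 Y (brkW h.toGen _ hw)))
      · exact ⟨E_le_Ng hx, 1, one_mem _, by rw [inv_one, one_mul]; exact mul_mem (inv_mem hx) ((dE h).inv x hx)⟩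
    · exact ⟨one_mem _, 1, one_mem _, by simp⟩
    · rintro x y _ _ ⟨hx, m, hm, h1⟩ ⟨hy, k, hk, h2⟩
      exact ⟨mul_mem hx hy, m * k, mul_mem hm hk, brk_mul h hx hy (NK_le_Ng h hm) (NK_le_Ng h hk) h1 h2⟩
    · rintro x _ ⟨hx, m, hm, h1⟩
      exact ⟨inv_mem hx, m⁻¹, inv_mem hm, brk_inv h hx (NK_le_Ng h hm) h1⟩
  exact this.2

/-- every element of `N_K` is a bracket modulo `E` -/
theorem surj_Ng (h : Inp τ X Y W T) : ∀ m ∈ NK X Y, ∃ n ∈ Ng X W, m⁻¹ * (n⁻¹ * τ n) ∈ EK W := by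
  let S : Subgroup G :=
    { carrier := {m | m ∈ Ng X W ∧ ∃ n ∈ Ng X W, m⁻¹ * (n⁻¹ * τ n) ∈ EK W}
      one_mem' := ⟨one_mem _, 1, one_mem _, by simp⟩
      mul_mem' := by
        rintro a b ⟨ha, m, hm, h1⟩ ⟨hb, k, hk, h2⟩
        exact ⟨mul_mem ha hb, m * k, mul_mem hm hk, brk_mul h hm hk ha hb h1 h2⟩
      inv_mem' := by
        rintro a ⟨ha, m, hm, h1⟩
        exact ⟨inv_mem ha, m⁻¹, inv_mem hm, brk_inv h hm ha h1⟩ }
  have hle : NK X Y ≤ S := by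
    refine (base h).k2.trans (sup_le ((Subgroup.closure_le _).2 ?_) ?_)
    · rintro g (hg | ⟨x, hx, y, hy, rfl⟩)
      · obtain ⟨w, hw, h1⟩ := h.Ws 4 g hg
        exact ⟨Subgroup.subset_closure (Or.inl (Or.inl (h.YW 4 hg))), w,
          Subgroup.subset_closure (Or.inl (Or.inl hw)), by rw [h1, inv_mul_cancel]; exact one_mem _⟩
      · obtain ⟨w, hw, h1⟩ := h.Ws _ y hy
        refine ⟨Subgroup.subset_closure (Or.inl (Or.inr ⟨x, hx, y, h.YW _ hy, rfl⟩)), x * w * x⁻¹,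
          Subgroup.subset_closure (Or.inl (Or.inr ⟨x, hx, w, hw, rfl⟩)), ?_⟩
        have e : (x * w * x⁻¹)⁻¹ * τ (x * w * x⁻¹) = x * (w⁻¹ * τ w) * x⁻¹ := by
          simp only [map_mul, map_inv, h.tX 5 x hx]; group
        rw [e, h1, inv_mul_cancel]; exact one_mem _
    · intro e he
      have heE := (dE h).le he
      refine ⟨E_le_Ng heE, 1, one_mem _, ?_⟩
      rw [map_one, inv_one, mul_one, mul_one]; exact inv_mem heE
  exact fun m hm => (hle hm).2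

/-- `(DC)` -/
theorem Sc_sub (h : Inp τ X Y W T) : Sc τ X Y W ⊆ Ng X W := by
  rintro b ⟨hb, h1⟩
  obtain ⟨m, hm, e, he, hme⟩ := mem_sup' (NKE h).nz (show b⁻¹ * τ b ∈ EK W ⊔ NK X Y by rw [sup_comm]; exact h1)
  -- `b⁻¹ τ b = e m` in some order
  obtain ⟨n, hn, h2⟩ := surj_Ng h e he
  obtain ⟨f, hf⟩ : ∃ f, f = e⁻¹ * (n⁻¹ * τ n) := ⟨_, rfl⟩
  rw [← hf] at h2
  have e1 : τ n = n * (e * f) := by rw [hf]; group
  have e2 : τ b = b * (e * m) := by rw [← hme]; group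
  have hnE := cNg h n hn
  have heE := NKE h e he
  have e3 : (b * n⁻¹)⁻¹ * τ (b * n⁻¹) = (n * e) * (m * f⁻¹) * (n * e)⁻¹ := by
    rw [map_mul, map_inv, e1, e2]; group
  have h3 : (b * n⁻¹)⁻¹ * τ (b * n⁻¹) ∈ EK W := by
    have h4 : m * f⁻¹ ∈ EK W := mul_mem hm (inv_mem h2)
    rw [e3, comm_mul (hnE _ h4) (heE _ h4), mul_inv_cancel_right]
    exact h4
  obtain ⟨r, hr, h5⟩ := (dE h).exists_fix h.tt h3
  have h6 : ∀ e ∈ EK W, b * n⁻¹ * r * e = e * (b * n⁻¹ * r) := fun e he =>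
    comm_mul (comm_mul (hb e he) (comm_inv (hnE e he))) (cE h r hr e he)
  have h7 := (base h).k1 _ h5 (fun w hw => h6 w (y0E W hw))
    (fun x hx => h6 x (y1E W (h.YW 1 (by have := h.Yo 0; exact this.symm ▸ hx))))
    (fun y hy => h6 y (y2E W (h.YW 2 hy)))
  have e8 : b = (b * n⁻¹ * r) * r⁻¹ * n := by group
  rw [e8]
  exact mul_mem (mul_mem (NK_le_Ng h h7) (inv_mem (E_le_Ng hr))) hn

theorem Ng_sub (h : Inp τ X Y W T) : ∀ n ∈ Ng X W, n ∈ Sc τ X Y W := by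
  intro n hn
  refine ⟨cNg h n hn, ?_⟩
  obtain ⟨m, hm, h1⟩ := brk_Ng h n hn
  have e : n⁻¹ * τ n = m * (m⁻¹ * (n⁻¹ * τ n)) := by group
  rw [e]
  exact Subgroup.mul_mem_sup hm h1

theorem Nc_eq (h : Inp τ X Y W T) : Nc τ X Y W = Ng X W :=
  le_antisymm ((Subgroup.closure_le _).2 (Sc_sub h)) fun n hn => Subgroup.subset_closure (Ng_sub h n hn)

theorem mem_Nc (h : Inp τ X Y W T) {b : G} : b ∈ Nc τ X Y W ↔ b ∈ Sc τ X Y W :=
  ⟨fun hb => Ng_sub h b (Nc_eq h ▸ hb), fun hb => Subgroup.subset_closure hb⟩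

/-- `N₁` is a double of `N_K` over `E` -/
theorem dbN (h : Inp τ X Y W T) : DB τ (Nc τ X Y W) (NK X Y) (EK W) (EK Y) := by
  rw [Nc_eq h]
  refine ⟨NK_le_Ng h, E_le_Ng, ?_, ?_, ?_, ?_, ?_, clNg h, sqNg h, dE h⟩
  · intro x hx
    have y (i : ℤ) : Y i ≤ τ.eqLocus (MonoidHom.id G) := fun y hy => h.tX i y (h.YX i hy)
    have x' (i : ℤ) : X i ≤ τ.eqLocus (MonoidHom.id G) := fun y hy => h.tX i y hy
    have : NK X Y ≤ τ.eqLocus (MonoidHom.id G) :=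
      sup_le (sup_le (sup_le (sup_le (sup_le (sup_le (sup_le (sup_le (y 0) (y 1)) (y 2)) (y _)) (y _)) (x' 0))
        (x' 2)) (y 3)) (y 4)
    exact this hx
  · intro b hb
    obtain ⟨m, hm, h1⟩ := brk_Ng h b hb
    have e : τ b = b * (m * (m⁻¹ * (b⁻¹ * τ b))) := by group
    rw [e]
    exact mul_mem hb (mul_mem (NK_le_Ng h hm) (E_le_Ng h1))
  · intro b hb h1
    have h2 := cNg h b hb
    exact (base h).k1 _ h1 (fun w hw => h2 w (y0E W hw))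
      (fun x hx => h2 x (y1E W (h.YW 1 (by have := h.Yo 0; exact this.symm ▸ hx))))
      (fun y hy => h2 y (y2E W (h.YW 2 hy)))
  · intro b hb
    obtain ⟨m, hm, h1⟩ := brk_Ng h b hb
    exact ⟨m, hm, _, h1, by group⟩
  · intro x hx
    obtain ⟨n, hn, h1⟩ := surj_Ng h x hx
    exact ⟨n, hn, _, h1, by group⟩

theorem cNc (h : Inp τ X Y W T) : Cm (Nc τ X Y W) (EK W) := by
  rw [Nc_eq h]; exact cNg h

/-- `N₁` is `t`-free -/
theorem dN (h : Inp τ X Y W T) : Dbl τ (Nc τ X Y W) (NK X Y) := by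
  have hd := dbN h
  have hEN : EK W ≤ Nc τ X Y W := hd.WB
  have h1 := (dE h).sup_B h.tt hd le_rfl inf_le_left (cNc h).nz
  have h2 := h1.1
  have hEK : EK Y ≤ NK X Y := (EQ2 Y).trans (Q2NK Y)
  rwa [sup_eq_right.2 hEN, sup_eq_right.2 hEK] at h2

/-- groups normalising `E`, `N_K` and fixed by `τ` normalise `N₁` -/
theorem nzN (h : Inp τ X Y W T) {A : Subgroup G} (hA : ∀ a ∈ A, τ a = a) (hE : Nz A (EK W)) (hN : Nz A (NK X Y)) :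
    Nz A (Nc τ X Y W) := by
  intro a ha n hn
  rw [mem_Nc h] at hn ⊢
  refine ⟨fun e he => ?_, ?_⟩
  · have h1 := hn.1 _ (hE.inv ha he)
    calc a * n * a⁻¹ * e = a * (n * (a⁻¹ * e * a)) * a⁻¹ := by group
      _ = a * ((a⁻¹ * e * a) * n) * a⁻¹ := by rw [h1]
      _ = e * (a * n * a⁻¹) := by group
  · have e : (a * n * a⁻¹)⁻¹ * τ (a * n * a⁻¹) = a * (n⁻¹ * τ n) * a⁻¹ := by
      simp only [map_mul, map_inv, hA a ha]; group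
    rw [e]
    exact (hN.sup' hE) a ha _ hn.2

theorem Nc_ref (τ : G →* G) (X Y W : ℤ → Subgroup G) : Nc τ (F 1 (-1) X) (F 1 (-1) Y) (F 1 (-1) W) = Nc τ X Y W := by
  unfold Nc Sc
  rw [EK_ref, NK_ref]

theorem nk5' (h : Inp τ X Y W T) : Nz (X (-3)) (NK X Y) := by
  have : Nz (X (-3)) (NK (F 1 (-1) X) (F 1 (-1) Y)) := (base (rf h 1)).nk5
  rwa [NK_ref] at this

theorem nk4' (h : Inp τ X Y W T) : Nz (X (-2)) (NK X Y) := by
  have : Nz (X (-2)) (NK (F 1 (-1) X) (F 1 (-1) Y)) := (base (rf h 1)).nk4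
  rwa [NK_ref] at this

theorem TNK (h : Gen τ X Y W T) (i : ℤ) : Nz (T i) (NK X Y) := by
  have y := h.TY i
  have x := h.TX i
  exact ((((((((y 0).sup' (y 1)).sup' (y 2)).sup' (y _)).sup' (y _)).sup' (x 0)).sup' (x 2)).sup' (y 3)).sup' (y 4)

theorem n5 (h : Inp τ X Y W T) : Nz (X 5) (Nc τ X Y W) := nzN h (h.tX 5) (x5E h) (base h).nk5
theorem nm3 (h : Inp τ X Y W T) : Nz (X (-3)) (Nc τ X Y W) := nzN h (h.tX _) (xm3E h) (nk5' h)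
theorem n4 (h : Inp τ X Y W T) : Nz (X 4) (Nc τ X Y W) := nzN h (h.tX 4) (x4E h) (base h).nk4
theorem nm2 (h : Inp τ X Y W T) : Nz (X (-2)) (Nc τ X Y W) := nzN h (h.tX _) (xm2E h) (nk4' h)
theorem nT (h : Inp τ X Y W T) (i : ℤ) : Nz (T i) (Nc τ X Y W) := nzN h (h.tT i) (TE h.toGen i) (TNK h.toGen i)

theorem W_le_N (h : Inp τ X Y W T) {i : ℤ} (hE : Cm (W i) (EK W)) (hK : Y i ≤ NK X Y) : W i ≤ Nc τ X Y W := by
  intro w hw
  exact Subgroup.subset_closure ⟨hE w hw, Subgroup.mem_sup_left (hK (brkW h.toGen i hw))⟩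

theorem w3N (h : Inp τ X Y W T) : W 3 ≤ Nc τ X Y W := W_le_N h (c3E h) (x3NK Y)
theorem w4N (h : Inp τ X Y W T) : W 4 ≤ Nc τ X Y W := W_le_N h (c4E h) (y4NK Y)

theorem Q2N (h : Inp τ X Y W T) : Q2 W ≤ Nc τ X Y W := by
  have hE : EK W ≤ Nc τ X Y W := (dbN h).WB
  exact sup_le (sup_le hE (W_le_N h (cm1E h) ((ym1Q2 Y).trans (Q2NK Y))))
    (W_le_N h (cm2E h) ((ym2Q2 Y).trans (Q2NK Y)))

end Cfsg.Agent.OddHalf.D7TwF4.Growth.NOne
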