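import Cfsg.Agent.OddHalf.D7TwF4.Growth.Hom
import Cfsg.Agent.OddHalf.D7TwF4.Growth.Avg

/-!
# Growth for `²F₄(q)`: levels 1, 2 (helper702; text bb ODD 13178)
-/

set_option autoImplicit false
set_option linter.unusedVariables false

namespace Cfsg.Agent.OddHalf.D7TwF4.Growth.One

open Cfsg.Agent.OddHalf.D7TwF4.Growth.Defs Cfsg.Agent.OddHalf.D7TwF4.Growth.Tools
open Cfsg.Agent.OddHalf.D7TwF4.Growth.Frame Cfsg.Agent.OddHalf.D7TwF4.Growth.Two
open Cfsg.Agent.OddHalf.D7TwF4.Growth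

variable {G : Type*} [Group G] {τ : G →* G} {X Y W T : ℤ → Subgroup G}

/-! ### general facts -/

theorem dW (h : Gen τ X Y W T) (i : ℤ) : Dbl τ (W i) (Y i) :=
  dbl_W h.tt (h.Wab i) (h.Wsq i) (h.Wt i) (fun y hy => h.tX i y (h.YX i hy)) (h.YW i) (h.Wf i) (h.Ws i)

theorem brkW (h : Gen τ X Y W T) (i : ℤ) {w : G} (hw : w ∈ W i) : w⁻¹ * τ w ∈ Y i :=
  brk_mem h.tt (h.Wab i) (h.Wsq i) (h.Wt i) (h.Wf i) hw

theorem dbl_bot (τ : G →* G) : Dbl τ (⊥ : Subgroup G) ⊥ where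
  le := le_rfl
  inv := by
    intro r hr
    rw [Subgroup.mem_bot] at hr ⊢
    rw [hr, map_one]
  fixK := by
    intro r hr
    rw [Subgroup.mem_bot] at hr
    rw [hr, map_one]
  fix := fun r hr _ => hr
  free := by
    intro s hs _
    rw [Subgroup.mem_bot] at hs
    exact ⟨1, one_mem _, by rw [hs, map_one]; simp⟩

/-- the odd `W i` as doubles of `X i` -/
theorem dbo (h : Gen τ X Y W T) {i : ℤ} (hi : Y i = X i) : DB τ (W i) (X i) ⊥ ⊥ where
  XB := hi ▸ h.YW i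
  WB := bot_le
  Xf := h.tX i
  inv := h.Wt i
  fix := fun b hb hf => hi ▸ h.Wf i b hb hf
  brk := fun b hb => ⟨b⁻¹ * τ b, hi ▸ brkW h i hb, 1, one_mem _, (mul_one _).symm⟩
  surj := fun x hx => by
    obtain ⟨w, hw, h1⟩ := h.Ws i x (hi.symm ▸ hx)
    exact ⟨w, hw, 1, one_mem _, by rw [h1, mul_one]⟩
  comm := (h.Wab i).cl ⊥
  sq := fun b hb => by rw [h.Wsq i b hb]; exact one_mem _
  WD := dbl_bot τ

/-- `(O4)` -/
theorem o4 (h : Inp τ X Y W T) : Cm (W 3) (X (-1)) := by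
  have b := base h
  have c : Cl (W 3) (X (-1)) (W 2) := (base (rf h 1)).c13
  have w23 : Cm (W 2) (W 3) := (base (sh h 1)).w01
  have hY3 : Y 3 = X 3 := h.Yo 1
  have hx13 : Cm (X (-1)) (X 3) := b.x13
  intro w hw x hx
  have hDB := dbo h.toGen (i := 3) hY3
  refine Hom.nh h.tt (K := Y 2) hDB ((h.Wab 2).mono (h.YW 2) (h.YW 2)) ?_
    (w23.symm.mono le_rfl (h.YW 2)) (fun a ha => (hx13 x hx a ha).symm) ?_ (T := T (-1)) (h.TW _ _) ?_
    (fun g hg => h.TXc _ g hg x hx) (h.TX _ _) (h.tT _) ?_ bot_le w hw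
  · intro v hv
    obtain ⟨y, hy⟩ : ∃ y, y = v⁻¹ * τ v := ⟨_, rfl⟩
    have hyY : y ∈ X 3 := by rw [hy, ← hY3]; exact brkW h.toGen 3 hv
    have e1 : τ v = v * y := by rw [hy]; group
    apply h.Wf 2 _ (c v hv x hx)
    have e2 : τ (v * x * v⁻¹ * x⁻¹) = v * (y * x) * (v * y)⁻¹ * x⁻¹ := by
      simp only [map_mul, map_inv, e1, h.tX (-1) x hx]; group
    rw [e2, ← hx13 x hx y hyY]; group
  · intro a ha
    rw [Subgroup.mem_bot] at ha
    rw [ha, one_mul, mul_one]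
  · intro g hg a ha
    rw [Subgroup.mem_bot] at ha ⊢
    rw [ha]; group
  · intro f hf hm _ he
    exact b.nh1 f hf hm he

/-! ### the group `E = W₀ W₁ W₂` -/

theorem EK_ref (W : ℤ → Subgroup G) : EK (F 1 (-1) W) = EK W := by
  show W 2 ⊔ W 1 ⊔ W 0 = W 0 ⊔ W 1 ⊔ W 2
  ac_rfl

theorem NK_ref (X Y : ℤ → Subgroup G) : NK (F 1 (-1) X) (F 1 (-1) Y) = NK X Y := by
  show Y 2 ⊔ Y 1 ⊔ Y 0 ⊔ Y 3 ⊔ Y 4 ⊔ X 2 ⊔ X 0 ⊔ Y (-1) ⊔ Y (-2) =
    Y 0 ⊔ Y 1 ⊔ Y 2 ⊔ Y (-1) ⊔ Y (-2) ⊔ X 0 ⊔ X 2 ⊔ Y 3 ⊔ Y 4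
  ac_rfl

theorem w12' (h : Inp τ X Y W T) : Cm (W 1) (W 2) := (base (rf h 1)).w01.symm

/-- `W 3` and `W 4` centralise `E` -/
theorem c3E (h : Inp τ X Y W T) : Cm (W 3) (EK W) := by
  have b1 := base (sh h 1)
  have b2 := base (rf h 1)
  have e1 : Cm (W 3) (W 0) := b2.w12
  have e2 : Cm (W 3) (W 1) := b2.w11
  have e3 : Cm (W 3) (W 2) := b1.w01.symm
  exact (e1.sup' e2).sup' e3

theorem c4E (h : Inp τ X Y W T) : Cm (W 4) (EK W) := by
  have b1 := base (sh h 1)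
  have e1 : Cm (W 4) (W 0) := b1.w22.symm
  have e2 : Cm (W 4) (W 1) := b1.w12.symm
  have e3 : Cm (W 4) (W 2) := b1.w02.symm
  exact (e1.sup' e2).sup' e3

theorem cm1E (h : Inp τ X Y W T) : Cm (W (-1)) (EK W) := by
  have := c3E (rf h 1)
  rw [EK_ref] at this
  exact this

theorem cm2E (h : Inp τ X Y W T) : Cm (W (-2)) (EK W) := by
  have := c4E (rf h 1)
  rw [EK_ref] at this
  exact this

theorem c0E (h : Inp τ X Y W T) : Cm (W 0) (EK W) :=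
  ((h.Wab 0).sup' (base h).w01).sup' (base h).w02

theorem c2E (h : Inp τ X Y W T) : Cm (W 2) (EK W) := by
  have := c0E (rf h 1)
  rw [EK_ref] at this
  exact this

theorem c1E (h : Inp τ X Y W T) : Cm (W 1) (EK W) :=
  (((base h).w01.symm).sup' (h.Wab 1)).sup' (w12' h)

theorem cE (h : Inp τ X Y W T) : Cm (EK W) (EK W) := ((c0E h).sup (c1E h)).sup (c2E h)

theorem x0E (h : Inp τ X Y W T) : Cm (X 0) (EK W) :=
  ((base h).x0w0.sup' (base h).x0w1).sup' (base h).x0w2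

theorem x2E (h : Inp τ X Y W T) : Cm (X 2) (EK W) := by
  have := x0E (rf h 1)
  rw [EK_ref] at this
  exact this

theorem x5E (h : Inp τ X Y W T) : Nz (X 5) (EK W) := by
  have b1 := base (sh h 1)
  have e0 : Cl (W 0) (X 5) (W 2) := b1.c23
  have e1 : Cl (W 1) (X 5) (W 2) := b1.c13
  have e2 : Cm (X 5) (W 2) := b1.x3w0
  have hE : W 2 ≤ EK W := le_sup_right
  intro x hx e he
  have key : EK W ≤ (EK W).comap (MulAut.conj x).toMonoidHom := by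
    refine sup_le (sup_le ?_ ?_) ?_
    · intro w hw
      show x * w * x⁻¹ ∈ EK W
      have e : x * w * x⁻¹ = (w * x * w⁻¹ * x⁻¹)⁻¹ * w := by group
      rw [e]
      exact mul_mem (inv_mem (hE (e0 w hw x hx))) (Subgroup.mem_sup_left (Subgroup.mem_sup_left hw))
    · intro w hw
      show x * w * x⁻¹ ∈ EK W
      have e : x * w * x⁻¹ = (w * x * w⁻¹ * x⁻¹)⁻¹ * w := by group
      rw [e]
      exact mul_mem (inv_mem (hE (e1 w hw x hx))) (Subgroup.mem_sup_left (Subgroup.mem_sup_right hw))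
    · intro w hw
      show x * w * x⁻¹ ∈ EK W
      rw [e2 x hx w hw, mul_inv_cancel_right]
      exact hE hw
  exact key he

theorem xm3E (h : Inp τ X Y W T) : Nz (X (-3)) (EK W) := by
  have := x5E (rf h 1)
  rw [EK_ref] at this
  exact this

theorem x4E (h : Inp τ X Y W T) : Nz (X 4) (EK W) := by
  have b1 := base (sh h 1)
  have b2 := base (rf h 2)
  have e0 : Cm (X 4) (W 0) := (base h).x4w0
  have e1 : Cl (W 1) (X 4) (W 2) := b1.c12
  have e2 : Cm (X 4) (W 2) := b2.x0w2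
  have hE : W 2 ≤ EK W := le_sup_right
  intro x hx e he
  have key : EK W ≤ (EK W).comap (MulAut.conj x).toMonoidHom := by
    refine sup_le (sup_le ?_ ?_) ?_
    · intro w hw
      show x * w * x⁻¹ ∈ EK W
      rw [e0 x hx w hw, mul_inv_cancel_right]
      exact Subgroup.mem_sup_left (Subgroup.mem_sup_left hw)
    · intro w hw
      show x * w * x⁻¹ ∈ EK W
      have e : x * w * x⁻¹ = (w * x * w⁻¹ * x⁻¹)⁻¹ * w := by group
      rw [e]
      exact mul_mem (inv_mem (hE (e1 w hw x hx))) (Subgroup.mem_sup_left (Subgroup.mem_sup_right hw))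
    · intro w hw
      show x * w * x⁻¹ ∈ EK W
      rw [e2 x hx w hw, mul_inv_cancel_right]
      exact hE hw
  exact key he

theorem xm2E (h : Inp τ X Y W T) : Nz (X (-2)) (EK W) := by
  have := x4E (rf h 1)
  rw [EK_ref] at this
  exact this

theorem TE (h : Gen τ X Y W T) (i : ℤ) : Nz (T i) (EK W) :=
  ((h.TW i 0).sup' (h.TW i 1)).sup' (h.TW i 2)

theorem dE (h : Inp τ X Y W T) : Dbl τ (EK W) (EK Y) := by
  have b := base h
  have d0 := dW h.toGen 0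
  have n1 : Nz (W 1) (W 0) := b.w01.symm.nz
  have d1 := d0.sup_W h.tt (h.Wab 1) (h.Wsq 1) (h.Wt 1) (fun y hy => h.tX 1 y (h.YX 1 hy)) (h.YW 1) (h.Wf 1) (h.Ws 1)
    b.i01 n1
  have n2 : Nz (W 2) (W 0 ⊔ W 1) := b.w02.symm.nz.sup' (w12' h).symm.nz
  exact d1.sup_W h.tt (h.Wab 2) (h.Wsq 2) (h.Wt 2) (fun y hy => h.tX 2 y (h.YX 2 hy)) (h.YW 2) (h.Wf 2) (h.Ws 2)
    b.i012 n2

theorem sqE (h : Inp τ X Y W T) : ∀ e ∈ EK W, e * e = 1 := by
  have key : ∀ A B : Subgroup G, Cm A B → (∀ a ∈ A, a * a = 1) → (∀ b ∈ B, b * b = 1) → ∀ e ∈ A ⊔ B, e * e = 1 := by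
    intro A B hAB hA hB e he
    obtain ⟨a, ha, b, hb, rfl⟩ := mem_sup hAB.symm.nz he
    calc a * b * (a * b) = a * (b * a) * b := by group
      _ = a * (a * b) * b := by rw [hAB a ha b hb]
      _ = (a * a) * (b * b) := by group
      _ = 1 := by rw [hA a ha, hB b hb, mul_one]
  exact key _ _ ((base h).w02.sup (w12' h)) (key _ _ (base h).w01 (h.Wsq 0) (h.Wsq 1)) (h.Wsq 2)

/-- `N_K` centralises `E` -/
theorem NKE (h : Inp τ X Y W T) : Cm (NK X Y) (EK W) := by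
  have y (i : ℤ) (hi : Cm (W i) (EK W)) : Cm (Y i) (EK W) := hi.mono (h.YW i) le_rfl
  exact (((((((((y 0 (c0E h)).sup (y 1 (c1E h))).sup (y 2 (c2E h))).sup (y _ (cm1E h))).sup (y _ (cm2E h))).sup
    (x0E h)).sup (x2E h)).sup (y 3 (c3E h))).sup (y 4 (c4E h)))

end Cfsg.Agent.OddHalf.D7TwF4.Growth.One
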