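import Cfsg.Agent.OddHalf.D7TwF4.Growth.NOne

/-!
# Growth for `²F₄(q)`: level 3, the double `B₀` of `X₀` (helper702; text bb ODD 13178)
-/

set_option autoImplicit false
set_option linter.unusedVariables false

namespace Cfsg.Agent.OddHalf.D7TwF4.Growth.Three

open Cfsg.Agent.OddHalf.D7TwF4.Growth.Defs Cfsg.Agent.OddHalf.D7TwF4.Growth.Tools
open Cfsg.Agent.OddHalf.D7TwF4.Growth.Frame Cfsg.Agent.OddHalf.D7TwF4.Growth.Two
open Cfsg.Agent.OddHalf.D7TwF4.Growth.One Cfsg.Agent.OddHalf.D7TwF4.Growth.NOne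
open Cfsg.Agent.OddHalf.D7TwF4.Growth

variable {G : Type*} [Group G] {τ : G →* G} {X Y W T : ℤ → Subgroup G}

/-! ### `A₀ = W₋₂ ⋯ W₂` -/

theorem dQ2 (h : Inp τ X Y W T) : Dbl τ (Q2 W) (Q2 Y) := by
  have b := base h
  have n1 : Nz (W (-1)) (EK W) := (cm1E h).nz
  have d1 := (dE h).sup_W h.tt (h.Wab _) (h.Wsq _) (h.Wt _) (fun y hy => h.tX _ y (h.YX _ hy)) (h.YW _) (h.Wf _)
    (h.Ws _) b.i1 n1
  have c1 : Cm (W (-2)) (W (-1)) := by
    have h0 := (base (rf h 0)).w01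
    have h1 := (base (rf h (-1))).w01
    have h2 := (base (sh h (-1))).w01
    exact h2
  have n2 : Nz (W (-2)) (EK W ⊔ W (-1)) := (cm2E h).nz.sup' c1.nz
  exact d1.sup_W h.tt (h.Wab _) (h.Wsq _) (h.Wt _) (fun y hy => h.tX _ y (h.YX _ hy)) (h.YW _) (h.Wf _)
    (h.Ws _) b.i2 n2

theorem cm12 (h : Inp τ X Y W T) : Cm (W (-2)) (W (-1)) := by
  have h2 := (base (sh h (-1))).w01
  exact h2

/-- `A₀` is abelian -/
theorem cA (h : Inp τ X Y W T) : Cm (Q2 W) (Q2 W) := by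
  have e1 : Cm (EK W) (Q2 W) := ((cE h).sup' (cm1E h).symm).sup' (cm2E h).symm
  have e2 : Cm (W (-1)) (Q2 W) := ((cm1E h).sup' (h.Wab _)).sup' (cm12 h).symm
  have e3 : Cm (W (-2)) (Q2 W) := ((cm2E h).sup' (cm12 h)).sup' (h.Wab _)
  exact (e1.sup e2).sup e3

theorem x4A (h : Inp τ X Y W T) : Nz (X 4) (Q2 W) := by
  have hE : EK W ≤ Q2 W := EQ2 W
  intro x hx e he
  have key : Q2 W ≤ (Q2 W).comap (MulAut.conj x).toMonoidHom := by
    refine sup_le (sup_le ?_ ?_) ?_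
    · intro w hw
      exact hE (x4E h x hx w hw)
    · intro w hw
      show x * w * x⁻¹ ∈ Q2 W
      have e : x * w * x⁻¹ = (w * x * w⁻¹ * x⁻¹)⁻¹ * w := by group
      rw [e]
      exact mul_mem (inv_mem ((base h).a14 w hw x hx)) (ym1Q2 W hw)
    · intro w hw
      show x * w * x⁻¹ ∈ Q2 W
      have e : x * w * x⁻¹ = (w * x * w⁻¹ * x⁻¹)⁻¹ * w := by group
      rw [e]
      exact mul_mem (inv_mem ((base h).a24 w hw x hx)) (ym2Q2 W hw)
  exact key he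

/-- groups fixed by `τ` normalising `R` normalise the fixed points -/
theorem nz_fix {R K A : Subgroup G} (hR : Dbl τ R K) (hA : ∀ a ∈ A, τ a = a) (hn : Nz A R) : Nz A K := by
  intro a ha k hk
  apply hR.fix _ (hn a ha k (hR.le hk))
  rw [map_mul, map_mul, map_inv, hA a ha, hR.fixK k hk]

/-! ### `C_E(T₀) = W₀` -/

theorem cT (h : Inp τ X Y W T) : ∀ e ∈ EK W, (∀ t ∈ T 0, e * t = t * e) → e ∈ W 0 := by
  have key : ∀ e ∈ EK W, (∀ t ∈ T 0, e * t = t * e) → τ e = e → e ∈ Y 0 := by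
    intro e he ht hτ
    have h1 : e ∈ EK Y := (dE h).fix e he hτ
    have h2 : e ∈ X 0 := (base h).kT e (Q2NK Y (EQ2 Y h1)) ht
    exact (base h).i3 ⟨EQ2 Y h1, h2⟩
  intro e he ht
  have h1 : e⁻¹ * τ e ∈ Y 0 := by
    apply key _ (mul_mem (inv_mem he) ((dE h).inv e he))
    · intro t ht'
      refine comm_mul (comm_inv (ht t ht')) ?_
      have := congrArg τ (ht t ht')
      rwa [map_mul, map_mul, h.tT 0 t ht'] at this
    · have e1 := (inv_eq_of_mul_eq_one_left (sqE h e he))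
      have e2 := (inv_eq_of_mul_eq_one_left (sqE h _ ((dE h).inv e he)))
      rw [map_mul, map_inv, h.tt, e1, e2]
      exact cE h _ ((dE h).inv e he) e he
  obtain ⟨w, hw, h2⟩ := h.Ws 0 _ h1
  have hwE : w ∈ EK W := y0E W hw
  have h3 : τ (e * w⁻¹) = e * w⁻¹ := by
    have e1 : τ e = e * (e⁻¹ * τ e) := by group
    have e2 : τ w = w * (w⁻¹ * τ w) := by group
    rw [map_mul, map_inv, e1, e2, h2]; group
  have h4 := key _ (mul_mem he (inv_mem hwE)) (fun t ht' => comm_mul (ht t ht')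
    (comm_inv ((h.TWc 0 t ht' w hw).symm))) h3
  have e5 : e = e * w⁻¹ * w := by group
  rw [e5]; exact mul_mem (h.YW 0 h4) hw

/-! ### `B₀` -/

/-- `C_{N₁}(T₀)` -/
def Bp (τ : G →* G) (X Y W T : ℤ → Subgroup G) : Subgroup G := Nc τ X Y W ⊓ Subgroup.centralizer (T 0 : Set G)

theorem mem_Bp {b : G} : b ∈ Bp τ X Y W T ↔ b ∈ Nc τ X Y W ∧ ∀ t ∈ T 0, b * t = t * b := by
  rw [Bp, Subgroup.mem_inf, Subgroup.mem_centralizer_iff]
  exact and_congr_right fun _ => ⟨fun h t ht => (h t ht).symm, fun h t ht => (h t ht).symm⟩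

theorem finT (h : Gen τ X Y W T) (i : ℤ) : Finite (T i) := by
  apply Nat.finite_of_card_ne_zero
  intro h0
  have := h.Todd i
  rw [h0] at this
  exact absurd this (by decide)

theorem dbP (h : Inp τ X Y W T) : DB τ (Bp τ X Y W T) (X 0) (W 0) (Y 0) := by
  have hd := dbN h
  have hτ : ∀ b ∈ Bp τ X Y W T, τ b ∈ Bp τ X Y W T := by
    intro b hb
    rw [mem_Bp] at hb ⊢
    refine ⟨hd.inv b hb.1, fun t ht => ?_⟩
    have := congrArg τ (hb.2 t ht)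
    rwa [map_mul, map_mul, h.tT 0 t ht] at this
  have hXB : X 0 ≤ Bp τ X Y W T := fun x hx =>
    mem_Bp.2 ⟨hd.XB (x0NK Y hx), fun t ht => (h.TXc 0 t ht x hx).symm⟩
  have hWB : W 0 ≤ Bp τ X Y W T := fun x hx =>
    mem_Bp.2 ⟨hd.WB (y0E W hx), fun t ht => (h.TWc 0 t ht x hx).symm⟩
  have hfix : ∀ b ∈ Bp τ X Y W T, τ b = b → b ∈ X 0 := fun b hb h1 =>
    (base h).kT b (hd.fix b (mem_Bp.1 hb).1 h1) (mem_Bp.1 hb).2
  have hsq : ∀ b ∈ Bp τ X Y W T, b * b ∈ W 0 := fun b hb =>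
    cT h _ (hd.sq b (mem_Bp.1 hb).1) fun t ht => comm_mul ((mem_Bp.1 hb).2 t ht) ((mem_Bp.1 hb).2 t ht)
  refine ⟨hXB, hWB, h.tX 0, hτ, hfix, ?_, ?_, ?_, hsq, dW h.toGen 0⟩
  · intro b hb
    obtain ⟨g, hg⟩ : ∃ g, g = b⁻¹ * τ b := ⟨_, rfl⟩
    have hgB : g ∈ Bp τ X Y W T := hg ▸ mul_mem (inv_mem hb) (hτ b hb)
    have h1 : g⁻¹ * τ g ∈ W 0 := by
      have e : g⁻¹ * τ g = (g * g)⁻¹ := by rw [hg, map_mul, map_inv, h.tt]; group
      rw [e]; exact inv_mem (hsq g hgB)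
    obtain ⟨r, hr, h2⟩ := (dW h.toGen 0).exists_fix h.tt h1
    exact ⟨g * r, hfix _ (mul_mem hgB (hWB hr)) h2, r⁻¹, inv_mem hr, by rw [← hg]; group⟩
  · intro x hx
    have := finT h.toGen 0
    obtain ⟨n, hn, e, he, h1⟩ := hd.surj x (x0NK Y hx)
    have hEN : EK W ≤ Nc τ X Y W := hd.WB
    have hKN : NK X Y ≤ Nc τ X Y W := hd.XB
    have hV : NK X Y ⊔ EK W ≤ Nc τ X Y W := sup_le hKN hEN
    obtain ⟨v, hv, h2⟩ := Avg.avg2 (T := T 0) (E := EK W) (V := NK X Y ⊔ EK W) (h.Todd 0) (cE h) (sqE h)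
      (TE h.toGen 0) le_sup_right (hd.comm.mono hV hV le_rfl) (fun v hv => hd.sq v (hV hv))
      ((TNK h.toGen 0).sup' (TE h.toGen 0)) (n := n) ((cNc h).nz.le hn) (by
        intro t ht
        have htn : t * n * t⁻¹ ∈ Nc τ X Y W := nT h 0 t ht n hn
        have hgN : n⁻¹ * (t * n * t⁻¹) ∈ Nc τ X Y W := mul_mem (inv_mem hn) htn
        have e1 : τ n = n * (x * e) := by rw [← h1]; group
        have etx : t * x * t⁻¹ = x := by rw [h.TXc 0 t ht x hx, mul_inv_cancel_right]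
        have e2 : (n⁻¹ * (t * n * t⁻¹))⁻¹ * τ (n⁻¹ * (t * n * t⁻¹)) =
            ((n⁻¹ * (t * n * t⁻¹))⁻¹ * (e⁻¹ * x⁻¹) * (n⁻¹ * (t * n * t⁻¹))⁻¹⁻¹ * (e⁻¹ * x⁻¹)⁻¹) *
            (e⁻¹ * (x⁻¹ * (t * x * t⁻¹)) * (t * e * t⁻¹)) := by
          simp only [map_mul, map_inv, e1, h.tT 0 t ht]; group
        have h3 : (n⁻¹ * (t * n * t⁻¹))⁻¹ * τ (n⁻¹ * (t * n * t⁻¹)) ∈ EK W := by
          rw [e2, etx, inv_mul_cancel, mul_one]
          refine mul_mem (hd.comm _ (inv_mem hgN) _ (mul_mem (inv_mem (hEN he)) (inv_mem (hKN (x0NK Y hx))))) ?_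
          exact mul_mem (inv_mem he) (TE h.toGen 0 t ht e he)
        obtain ⟨y, hy, w, hw, h4⟩ := hd.mem_of_brk h.tt hgN h3
        rw [h4]; exact Subgroup.mul_mem_sup hy hw)
    have hnv : n * v ∈ Bp τ X Y W T := mem_Bp.2 ⟨mul_mem hn (hV hv), fun t ht => (h2 t ht).symm⟩
    refine ⟨n * v, hnv, x⁻¹ * ((n * v)⁻¹ * τ (n * v)), ?_, by group⟩
    -- the bracket is in `x E`
    obtain ⟨y, hy, w, hw, rfl⟩ := mem_sup (NKE h).symm.nz hv
    apply cT h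
    · have e1 : τ n = n * (x * e) := by rw [← h1]; group
      have e2 : x⁻¹ * ((n * (y * w))⁻¹ * τ (n * (y * w))) =
          (x⁻¹ * (y * w)⁻¹ * x⁻¹⁻¹ * (y * w)⁻¹⁻¹) * ((y * w)⁻¹ * e * (y * w)⁻¹⁻¹) * (w⁻¹ * τ w) := by
        simp only [map_mul, e1, hd.Xf y hy]; group
      rw [e2]
      have hyw : y * w ∈ Nc τ X Y W := mul_mem (hKN hy) (hEN hw)
      refine mul_mem (mul_mem (hd.comm _ (inv_mem (hKN (x0NK Y hx))) _ (inv_mem hyw)) ?_) ?_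
      · exact (cNc h).nz _ (inv_mem hyw) _ he
      · exact mul_mem (inv_mem hw) ((dE h).inv w hw)
    · intro t ht
      refine comm_mul (comm_inv (h.TXc 0 t ht x hx).symm) (comm_mul (comm_inv ((mem_Bp.1 hnv).2 t ht)) ?_)
      exact (mem_Bp.1 (hτ _ hnv)).2 t ht
  · intro a ha b hb
    exact cT h _ (hd.comm a (mem_Bp.1 ha).1 b (mem_Bp.1 hb).1) fun t ht =>
      comm_comm ((mem_Bp.1 ha).2 t ht) ((mem_Bp.1 hb).2 t ht)

/-- `B₊ ≤ B₋` -/
theorem Bp_le (h : Inp τ X Y W T) :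
    Bp τ X Y W T ≤ Bp τ (F 0 (-1) X) (F 0 (-1) Y) (F 0 (-1) W) (F 0 (-1) T) := by
  have h' := neg h
  have dp := dbP h
  have dm : DB τ (Bp τ (F 0 (-1) X) (F 0 (-1) Y) (F 0 (-1) W) (F 0 (-1) T)) (X 0) (W 0) (Y 0) := by
    have := dbP h'
    exact this
  have cm0 : ∀ b ∈ Bp τ (F 0 (-1) X) (F 0 (-1) Y) (F 0 (-1) W) (F 0 (-1) T), ∀ w ∈ W 0, b * w = w * b := by
    intro b hb w hw
    have h1 : w ∈ EK (F 0 (-1) W) := y0E (F 0 (-1) W) (by exact hw)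
    exact cNc h' b (mem_Bp.1 hb).1 w h1
  have cmT : ∀ b ∈ Bp τ (F 0 (-1) X) (F 0 (-1) Y) (F 0 (-1) W) (F 0 (-1) T), ∀ t ∈ T 0, b * t = t * b := by
    intro b hb t ht
    exact (mem_Bp.1 hb).2 t (by exact ht)
  intro a ha
  obtain ⟨x, hx, w, hw, h1⟩ := dp.brk a ha
  obtain ⟨b, hb, w', hw', h2⟩ := dm.surj x hx
  have e1 : τ a = a * (x * w) := by rw [← h1]; group
  have e2 : τ b = b * (x * w') := by rw [← h2]; group
  have hww : w * w'⁻¹ ∈ W 0 := mul_mem hw (inv_mem hw')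
  have e3 : (a * b⁻¹)⁻¹ * τ (a * b⁻¹) = (b * x) * (w * w'⁻¹) * (b * x)⁻¹ := by
    rw [map_mul, map_inv, e1, e2]; group
  have h3 : (a * b⁻¹)⁻¹ * τ (a * b⁻¹) ∈ W 0 := by
    rw [e3, comm_mul (cm0 b hb _ hww) ((base h).x0w0 x hx _ hww), mul_inv_cancel_right]
    exact hww
  obtain ⟨r, hr, h4⟩ := (dW h.toGen 0).exists_fix h.tt h3
  obtain ⟨y, hy, g, hg, h5⟩ := (base h).k4 (a * b⁻¹ * r) h4
    (fun w hw => comm_mul (comm_mul (cNc h a (mem_Bp.1 ha).1 w (y0E W hw)) (comm_inv (cm0 b hb w hw)))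
      (h.Wab 0 r hr w hw))
    (fun t ht => comm_mul (comm_mul ((mem_Bp.1 ha).2 t ht) (comm_inv (cmT b hb t ht))) (h.TWc 0 t ht r hr).symm)
  -- `a = g * b1`
  obtain ⟨b1, hb1⟩ : ∃ b1, b1 = y * r⁻¹ * b := ⟨_, rfl⟩
  have hb1B : b1 ∈ Bp τ (F 0 (-1) X) (F 0 (-1) Y) (F 0 (-1) W) (F 0 (-1) T) :=
    hb1 ▸ mul_mem (mul_mem (dm.XB hy) (inv_mem (dm.WB hr))) hb
  have hgr : g * r⁻¹ = r⁻¹ * g := (comm_inv (h.TWc 0 g hg r hr).symm).symm
  have e6 : a = g * b1 := by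
    calc a = (a * b⁻¹ * r) * r⁻¹ * b := by group
      _ = (y * g) * r⁻¹ * b := by rw [h5]
      _ = (g * y) * r⁻¹ * b := by rw [h.TXc 0 g hg y hy]
      _ = g * b1 := by rw [hb1]; group
  have hbg : b1 * g = g * b1 := cmT b1 hb1B g hg
  have pow4 : ∀ B : Subgroup G, ∀ c ∈ B, (∀ b ∈ B, b * b ∈ W 0) → c ^ 4 = 1 := by
    intro B c hc hB
    have h7 := hB c hc
    have h8 := h.Wsq 0 _ h7
    calc c ^ 4 = (c * c) * (c * c) := by simp only [pow_succ, pow_zero, one_mul, mul_assoc]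
      _ = 1 := h8
  have e7 : g ^ 4 = 1 := by
    have h8 := pow4 _ a ha dp.sq
    have h9 := pow4 _ b1 hb1B dm.sq
    have hc : Commute g b1 := hbg.symm
    rw [e6, hc.mul_pow, h9, mul_one] at h8
    exact h8
  have h10 : g = 1 := by
    have := finT h.toGen 0
    have h11 : orderOf g ∣ 4 := orderOf_dvd_of_pow_eq_one e7
    have h12 : orderOf g ∣ Nat.card (T 0) := by
      have := orderOf_dvd_natCard (⟨g, hg⟩ : T 0)
      rwa [Subgroup.orderOf_mk] at this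
    have h13 : Nat.Coprime 4 (Nat.card (T 0)) := by
      have : Nat.Coprime 2 (Nat.card (T 0)) := (Nat.coprime_two_left).2 (h.Todd 0)
      exact Nat.Coprime.pow_left 2 this
    exact orderOf_eq_one_iff.1 (Nat.eq_one_of_dvd_coprimes h13 h11 h12)
  rw [e6, h10, one_mul]
  exact hb1B

/-! ### the families -/

/-- `N i` -/
def Nf (τ : G →* G) (X Y W : ℤ → Subgroup G) : ℤ → Subgroup G := fun i =>
  Nc τ (fun k => X (i - 1 + k)) (fun k => Y (i - 1 + k)) (fun k => W (i - 1 + k))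

/-- `B i` -/
def Bf (τ : G →* G) (X Y W T : ℤ → Subgroup G) : ℤ → Subgroup G := fun i =>
  Nf τ X Y W (i + 1) ⊓ Nf τ X Y W (i - 1) ⊓ Subgroup.centralizer (T i : Set G)

theorem Nf_nat (τ : G →* G) (X Y W : ℤ → Subgroup G) (c : ℤ) {e : ℤ} (he : e = 1 ∨ e = -1) :
    F c e (Nf τ X Y W) = Nf τ (F c e X) (F c e Y) (F c e W) := by
  rcases he with rfl | rfl
  · funext k
    have key : ∀ X : ℤ → Subgroup G, (fun j => X (2 * c + 1 * k - 1 + j)) = fun j => X (2 * c + 1 * (k - 1 + j)) := by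
      intro X; funext j; congr 1; ring
    show Nc τ (fun j => X (2 * c + 1 * k - 1 + j)) (fun j => Y (2 * c + 1 * k - 1 + j))
      (fun j => W (2 * c + 1 * k - 1 + j)) = Nc τ (fun j => X (2 * c + 1 * (k - 1 + j)))
      (fun j => Y (2 * c + 1 * (k - 1 + j))) (fun j => W (2 * c + 1 * (k - 1 + j)))
    rw [key, key, key]
  · funext k
    have key : ∀ X : ℤ → Subgroup G, F 1 (-1) (fun j => X (2 * c + (-1) * k - 1 + j)) =
        fun j => X (2 * c + (-1) * (k - 1 + j)) := by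
      intro X; funext j
      show X (2 * c + (-1) * k - 1 + (2 * 1 + (-1) * j)) = _
      congr 1; ring
    show Nc τ (fun j => X (2 * c + (-1) * k - 1 + j)) (fun j => Y (2 * c + (-1) * k - 1 + j))
      (fun j => W (2 * c + (-1) * k - 1 + j)) = Nc τ (fun j => X (2 * c + (-1) * (k - 1 + j)))
      (fun j => Y (2 * c + (-1) * (k - 1 + j))) (fun j => W (2 * c + (-1) * (k - 1 + j)))
    rw [← Nc_ref, key, key, key]

theorem Bf_nat (τ : G →* G) (X Y W T : ℤ → Subgroup G) (c : ℤ) {e : ℤ} (he : e = 1 ∨ e = -1) :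
    F c e (Bf τ X Y W T) = Bf τ (F c e X) (F c e Y) (F c e W) (F c e T) := by
  funext k
  show Nf τ X Y W (2 * c + e * k + 1) ⊓ Nf τ X Y W (2 * c + e * k - 1) ⊓
      Subgroup.centralizer (T (2 * c + e * k) : Set G) =
    Nf τ (F c e X) (F c e Y) (F c e W) (k + 1) ⊓ Nf τ (F c e X) (F c e Y) (F c e W) (k - 1) ⊓
      Subgroup.centralizer (T (2 * c + e * k) : Set G)
  rw [← Nf_nat τ X Y W c he]
  show _ = Nf τ X Y W (2 * c + e * (k + 1)) ⊓ Nf τ X Y W (2 * c + e * (k - 1)) ⊓ _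
  rcases he with rfl | rfl
  · have e1 : 2 * c + 1 * k + 1 = 2 * c + 1 * (k + 1) := by ring
    have e2 : 2 * c + 1 * k - 1 = 2 * c + 1 * (k - 1) := by ring
    rw [e1, e2]
  · have e1 : 2 * c + (-1) * k + 1 = 2 * c + (-1) * (k - 1) := by ring
    have e2 : 2 * c + (-1) * k - 1 = 2 * c + (-1) * (k + 1) := by ring
    rw [e1, e2, inf_comm (Nf τ X Y W (2 * c + -1 * (k - 1)))]

theorem Nf_one (τ : G →* G) (X Y W : ℤ → Subgroup G) : Nf τ X Y W 1 = Nc τ X Y W := by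
  have key : ∀ X : ℤ → Subgroup G, (fun k => X (1 - 1 + k)) = X := by
    intro X; funext k; congr 1; ring
  unfold Nf
  rw [key, key, key]

theorem Nf_neg (τ : G →* G) (X Y W : ℤ → Subgroup G) :
    Nf τ X Y W (-1) = Nc τ (F 0 (-1) X) (F 0 (-1) Y) (F 0 (-1) W) := by
  rw [← Nf_one, ← Nf_nat τ X Y W 0 (Or.inr rfl)]
  rfl

/-- `B₀` -/
theorem Bf_zero (h : Inp τ X Y W T) : Bf τ X Y W T 0 = Bp τ X Y W T := by
  have h1 : Bf τ X Y W T 0 = Nf τ X Y W 1 ⊓ Nf τ X Y W (-1) ⊓ Subgroup.centralizer (T 0 : Set G) := rfl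
  rw [h1, Nf_one, Nf_neg]
  apply le_antisymm
  · exact fun b hb => ⟨hb.1.1, hb.2⟩
  · intro b hb
    exact ⟨⟨hb.1, (Bp_le h hb).1⟩, hb.2⟩

end Cfsg.Agent.OddHalf.D7TwF4.Growth.Three
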