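import Cfsg.Agent.OddHalf.D7TwF4.Growth.Defs

/-!
# Growth for `²F₄(q)`: general tools (helper702)

* products of subgroups, one normalising the other;
* `Dbl τ R K`: the `τ`-invariant group `R` is "`t`-free" with fixed points `K`;
* `kill`: the torus trick; `tau_comm`: `τ ⁅a, b⁆ ∈ ⁅a, b⁆ R`.
-/

set_option autoImplicit false
set_option linter.unusedVariables false

namespace Cfsg.Agent.OddHalf.D7TwF4.Growth.Tools

open Cfsg.Agent.OddHalf.D7TwF4.Growth.Defs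

variable {G : Type*} [Group G]

/-! ### `τ` -/

/-- `R` is `τ`-invariant, its fixed points are `K`, and `s τ(s) = 1` implies `s = r τ(r)⁻¹`. -/
structure Dbl (τ : G →* G) (R K : Subgroup G) : Prop where
  le : K ≤ R
  inv : ∀ r ∈ R, τ r ∈ R
  fixK : ∀ r ∈ K, τ r = r
  fix : ∀ r ∈ R, τ r = r → r ∈ K
  free : ∀ s ∈ R, s * τ s = 1 → ∃ r ∈ R, s = r * (τ r)⁻¹

/-- an element fixed modulo `R` -/
theorem Dbl.exists_fix {τ : G →* G} (tt : ∀ x, τ (τ x) = x) {R K : Subgroup G} (h : Dbl τ R K) {c : G}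
    (hc : c⁻¹ * τ c ∈ R) : ∃ r ∈ R, τ (c * r) = c * r := by
  obtain ⟨s, hs⟩ : ∃ s, s = c⁻¹ * τ c := ⟨_, rfl⟩
  have e1 : τ c = c * s := by rw [hs]; group
  have e2 : s * τ s = 1 := by
    have h1 : τ (τ c) = c := tt c
    rw [e1, map_mul, e1] at h1
    have h2 : c * (s * τ s) = c * 1 := by rw [mul_one, ← mul_assoc]; exact h1
    exact mul_left_cancel h2
  obtain ⟨r, hr, hsr⟩ := h.free s (hs ▸ hc) e2
  refine ⟨r, hr, ?_⟩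
  rw [map_mul, e1, hsr, mul_assoc, inv_mul_cancel_right]

theorem Dbl.exists_fix' {τ : G →* G} (tt : ∀ x, τ (τ x) = x) {R K : Subgroup G} (h : Dbl τ R K) {c : G}
    (hc : τ c * c⁻¹ ∈ R) : ∃ r ∈ R, τ (r * c) = r * c := by
  obtain ⟨r, hr, h1⟩ := h.exists_fix tt (c := c⁻¹) (by
    rw [map_inv, inv_inv]
    have := inv_mem hc
    rwa [mul_inv_rev, inv_inv] at this)
  refine ⟨r⁻¹, inv_mem hr, ?_⟩
  have := congrArg (·⁻¹) h1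
  simpa [map_mul, map_inv, mul_inv_rev] using this

/-- elementary abelian groups -/
theorem dbl_W {τ : G →* G} {W Y : Subgroup G} (tt : ∀ x, τ (τ x) = x) (hW : Cm W W) (h2 : ∀ w ∈ W, w * w = 1)
    (ht : ∀ w ∈ W, τ w ∈ W) (hY : ∀ y ∈ Y, τ y = y) (hYW : Y ≤ W) (hf : ∀ w ∈ W, τ w = w → w ∈ Y)
    (hs : ∀ y ∈ Y, ∃ w ∈ W, w⁻¹ * τ w = y) : Dbl τ W Y where
  le := hYW
  inv := ht
  fixK := hY
  fix := hf
  free := by
    intro s hs1 hs2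
    have e1 : τ s = s := by
      have h1 : τ s = s⁻¹ := (eq_inv_of_mul_eq_one_right hs2)
      rw [h1, inv_eq_of_mul_eq_one_left (h2 s hs1)]
    obtain ⟨w, hw, hw1⟩ := hs s (hf s hs1 e1)
    refine ⟨w, hw, ?_⟩
    have e2 : w⁻¹ = w := inv_eq_of_mul_eq_one_left (h2 w hw)
    have e3 : (τ w)⁻¹ = τ w := inv_eq_of_mul_eq_one_left (h2 _ (ht w hw))
    rw [← hw1, e2, e3]

/-- `w⁻¹ τ w ∈ Y` for `w ∈ W` -/
theorem brk_mem {τ : G →* G} {W Y : Subgroup G} (tt : ∀ x, τ (τ x) = x) (hW : Cm W W) (h2 : ∀ w ∈ W, w * w = 1)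
    (ht : ∀ w ∈ W, τ w ∈ W) (hf : ∀ w ∈ W, τ w = w → w ∈ Y) {w : G} (hw : w ∈ W) : w⁻¹ * τ w ∈ Y := by
  apply hf _ (mul_mem (inv_mem hw) (ht w hw))
  rw [map_mul, tt, map_inv, inv_eq_of_mul_eq_one_left (h2 _ (ht w hw)), inv_eq_of_mul_eq_one_left (h2 w hw),
    hW _ (ht w hw) _ hw]

theorem inf_eq_bot {τ : G →* G} {R K W Y : Subgroup G} (hR : Dbl τ R K) (tt : ∀ x, τ (τ x) = x) (hW : Cm W W)
    (h2 : ∀ w ∈ W, w * w = 1) (ht : ∀ w ∈ W, τ w ∈ W) (hf : ∀ w ∈ W, τ w = w → w ∈ Y) (hi : K ⊓ Y = ⊥) :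
    R ⊓ W = ⊥ := by
  rw [eq_bot_iff]
  rintro w ⟨hwR, hwW⟩
  have key : ∀ w, w ∈ R → w ∈ W → τ w = w → w = 1 := by
    intro w h1 h3 h4
    have : w ∈ K ⊓ Y := ⟨hR.fix w h1 h4, hf w h3 h4⟩
    rwa [hi, Subgroup.mem_bot] at this
  have h1 : w⁻¹ * τ w = 1 := by
    apply key _ (mul_mem (inv_mem hwR) (hR.inv w hwR)) (mul_mem (inv_mem hwW) (ht w hwW))
    rw [map_mul, tt, map_inv, inv_eq_of_mul_eq_one_left (h2 _ (ht w hwW)), inv_eq_of_mul_eq_one_left (h2 w hwW),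
      hW _ (ht w hwW) _ hwW]
  rw [Subgroup.mem_bot]
  exact key w hwR hwW (inv_mul_eq_one.1 h1).symm

/-- `R W` for an elementary abelian `W` -/
theorem Dbl.sup_W {τ : G →* G} {R K W Y : Subgroup G} (hR : Dbl τ R K) (tt : ∀ x, τ (τ x) = x) (hW : Cm W W)
    (h2 : ∀ w ∈ W, w * w = 1) (ht : ∀ w ∈ W, τ w ∈ W) (hY : ∀ y ∈ Y, τ y = y) (hYW : Y ≤ W)
    (hf : ∀ w ∈ W, τ w = w → w ∈ Y) (hs : ∀ y ∈ Y, ∃ w ∈ W, w⁻¹ * τ w = y) (hi : K ⊓ Y = ⊥) (hn : Nz W R) :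
    Dbl τ (R ⊔ W) (K ⊔ Y) := by
  have hb := inf_eq_bot hR tt hW h2 ht hf hi
  have hD := dbl_W tt hW h2 ht hY hYW hf hs
  have fixof : ∀ r ∈ R, ∀ w ∈ W, τ (r * w) = r * w → τ r = r ∧ τ w = w := by
    intro r hr w hw h
    rw [map_mul] at h
    have e1 : r⁻¹ * τ r = w * (τ w)⁻¹ := by
      calc r⁻¹ * τ r = r⁻¹ * (τ r * τ w) * (τ w)⁻¹ := by group
        _ = w * (τ w)⁻¹ := by rw [h]; group
    have e2 : r⁻¹ * τ r ∈ R ⊓ W := Subgroup.mem_inf.2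
      ⟨R.mul_mem (R.inv_mem hr) (hR.inv r hr), by rw [e1]; exact W.mul_mem hw (W.inv_mem (ht w hw))⟩
    rw [hb, Subgroup.mem_bot] at e2
    rw [e2] at e1
    exact ⟨(inv_mul_eq_one.1 e2).symm, (mul_inv_eq_one.1 e1.symm).symm⟩
  refine ⟨sup_le_sup hR.le hYW, ?_, ?_, ?_, ?_⟩
  · intro x hx
    obtain ⟨r, hr, w, hw, rfl⟩ := mem_sup hn hx
    rw [map_mul]
    exact Subgroup.mul_mem_sup (hR.inv r hr) (ht w hw)
  · intro x hx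
    have : K ⊔ Y ≤ (τ.eqLocus (MonoidHom.id G)) := sup_le (fun k hk => hR.fixK k hk) (fun y hy => hY y hy)
    exact this hx
  · intro x hx h
    obtain ⟨r, hr, w, hw, rfl⟩ := mem_sup hn hx
    obtain ⟨h1, h3⟩ := fixof r hr w hw h
    exact Subgroup.mul_mem_sup (hR.fix r hr h1) (hf w hw h3)
  · intro s hs1 hs2
    obtain ⟨r, hr, w, hw, rfl⟩ := mem_sup hn hs1
    rw [map_mul] at hs2
    -- `w τ w ∈ R`
    have e1 : w * τ w = w * (r * τ r)⁻¹ * w⁻¹ * (w * r * w⁻¹ * (w * τ r * w⁻¹)) * (w * τ w) := by group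
    have e2 : w * τ w ∈ R := by
      have e3 : r * (w * τ r * w⁻¹) * (w * τ w) = 1 := by
        rw [← hs2]; group
      have e4 : w * τ w = (r * (w * τ r * w⁻¹))⁻¹ := eq_inv_of_mul_eq_one_right e3
      rw [e4]
      exact inv_mem (mul_mem hr (hn w hw _ (hR.inv r hr)))
    have e3 : w * τ w ∈ R ⊓ W := ⟨e2, mul_mem hw (ht w hw)⟩
    rw [hb, Subgroup.mem_bot] at e3
    obtain ⟨v, hv, hwv⟩ := hD.free w hw e3
    -- `v⁻¹ s τ v ∈ R`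
    have e4 : v⁻¹ * (r * w) * τ v = v⁻¹ * r * v := by rw [hwv]; group
    have e5 : v⁻¹ * r * v ∈ R := hn.inv hv hr
    have e6 : (v⁻¹ * r * v) * τ (v⁻¹ * r * v) = 1 := by
      rw [← e4]
      simp only [map_mul, map_inv, tt]
      calc v⁻¹ * (r * w) * τ v * ((τ v)⁻¹ * (τ r * τ w) * v) = v⁻¹ * (r * w * (τ r * τ w)) * v := by group
        _ = 1 := by rw [hs2]; group
    obtain ⟨r1, hr1, h1⟩ := hR.free _ e5 e6
    refine ⟨v * r1, mul_mem (Subgroup.mem_sup_right hv) (Subgroup.mem_sup_left hr1), ?_⟩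
    calc r * w = v * (v⁻¹ * (r * w) * τ v) * (τ v)⁻¹ := by group
      _ = v * (v⁻¹ * r * v) * (τ v)⁻¹ := by rw [e4]
      _ = v * (r1 * (τ r1)⁻¹) * (τ v)⁻¹ := by rw [h1]
      _ = v * r1 * (τ (v * r1))⁻¹ := by rw [map_mul]; group

/-- The double `B` of a root group `X` over the double `W` of `Y = Z(X)`. -/
structure DB (τ : G →* G) (B X W Y : Subgroup G) : Prop where
  XB : X ≤ B
  WB : W ≤ B
  Xf : ∀ x ∈ X, τ x = x
  inv : ∀ b ∈ B, τ b ∈ B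
  fix : ∀ b ∈ B, τ b = b → b ∈ X
  brk : ∀ b ∈ B, ∃ x ∈ X, ∃ w ∈ W, b⁻¹ * τ b = x * w
  surj : ∀ x ∈ X, ∃ b ∈ B, ∃ w ∈ W, b⁻¹ * τ b = x * w
  comm : Cl B B W
  sq : ∀ b ∈ B, b * b ∈ W
  WD : Dbl τ W Y

/-- elements `b` with `b⁻¹ τ b ∈ W` -/
theorem DB.mem_of_brk {τ : G →* G} (tt : ∀ x, τ (τ x) = x) {B X W Y : Subgroup G} (h : DB τ B X W Y) {b : G}
    (hb : b ∈ B) (hw : b⁻¹ * τ b ∈ W) : ∃ x ∈ X, ∃ w ∈ W, b = x * w := by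
  obtain ⟨r, hr, h1⟩ := h.WD.exists_fix tt hw
  exact ⟨b * r, h.fix _ (mul_mem hb (h.WB hr)) h1, r⁻¹, inv_mem hr, by group⟩

theorem DB.nzW {τ : G →* G} {B X W Y : Subgroup G} (h : DB τ B X W Y) : Nz B W :=
  (h.comm.mono le_rfl h.WB le_rfl).nz le_rfl

theorem free_aux {τ : G →* G} (tt : ∀ x, τ (τ x) = x) {R K B X : Subgroup G} (hR : Dbl τ R K) (hn : Nz B R)
    (XB : X ≤ B) {x v r w w' b : G} (hx : x ∈ X) (hv : v ∈ B) (hr : r ∈ R) (hw : w ∈ R) (hw' : w' ∈ R)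
    (hvx : v⁻¹ * τ v = x * w') (hbx : b = x * w) (hs2 : r * b * (τ r * τ b) = 1) :
    ∃ y ∈ R ⊔ B, r * b = y * (τ y)⁻¹ := by
  have e5 : τ v = v * (x * w') := by rw [← hvx]; group
  have e6 : v * (r * b) * (τ v)⁻¹ = v * (r * (x * (w * w'⁻¹) * x⁻¹)) * v⁻¹ := by rw [e5, hbx]; group
  have e7 : v * (r * b) * (τ v)⁻¹ ∈ R := by
    rw [e6]
    exact hn v hv _ (R.mul_mem hr (hn x (XB hx) _ (R.mul_mem hw (R.inv_mem hw'))))
  have e8 : v * (r * b) * (τ v)⁻¹ * τ (v * (r * b) * (τ v)⁻¹) = 1 := by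
    rw [map_mul, map_mul, map_inv, tt, map_mul]
    calc v * (r * b) * (τ v)⁻¹ * (τ v * (τ r * τ b) * v⁻¹) = v * (r * b * (τ r * τ b)) * v⁻¹ := by group
      _ = 1 := by rw [hs2]; group
  obtain ⟨r1, hr1, h1⟩ := hR.free _ e7 e8
  refine ⟨v⁻¹ * r1, (R ⊔ B).mul_mem (Subgroup.mem_sup_right (B.inv_mem hv)) (Subgroup.mem_sup_left hr1), ?_⟩
  calc r * b = v⁻¹ * (v * (r * b) * (τ v)⁻¹) * τ v := by group
    _ = v⁻¹ * (r1 * (τ r1)⁻¹) * τ v := by rw [h1]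
    _ = v⁻¹ * r1 * (τ (v⁻¹ * r1))⁻¹ := by rw [map_mul, map_inv]; group

/-- `R B` for `W ≤ R` -/
theorem Dbl.sup_B {τ : G →* G} {R K B X W Y : Subgroup G} (hR : Dbl τ R K) (tt : ∀ x, τ (τ x) = x)
    (hB : DB τ B X W Y) (hWR : W ≤ R) (hi : K ⊓ X ≤ Y) (hn : Nz B R) :
    Dbl τ (R ⊔ B) (K ⊔ X) ∧ B ⊓ R = W := by
  have hinf : ∀ b ∈ B, b ∈ R → b ∈ W := by
    intro b hb hbR
    obtain ⟨x, hx, w, hw, hbr⟩ := hB.brk b hb
    have hxR : x ∈ R := by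
      have : b⁻¹ * τ b ∈ R := mul_mem (inv_mem hbR) (hR.inv b hbR)
      rw [hbr] at this
      exact (mul_mem_cancel_right (hWR hw)).1 this
    have hxY : x ∈ Y := hi ⟨hR.fix x hxR (hB.Xf x hx), hx⟩
    obtain ⟨x', hx', w', hw', rfl⟩ := hB.mem_of_brk tt hb (by rw [hbr]; exact mul_mem (hB.WD.le hxY) hw)
    have hx'R : x' ∈ R := (mul_mem_cancel_right (hWR hw')).1 hbR
    exact mul_mem (hB.WD.le (hi ⟨hR.fix x' hx'R (hB.Xf x' hx'), hx'⟩)) hw'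
  refine ⟨⟨sup_le_sup hR.le hB.XB, ?_, ?_, ?_, ?_⟩, le_antisymm (fun b hb => hinf b hb.1 hb.2)
    (le_inf hB.WB hWR)⟩
  · intro x hx
    obtain ⟨r, hr, b, hb, rfl⟩ := mem_sup hn hx
    rw [map_mul]
    exact Subgroup.mul_mem_sup (hR.inv r hr) (hB.inv b hb)
  · intro x hx
    have : K ⊔ X ≤ (τ.eqLocus (MonoidHom.id G)) := sup_le (fun k hk => hR.fixK k hk) (fun y hy => hB.Xf y hy)
    exact this hx
  · intro x hx h
    obtain ⟨r, hr, b, hb, rfl⟩ := mem_sup hn hx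
    rw [map_mul] at h
    have e1 : (b⁻¹ * τ b)⁻¹ = b⁻¹ * (r⁻¹ * τ r) * b := by
      calc (b⁻¹ * τ b)⁻¹ = (τ b)⁻¹ * b := by group
        _ = b⁻¹ * r⁻¹ * (r * b) * (τ b)⁻¹ * b := by group
        _ = b⁻¹ * r⁻¹ * (τ r * τ b) * (τ b)⁻¹ * b := by rw [h]
        _ = b⁻¹ * (r⁻¹ * τ r) * b := by group
    have e2 : b⁻¹ * τ b ∈ R := by
      rw [← inv_mem_iff, e1]
      exact hn.inv hb (mul_mem (inv_mem hr) (hR.inv r hr))
    have e3 : b⁻¹ * τ b ∈ W := hinf _ (mul_mem (inv_mem hb) (hB.inv b hb)) e2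
    obtain ⟨y, hy, w, hw, rfl⟩ := hB.mem_of_brk tt hb e3
    -- move `w` to the left
    have hxw : y * w * y⁻¹ ∈ R := hn y (hB.XB hy) w (hWR hw)
    have e4 : r * (y * w) = (r * (y * w * y⁻¹)) * y := by group
    rw [e4]
    refine Subgroup.mul_mem_sup ?_ hy
    apply hR.fix _ (R.mul_mem hr hxw)
    have h' : τ (r * (y * w * y⁻¹) * y) = r * (y * w * y⁻¹) * y := by rw [← e4, map_mul]; exact h
    rw [map_mul, hB.Xf y hy] at h'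
    exact mul_right_cancel h'
  · intro s hs1 hs2
    obtain ⟨r, hr, b, hb, rfl⟩ := mem_sup hn hs1
    rw [map_mul] at hs2
    have e2 : b * τ b ∈ R := by
      have e3 : r * (b * τ r * b⁻¹) * (b * τ b) = 1 := by
        rw [← hs2]; group
      have e4 : b * τ b = (r * (b * τ r * b⁻¹))⁻¹ := eq_inv_of_mul_eq_one_right e3
      rw [e4]
      exact inv_mem (mul_mem hr (hn b hb _ (hR.inv r hr)))
    have e3 : b * τ b ∈ W := hinf _ (mul_mem hb (hB.inv b hb)) e2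
    have e4 : b⁻¹ * τ b ∈ W := by
      have : b⁻¹ * τ b = (b * b)⁻¹ * (b * τ b) := by group
      rw [this]; exact mul_mem (inv_mem (hB.sq b hb)) e3
    obtain ⟨x, hx, w, hw, hbx⟩ := hB.mem_of_brk tt hb e4
    obtain ⟨v, hv, w', hw', hvx⟩ := hB.surj x hx
    exact free_aux tt hR hn hB.XB hx hv hr (hWR hw) (hWR hw') hvx hbx hs2

/-! ### the torus trick -/

/-- `h ∈ C(x)` without fixed points on `B`, trivial on the commutators modulo `R`. -/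
theorem kill [Finite G] {B R : Subgroup G} {h x : G} (hB : ∀ b ∈ B, h * b * h⁻¹ ∈ B)
    (h1 : ∀ b ∈ B, h * b * h⁻¹ = b → b = 1) (hx : h * x = x * h) (hRB : Nz B R)
    (hRx : ∀ r ∈ R, x * r * x⁻¹ ∈ R)
    (hc : ∀ b ∈ B, (b * x * b⁻¹ * x⁻¹)⁻¹ * (h * (b * x * b⁻¹ * x⁻¹) * h⁻¹) ∈ R) :
    ∀ b ∈ B, b * x * b⁻¹ * x⁻¹ ∈ R := by
  -- the map `b ↦ b⁻¹ (h b h⁻¹)` is bijective
  let f : B → B := fun b => ⟨(b : G)⁻¹ * (h * b * h⁻¹), mul_mem (inv_mem b.2) (hB b b.2)⟩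
  have hinj : Function.Injective f := by
    intro a b hab
    have e : (a : G)⁻¹ * (h * a * h⁻¹) = (b : G)⁻¹ * (h * b * h⁻¹) := congrArg Subtype.val hab
    have e2 : h * ((b : G) * (a : G)⁻¹) * h⁻¹ = (b : G) * (a : G)⁻¹ := by
      calc h * ((b : G) * (a : G)⁻¹) * h⁻¹ = b * ((b : G)⁻¹ * (h * b * h⁻¹)) * (h * a * h⁻¹)⁻¹ := by group
        _ = b * ((a : G)⁻¹ * (h * a * h⁻¹)) * (h * a * h⁻¹)⁻¹ := by rw [e]
        _ = (b : G) * (a : G)⁻¹ := by group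
    have e3 := h1 _ (mul_mem b.2 (inv_mem a.2)) e2
    exact Subtype.ext (mul_inv_eq_one.1 e3).symm
  have hsurj : Function.Surjective f := Finite.surjective_of_injective hinj
  intro b hb
  obtain ⟨a, ha⟩ := hsurj ⟨b, hb⟩
  have hba : b = (a : G)⁻¹ * (h * a * h⁻¹) := (congrArg Subtype.val ha).symm
  obtain ⟨c, hcd⟩ : ∃ c, c = (a : G) * x * (a : G)⁻¹ * x⁻¹ := ⟨_, rfl⟩
  have e1 : (h * a * h⁻¹) * x * (h * a * h⁻¹)⁻¹ * x⁻¹ = h * c * h⁻¹ := by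
    have hx' : h⁻¹ * x * h = x := by rw [mul_assoc, ← hx, inv_mul_cancel_left]
    have hx2 : h * x⁻¹ * h⁻¹ = x⁻¹ := by
      have : h * x * h⁻¹ = x := by rw [hx, mul_inv_cancel_right]
      calc h * x⁻¹ * h⁻¹ = (h * x * h⁻¹)⁻¹ := by group
        _ = x⁻¹ := by rw [this]
    calc (h * a * h⁻¹) * x * (h * a * h⁻¹)⁻¹ * x⁻¹ = h * a * (h⁻¹ * x * h) * (a : G)⁻¹ * h⁻¹ * x⁻¹ := by group
      _ = h * (a * x * (a : G)⁻¹ * x⁻¹) * h⁻¹ * (h * x * h⁻¹) * x⁻¹ := by rw [hx']; group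
      _ = h * c * h⁻¹ := by rw [← hcd, hx]; group
  have e2 : b * x * b⁻¹ * x⁻¹ = (a : G)⁻¹ * (h * c * h⁻¹ * (x * a * x⁻¹)) := by
    calc b * x * b⁻¹ * x⁻¹ = (a : G)⁻¹ * (((h * a * h⁻¹) * x * (h * a * h⁻¹)⁻¹ * x⁻¹) * (x * a * x⁻¹)) := by
          rw [hba]; group
      _ = _ := by rw [e1]
  have e3 : (a : G)⁻¹ * (c * (x * a * x⁻¹)) = 1 := by rw [hcd]; group
  obtain ⟨d, hd⟩ : ∃ d, d = (a : G)⁻¹ := ⟨_, rfl⟩
  have e4 : b * x * b⁻¹ * x⁻¹ = (x * d * x⁻¹) * (c⁻¹ * (h * c * h⁻¹)) * (x * d * x⁻¹)⁻¹ := by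
    have e6 : d = (x * d * x⁻¹) * c⁻¹ := by rw [hcd, hd]; group
    rw [e2, ← hd]
    calc d * (h * c * h⁻¹ * (x * a * x⁻¹)) =
        ((x * d * x⁻¹) * c⁻¹) * (h * c * h⁻¹ * (x * a * x⁻¹)) := by rw [← e6]
      _ = _ := by rw [hd]; group
  rw [e4]
  have hr := hc a a.2
  rw [← hcd] at hr
  have hxi : ∀ r ∈ R, x⁻¹ * r * x ∈ R := by
    intro r hr
    have hinj : Function.Injective (fun r : R => (⟨x * r * x⁻¹, hRx r r.2⟩ : R)) := by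
      intro a b hab
      have e : x * (a : G) * x⁻¹ = x * b * x⁻¹ := congrArg Subtype.val hab
      exact Subtype.ext (mul_left_cancel (mul_right_cancel e))
    obtain ⟨s, hs⟩ := Finite.surjective_of_injective hinj ⟨r, hr⟩
    have e : x * (s : G) * x⁻¹ = r := congrArg Subtype.val hs
    rw [← e]
    have : x⁻¹ * (x * (s : G) * x⁻¹) * x = s := by group
    rw [this]; exact s.2
  have hdB : d ∈ B := by rw [hd]; exact inv_mem a.2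
  have h2 := hRx _ (hRB d hdB _ (hxi _ hr))
  have e7 : x * (d * (x⁻¹ * (c⁻¹ * (h * c * h⁻¹)) * x) * d⁻¹) * x⁻¹ =
      (x * d * x⁻¹) * (c⁻¹ * (h * c * h⁻¹)) * (x * d * x⁻¹)⁻¹ := by group
  rwa [e7] at h2


/-- the variant without normalisation: `a` commutes with `h`, `B ≤ R` -/
theorem kill' [Finite G] {B R : Subgroup G} {h a : G} (hB : ∀ b ∈ B, h * b * h⁻¹ ∈ B)
    (h1 : ∀ b ∈ B, h * b * h⁻¹ = b → b = 1) (ha : h * a = a * h) (hBR : B ≤ R)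
    (hc : ∀ b ∈ B, (a * b * a⁻¹ * b⁻¹)⁻¹ * (h * (a * b * a⁻¹ * b⁻¹) * h⁻¹) ∈ R) :
    ∀ b ∈ B, a * b * a⁻¹ ∈ R := by
  let f : B → B := fun b => ⟨(b : G)⁻¹ * (h * b * h⁻¹), mul_mem (inv_mem b.2) (hB b b.2)⟩
  have hinj : Function.Injective f := by
    intro a b hab
    have e : (a : G)⁻¹ * (h * a * h⁻¹) = (b : G)⁻¹ * (h * b * h⁻¹) := congrArg Subtype.val hab
    have e2 : h * ((b : G) * (a : G)⁻¹) * h⁻¹ = (b : G) * (a : G)⁻¹ := by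
      calc h * ((b : G) * (a : G)⁻¹) * h⁻¹ = b * ((b : G)⁻¹ * (h * b * h⁻¹)) * (h * a * h⁻¹)⁻¹ := by group
        _ = b * ((a : G)⁻¹ * (h * a * h⁻¹)) * (h * a * h⁻¹)⁻¹ := by rw [e]
        _ = (b : G) * (a : G)⁻¹ := by group
    have e3 := h1 _ (mul_mem b.2 (inv_mem a.2)) e2
    exact Subtype.ext (mul_inv_eq_one.1 e3).symm
  have hsurj : Function.Surjective f := Finite.surjective_of_injective hinj
  intro b hb
  obtain ⟨b0, hb0⟩ := hsurj ⟨b, hb⟩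
  have hba : b = (b0 : G)⁻¹ * (h * b0 * h⁻¹) := (congrArg Subtype.val hb0).symm
  have e1 : h * (a * b0 * a⁻¹ * (b0 : G)⁻¹) * h⁻¹ = a * (h * b0 * h⁻¹) * a⁻¹ * (h * b0 * h⁻¹)⁻¹ := by
    have e2 : h * a * h⁻¹ = a := by rw [ha, mul_inv_cancel_right]
    calc h * (a * b0 * a⁻¹ * (b0 : G)⁻¹) * h⁻¹ =
        (h * a * h⁻¹) * (h * b0 * h⁻¹) * (h * a * h⁻¹)⁻¹ * (h * b0 * h⁻¹)⁻¹ := by group
      _ = _ := by rw [e2]
  have e3 : a * b * a⁻¹ = (b0 : G)⁻¹ * ((a * b0 * a⁻¹ * (b0 : G)⁻¹)⁻¹ * (h * (a * b0 * a⁻¹ * (b0 : G)⁻¹) * h⁻¹)) *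
      (h * b0 * h⁻¹) := by
    rw [e1, hba]; group
  rw [e3]
  exact R.mul_mem (R.mul_mem (inv_mem (hBR b0.2)) (hc b0 b0.2)) (hBR (hB b0 b0.2))


/-! ### commutators modulo `R` -/

theorem nm {R : Subgroup G} {a : G} (ha : a ∈ Subgroup.normalizer (R : Set G)) {r : G} (hr : r ∈ R) :
    a * r * a⁻¹ ∈ R := (Subgroup.mem_normalizer_iff.1 ha r).1 hr

theorem nm' {R : Subgroup G} {a : G} (ha : a ∈ Subgroup.normalizer (R : Set G)) {r : G} (hr : r ∈ R) :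
    a⁻¹ * r * a ∈ R := by
  have := nm (inv_mem ha) hr
  rwa [inv_inv] at this

theorem comm_nm {R : Subgroup G} {a b : G} (ha : a ∈ Subgroup.normalizer (R : Set G))
    (hb : b ∈ Subgroup.normalizer (R : Set G)) : a * b * a⁻¹ * b⁻¹ ∈ Subgroup.normalizer (R : Set G) :=
  mul_mem (mul_mem (mul_mem ha hb) (inv_mem ha)) (inv_mem hb)

/-- `τ ⁅a, b⁆ ∈ ⁅a, b⁆ R` -/
theorem tau_comm {τ : G →* G} {R : Subgroup G} {a b a' b' : G} (ha : τ a = a * a') (hb : τ b = b * b')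
    (hRa : a ∈ Subgroup.normalizer (R : Set G)) (hRb : b ∈ Subgroup.normalizer (R : Set G))
    (h1 : a' * b * a'⁻¹ * b⁻¹ ∈ R) (h2 : a * b' * a⁻¹ * b'⁻¹ ∈ R) (h3 : a' * b' * a'⁻¹ * b'⁻¹ ∈ R) :
    (a * b * a⁻¹ * b⁻¹)⁻¹ * τ (a * b * a⁻¹ * b⁻¹) ∈ R := by
  obtain ⟨c, hc⟩ : ∃ c, c = a * b * a⁻¹ * b⁻¹ := ⟨_, rfl⟩
  have hcn : c ∈ Subgroup.normalizer (R : Set G) := hc ▸ comm_nm hRa hRb
  obtain ⟨u, hu⟩ : ∃ u, u = a' * b * a'⁻¹ * b⁻¹ := ⟨_, rfl⟩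
  obtain ⟨v, hv⟩ : ∃ v, v = a' * b' * a'⁻¹ * b'⁻¹ := ⟨_, rfl⟩
  obtain ⟨w, hw⟩ : ∃ w, w = a * b' * a⁻¹ * b'⁻¹ := ⟨_, rfl⟩
  have e : τ (a * b * a⁻¹ * b⁻¹) = (a * (u * (b * v * b⁻¹)) * a⁻¹) * c * (b * w * b⁻¹) := by
    simp only [map_mul, map_inv, ha, hb]
    rw [hu, hv, hw, hc]; group
  have m1 : a * (u * (b * v * b⁻¹)) * a⁻¹ ∈ R :=
    nm hRa (R.mul_mem (hu ▸ h1) (nm hRb (hv ▸ h3)))
  have m2 : b * w * b⁻¹ ∈ R := nm hRb (hw ▸ h2)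
  rw [e, ← hc]
  have e2 : c⁻¹ * ((a * (u * (b * v * b⁻¹)) * a⁻¹) * c * (b * w * b⁻¹)) =
      (c⁻¹ * (a * (u * (b * v * b⁻¹)) * a⁻¹) * c) * (b * w * b⁻¹) := by group
  rw [e2]
  exact R.mul_mem (nm' hcn m1) m2

/-- an element commuting with `a` and `b` commutes with `⁅a, b⁆` -/
theorem comm_comm {a b y : G} (ha : a * y = y * a) (hb : b * y = y * b) :
    (a * b * a⁻¹ * b⁻¹) * y = y * (a * b * a⁻¹ * b⁻¹) := by
  have ha' : a⁻¹ * y = y * a⁻¹ := by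
    rw [inv_mul_eq_iff_eq_mul, ← mul_assoc, ha, mul_assoc, mul_inv_cancel, mul_one]
  have hb' : b⁻¹ * y = y * b⁻¹ := by
    rw [inv_mul_eq_iff_eq_mul, ← mul_assoc, hb, mul_assoc, mul_inv_cancel, mul_one]
  calc (a * b * a⁻¹ * b⁻¹) * y = a * b * a⁻¹ * (b⁻¹ * y) := by group
    _ = a * b * (a⁻¹ * y) * b⁻¹ := by rw [hb']; group
    _ = a * (b * y) * a⁻¹ * b⁻¹ := by rw [ha']; group
    _ = (a * y) * b * a⁻¹ * b⁻¹ := by rw [hb]; group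
    _ = y * (a * b * a⁻¹ * b⁻¹) := by rw [ha]; group

theorem comm_inv {a y : G} (ha : a * y = y * a) : a⁻¹ * y = y * a⁻¹ := by
  rw [inv_mul_eq_iff_eq_mul, ← mul_assoc, ha, mul_assoc, mul_inv_cancel, mul_one]

theorem comm_mul {a b y : G} (ha : a * y = y * a) (hb : b * y = y * b) : a * b * y = y * (a * b) := by
  rw [mul_assoc, hb, ← mul_assoc, ha, mul_assoc]

theorem comm_of_mul {a b y : G} (hab : a * b * y = y * (a * b)) (ha : a * y = y * a) : b * y = y * b := by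
  have := comm_mul (comm_inv ha) hab
  rwa [inv_mul_cancel_left] at this

theorem comm_of_mul' {a b y : G} (hab : a * b * y = y * (a * b)) (hb : b * y = y * b) : a * y = y * a := by
  have := comm_mul hab (comm_inv hb)
  rwa [mul_inv_cancel_right] at this

/-- if `y` commutes with `b`, `⁅a, y⁻¹⁆`-type: `a ^ y = a g`, `g` commuting with `b` and `⁅a, b⁆`, then `y` commutes with
`⁅a, b⁆` -/
theorem comm_comm_left {a b y g : G} (ha : y * a * y⁻¹ = a * g) (hb : b * y = y * b) (hgb : g * b = b * g) :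
    (a * b * a⁻¹ * b⁻¹) * y = y * (a * b * a⁻¹ * b⁻¹) := by
  have e : y * (a * b * a⁻¹ * b⁻¹) * y⁻¹ = a * b * a⁻¹ * b⁻¹ := by
    have hb1 : y * b * y⁻¹ = b := by rw [← hb, mul_inv_cancel_right]
    calc y * (a * b * a⁻¹ * b⁻¹) * y⁻¹ = (y * a * y⁻¹) * (y * b * y⁻¹) * (y * a * y⁻¹)⁻¹ * (y * b * y⁻¹)⁻¹ := by group
      _ = a * (g * b) * g⁻¹ * a⁻¹ * b⁻¹ := by rw [ha, hb1]; group
      _ = a * b * a⁻¹ * b⁻¹ := by rw [hgb]; group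
  calc (a * b * a⁻¹ * b⁻¹) * y = (y * (a * b * a⁻¹ * b⁻¹) * y⁻¹) * y := by rw [e]
    _ = _ := by group

theorem comm_comm_right {a b y g : G} (hb : y * b * y⁻¹ = b * g) (ha : a * y = y * a) (hga : g * a = a * g) :
    (a * b * a⁻¹ * b⁻¹) * y = y * (a * b * a⁻¹ * b⁻¹) := by
  have h := comm_inv (comm_comm_left hb ha hga)
  have e : (b * a * b⁻¹ * a⁻¹)⁻¹ = a * b * a⁻¹ * b⁻¹ := by group
  rwa [e] at h

/-- fixed point free action of `h` on doubles -/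
theorem free_of_brk {τ : G →* G} {B X : Subgroup G} {h : G} (hτ : τ h = h) (h1 : ∀ x ∈ X, h * x * h⁻¹ = x → x = 1)
    (hfix : ∀ b ∈ B, τ b = b → b ∈ X) (hB : ∀ b ∈ B, h * b * h⁻¹ = b → h * (b⁻¹ * τ b) * h⁻¹ = b⁻¹ * τ b →
      b⁻¹ * τ b = 1) : ∀ b ∈ B, h * b * h⁻¹ = b → b = 1 := by
  intro b hb hbh
  have e : h * (b⁻¹ * τ b) * h⁻¹ = b⁻¹ * τ b := by
    have e1 : h * τ b * h⁻¹ = τ b := by
      have := congrArg τ hbh
      rwa [map_mul, map_mul, map_inv, hτ] at this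
    calc h * (b⁻¹ * τ b) * h⁻¹ = (h * b * h⁻¹)⁻¹ * (h * τ b * h⁻¹) := by group
      _ = b⁻¹ * τ b := by rw [hbh, e1]
  have h2 := hB b hb hbh e
  have h3 : τ b = b := (inv_mul_eq_one.1 h2).symm
  exact h1 b (hfix b hb h3) hbh

end Cfsg.Agent.OddHalf.D7TwF4.Growth.Tools
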