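import Cfsg.Agent.OddHalf.D7TwF4.Growth.Frame

/-!
# Growth for `²F₄(q)`: the output of levels 1 - 3, input of levels 4, 5 (helper702; text bb ODD 13178)

`N i` (`i` odd) is the group `N_i` of order `q ^ 18`, `B i` (`i` even) the double of `X i` (order `q ^ 4`).
-/

set_option autoImplicit false
set_option linter.unusedVariables false

namespace Cfsg.Agent.OddHalf.D7TwF4.Growth.Two

open Cfsg.Agent.OddHalf.D7TwF4.Growth.Defs Cfsg.Agent.OddHalf.D7TwF4.Growth.Tools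
open Cfsg.Agent.OddHalf.D7TwF4.Growth.Frame

variable {G : Type*} [Group G]

/-- `D₀ = A₀ B₀` -/
def D (W B : ℤ → Subgroup G) : Subgroup G := Q2 W ⊔ B 0
/-- `A₀ B₀ B₂` -/
def P (W B : ℤ → Subgroup G) : Subgroup G := D W B ⊔ B 2
/-- `N'' = W₋₂ W₋₁ B₀ W₁ B₂ W₃` -/
def M (W B : ℤ → Subgroup G) : Subgroup G := P W B ⊔ W 3
/-- `Q' = B₋₂ W₋₁ B₀ W₁ B₂ W₃` -/
def Qp (W B : ℤ → Subgroup G) : Subgroup G := M W B ⊔ B (-2)
/-- `Q' W₋₃` -/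
def Qx (W B : ℤ → Subgroup G) : Subgroup G := Qp W B ⊔ W (-3)
/-- `U* = W₋₃ B₋₂ W₋₁ B₀ W₁ B₂ W₃ B₄` -/
def Us (W B : ℤ → Subgroup G) : Subgroup G := Qx W B ⊔ W 4 ⊔ B 4
/-- `U = X₋₃ ⋯ X₄` -/
def U (X Y : ℤ → Subgroup G) : Subgroup G := Q0 X Y ⊔ Y 4 ⊔ X 4

/-- The facts in the standard position. -/
structure Base2 (τ : G →* G) (X Y W T B N : ℤ → Subgroup G) : Prop where
  /-- `(O4)` -/
  o4 : Cm (W 3) (X (-1))
  nE : Cm (N 1) (EK W)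
  ncomm : Cl (N 1) (N 1) (EK W)
  nsq : ∀ n ∈ N 1, n * n ∈ EK W
  ndbl : Dbl τ (N 1) (NK X Y)
  nA : Q2 W ≤ N 1
  n5 : Nz (X 5) (N 1)
  n4 : Nz (X 4) (N 1)
  nT : ∀ i, Nz (T i) (N 1)
  nB : B 0 ≤ N 1
  ndec : N 1 = M W B ⊔ W 4
  db : DB τ (B 0) (X 0) (W 0) (Y 0)
  bA : Cm (B 0) (Q2 W)
  b4 : Cm (B 0) (X 4)
  bT : Cm (T 0) (B 0)
  bTn : ∀ i, Nz (T i) (B 0)

/-- The input of levels 4, 5. -/
structure Inp2 (τ : G →* G) (X Y W T B N : ℤ → Subgroup G) : Prop extends Inp τ X Y W T where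
  fr2 : ∀ c e : ℤ, e = 1 ∨ e = -1 → Base2 τ (F c e X) (F c e Y) (F c e W) (F c e T) (F c e B) (F c e N)

theorem inp2 {τ : G →* G} {X Y W T B N : ℤ → Subgroup G} (h : Inp2 τ X Y W T B N) (c : ℤ) {e : ℤ}
    (he : e = 1 ∨ e = -1) :
    Inp2 τ (F c e X) (F c e Y) (F c e W) (F c e T) (F c e B) (F c e N) where
  toInp := inp h.toInp c he
  fr2 c' e' he' := by
    have h1 := h.fr2 (c + e * c') (e * e') (by
      rcases he with rfl | rfl <;> rcases he' with rfl | rfl <;> norm_num)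
    rw [F_F, F_F, F_F, F_F, F_F, F_F]
    exact h1

theorem base2 {τ : G →* G} {X Y W T B N : ℤ → Subgroup G} (h : Inp2 τ X Y W T B N) : Base2 τ X Y W T B N := by
  have h1 := h.fr2 0 1 (Or.inl rfl)
  rwa [F_id, F_id, F_id, F_id, F_id, F_id] at h1

/-- the shift `k ↦ 2 c + k` -/
theorem sh2 {τ : G →* G} {X Y W T B N : ℤ → Subgroup G} (h : Inp2 τ X Y W T B N) (c : ℤ) :
    Inp2 τ (F c 1 X) (F c 1 Y) (F c 1 W) (F c 1 T) (F c 1 B) (F c 1 N) := inp2 h c (Or.inl rfl)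

/-- the reflection `k ↦ 2 c - k` -/
theorem rf2 {τ : G →* G} {X Y W T B N : ℤ → Subgroup G} (h : Inp2 τ X Y W T B N) (c : ℤ) :
    Inp2 τ (F c (-1) X) (F c (-1) Y) (F c (-1) W) (F c (-1) T) (F c (-1) B) (F c (-1) N) := inp2 h c (Or.inr rfl)

end Cfsg.Agent.OddHalf.D7TwF4.Growth.Two
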